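import Mathlib

/-!
# Arithmetic for the recognition of `PSU₃(q)`
-/

set_option autoImplicit false

namespace Cfsg.Agent.ONan.Arith

/-- reduction modulo `p ^ c + 1` -/
theorem int_dvd_reduce {p c k r : ℕ} (s : ℤ) (h : ((p : ℤ) ^ c + 1) ∣ (p : ℤ) ^ (2 * c * k + r) + s) :
    ((p : ℤ) ^ c + 1) ∣ (p : ℤ) ^ r + s := by
  have h1 : ((p : ℤ) ^ c + 1) ∣ (p : ℤ) ^ (2 * c * k) - 1 := by
    have e : (p : ℤ) ^ (2 * c * k) - 1 = ((p : ℤ) ^ (2 * c)) ^ k - 1 ^ k := by
      rw [one_pow, ← pow_mul]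
    rw [e]
    refine Dvd.dvd.trans ?_ (sub_dvd_pow_sub_pow _ _ k)
    exact ⟨(p : ℤ) ^ c - 1, by ring⟩
  have e2 : (p : ℤ) ^ (2 * c * k + r) + s = ((p : ℤ) ^ (2 * c * k) - 1) * (p : ℤ) ^ r +
      ((p : ℤ) ^ r + s) := by rw [pow_add]; ring
  rw [e2] at h
  exact (dvd_add_right (Dvd.dvd.mul_right h1 _)).mp h

theorem two_mul_dvd_of_dvd {p c m : ℕ} (hp : 2 ≤ p) (hc : 1 ≤ c) (h : p ^ c + 1 ∣ p ^ m - 1) :
    2 * c ∣ m := by
  have hpm : 1 ≤ p ^ m := Nat.one_le_pow _ _ (by omega)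
  have hz : ((p : ℤ) ^ c + 1) ∣ (p : ℤ) ^ m + (-1) := by
    have := Int.natCast_dvd_natCast.mpr h
    push_cast [Nat.cast_sub hpm] at this
    rwa [sub_eq_add_neg] at this
  set k := m / (2 * c) with hk
  set r := m % (2 * c) with hr
  have hm : m = 2 * c * k + r := (Nat.div_add_mod m (2 * c)).symm
  have hr2 : r < 2 * c := Nat.mod_lt _ (by omega)
  rw [hm] at hz
  have h1 := int_dvd_reduce (-1) hz
  have hr0 : r = 0 := by
    by_contra hr0
    by_cases hrc : r < c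
    · have h2 : (p : ℤ) ^ r + (-1) < (p : ℤ) ^ c + 1 := by
        have : p ^ r ≤ p ^ c := Nat.pow_le_pow_right (by omega) hrc.le
        have : (p : ℤ) ^ r ≤ (p : ℤ) ^ c := by exact_mod_cast this
        omega
      have h3 : 0 < (p : ℤ) ^ r + (-1) := by
        have : 2 ^ 1 ≤ p ^ r := (Nat.pow_le_pow_left hp 1).trans
          (Nat.pow_le_pow_right (by omega) (by omega))
        have : (2 : ℤ) ≤ (p : ℤ) ^ r := by exact_mod_cast this
        omega
      exact absurd (Int.le_of_dvd h3 h1) (by omega)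
    · obtain ⟨i, hi⟩ := Nat.exists_eq_add_of_le (not_lt.mp hrc)
      have hic : i < c := by omega
      rw [hi] at h1
      have e : (p : ℤ) ^ (c + i) + (-1) = ((p : ℤ) ^ c + 1) * (p : ℤ) ^ i - ((p : ℤ) ^ i + 1) := by
        rw [pow_add]; ring
      rw [e] at h1
      have h2 := (dvd_sub_right (dvd_mul_right _ _)).mp h1
      have h3 : (0 : ℤ) < (p : ℤ) ^ i + 1 := by positivity
      have h4 := Int.le_of_dvd h3 h2
      have h5 : p ^ i < p ^ c := Nat.pow_lt_pow_right (by omega) hic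
      have h6 : (p : ℤ) ^ i < (p : ℤ) ^ c := by exact_mod_cast h5
      omega
  rw [hm, hr0, add_zero]
  exact dvd_mul_right _ _

theorem odd_mul_of_dvd {p c m : ℕ} (hp : 2 ≤ p) (hc : 1 ≤ c) (h : p ^ c + 1 ∣ p ^ m + 1) :
    ∃ i, m = c * (2 * i + 1) := by
  have hz : ((p : ℤ) ^ c + 1) ∣ (p : ℤ) ^ m + 1 := by
    exact_mod_cast Int.natCast_dvd_natCast.mpr h
  set k := m / (2 * c) with hk
  set r := m % (2 * c) with hr
  have hm : m = 2 * c * k + r := (Nat.div_add_mod m (2 * c)).symm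
  have hr2 : r < 2 * c := Nat.mod_lt _ (by omega)
  rw [hm] at hz
  have h1 := int_dvd_reduce 1 hz
  have hr0 : r = c := by
    by_cases hrc : r < c
    · exfalso
      have h5 : p ^ r < p ^ c := Nat.pow_lt_pow_right (by omega) hrc
      have h6 : (p : ℤ) ^ r < (p : ℤ) ^ c := by exact_mod_cast h5
      have h3 : (0 : ℤ) < (p : ℤ) ^ r + 1 := by positivity
      have h4 := Int.le_of_dvd h3 h1
      omega
    · obtain ⟨i, hi⟩ := Nat.exists_eq_add_of_le (not_lt.mp hrc)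
      have hic : i < c := by omega
      rw [hi] at h1
      have e : (p : ℤ) ^ (c + i) + 1 = ((p : ℤ) ^ c + 1) * (p : ℤ) ^ i - ((p : ℤ) ^ i - 1) := by
        rw [pow_add]; ring
      rw [e] at h1
      have h2 := (dvd_sub_right (dvd_mul_right _ _)).mp h1
      by_contra hne
      have hi0 : i ≠ 0 := by
        rintro rfl
        exact hne (by omega)
      have h7 : 2 ^ 1 ≤ p ^ i := (Nat.pow_le_pow_left hp 1).trans
          (Nat.pow_le_pow_right (by omega) (by omega))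
      have h8 : (2 : ℤ) ≤ (p : ℤ) ^ i := by exact_mod_cast h7
      have h3 : (0 : ℤ) < (p : ℤ) ^ i - 1 := by omega
      have h4 := Int.le_of_dvd h3 h2
      have h5 : p ^ i < p ^ c := Nat.pow_lt_pow_right (by omega) hic
      have h6 : (p : ℤ) ^ i < (p : ℤ) ^ c := by exact_mod_cast h5
      omega
  exact ⟨k, by rw [hm, hr0]; ring⟩

/-- geometric sums of odd numbers with an odd number of terms -/
theorem odd_geom {f : ℕ} (hf : Odd f) (i : ℕ) : Odd (∑ j ∈ Finset.range (2 * i + 1), f ^ j) := by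
  induction i with
  | zero => simp
  | succ i ih =>
    rw [show 2 * (i + 1) + 1 = 2 * i + 1 + 1 + 1 by ring, Finset.sum_range_succ,
      Finset.sum_range_succ, add_assoc]
    exact ih.add_even (hf.pow.add_odd hf.pow)

theorem geom_mul {f : ℕ} (hf : 1 ≤ f) (m : ℕ) :
    (∑ j ∈ Finset.range m, f ^ j) * (f - 1) = f ^ m - 1 := by
  have h := geom_sum_mul (f : ℤ) m
  have hfm : 1 ≤ f ^ m := Nat.one_le_pow _ _ hf
  zify [hf, hfm]
  exact h

/-- odd divisors divide the odd part -/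
theorem odd_dvd_ordCompl {G m : ℕ} (hG : Odd G) (h : G ∣ m) : G ∣ ordCompl[2] m := by
  have h1 : ordProj[2] m * ordCompl[2] m = m := Nat.ordProj_mul_ordCompl_eq_self m 2
  rw [← h1] at h
  exact (Nat.Coprime.dvd_mul_left (Nat.Coprime.pow_right _ (Nat.coprime_two_right.mpr hG))).mp h

theorem geom_dvd_ordCompl {f i : ℕ} (hf : Odd f) :
    (∑ j ∈ Finset.range (2 * i + 1), f ^ j) ∣ ordCompl[2] (f ^ (2 * i + 1) - 1) := by
  apply odd_dvd_ordCompl (odd_geom hf i)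
  rw [← geom_mul hf.pos]
  exact dvd_mul_right _ _

theorem le_geom (f i : ℕ) : f ^ (2 * i) ≤ ∑ j ∈ Finset.range (2 * i + 1), f ^ j := by
  rw [Finset.sum_range_succ]
  exact Nat.le_add_left _ _

/-- Step 1. -/
theorem step_one {p n c N : ℕ} (hp : p.Prime) (hp2 : p ≠ 2) (hn : 1 ≤ n)
    (h : (p ^ n) ^ 3 - p ^ c = (p ^ c + 1) * p ^ c * N) (hN : N ∣ (p ^ n) ^ 2 - 1) : c = n := by
  have hp3 : 3 ≤ p := by
    have := hp.two_le
    omega
  have hq : 3 ≤ p ^ n := hp3.trans (Nat.le_self_pow (by omega) p)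
  have hq2 : 3 * 3 ≤ (p ^ n) ^ 2 := by
    rw [sq]; exact Nat.mul_le_mul hq hq
  have hNle : N ≤ (p ^ n) ^ 2 - 1 := Nat.le_of_dvd (by omega) hN
  have hN0 : N ≠ 0 := by
    rintro rfl
    rw [zero_dvd_iff] at hN
    omega
  have hpc : 1 ≤ p ^ c := Nat.one_le_pow _ _ (by omega)
  have hlt : p ^ c < (p ^ n) ^ 3 := by
    by_contra hcon
    have h0 : (p ^ n) ^ 3 - p ^ c = 0 := by omega
    rw [h0] at h
    have : 0 < (p ^ c + 1) * p ^ c * N := by positivity
    omega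
  rw [← pow_mul] at hlt
  have hc3 : c < n * 3 := (Nat.pow_lt_pow_iff_right (by omega)).mp hlt
  obtain ⟨m, hm⟩ := Nat.exists_eq_add_of_lt hc3
  -- divide by `p ^ c`
  have h1 : p ^ (m + 1) - 1 = (p ^ c + 1) * N := by
    have e : (p ^ n) ^ 3 = p ^ c * p ^ (m + 1) := by
      rw [← pow_mul, hm, ← pow_add, add_assoc]
    have e2 : p ^ c * (p ^ (m + 1) - 1) = p ^ c * ((p ^ c + 1) * N) := by
      rw [Nat.mul_sub, mul_one, ← e, h]
      ring
    exact Nat.eq_of_mul_eq_mul_left (by omega) e2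
  -- `c ≥ 1`
  have hc1 : 1 ≤ c := by
    by_contra hc0
    have hc0 : c = 0 := by omega
    subst hc0
    rw [pow_zero] at h1
    have e : p ^ (m + 1) = (p ^ n) ^ 2 * p ^ n := by
      rw [← pow_succ, ← pow_mul]
      congr 1
      omega
    rw [e] at h1
    have h2 : (p ^ n) ^ 2 * 3 ≤ (p ^ n) ^ 2 * p ^ n := Nat.mul_le_mul_left _ hq
    omega
  obtain ⟨j, hj⟩ := two_mul_dvd_of_dvd hp.two_le hc1 (h1 ▸ dvd_mul_right _ _)
  have h3n : 3 * n = c * (2 * j + 1) := by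
    have : 3 * n = c + (m + 1) := by omega
    rw [this, hj]
    ring
  -- `j ≤ 2`
  have hj0 : j ≠ 0 := by
    rintro rfl
    omega
  rcases Nat.lt_or_ge 2 j with hj3 | hj2
  · exfalso
    -- size
    have hexp : 2 * n + c + 1 ≤ m + 1 := by
      have : c * (2 * j + 1) ≥ c * 7 := Nat.mul_le_mul_left _ (by omega)
      have h6 : 3 * (m + 1) = 3 * (2 * c * j) := by rw [hj]
      have h7 : 3 * (2 * c * j) = 3 * (c * (2 * j + 1)) - 3 * c := by
        have : 3 * (c * (2 * j + 1)) = 3 * (2 * c * j) + 3 * c := by ring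
        omega
      omega
    have h5 : p ^ (2 * n + c + 1) ≤ p ^ (m + 1) := Nat.pow_le_pow_right (by omega) hexp
    have h6 : p ^ (2 * n + c + 1) = (p ^ n) ^ 2 * p ^ c * p := by
      rw [← pow_mul, ← pow_add, ← pow_succ, mul_comm n 2]
    have h7 : (p ^ c + 1) * N ≤ (p ^ c + 1) * ((p ^ n) ^ 2 - 1) := Nat.mul_le_mul_left _ hNle
    have h8 : (p ^ c + 1) * ((p ^ n) ^ 2 - 1) + (p ^ c + 1) = (p ^ c + 1) * (p ^ n) ^ 2 := by
      rw [← Nat.mul_succ]
      congr 1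
      omega
    have h9 : (p ^ n) ^ 2 * p ^ c * 3 ≤ (p ^ n) ^ 2 * p ^ c * p := Nat.mul_le_mul_left _ hp3
    have h10 : (p ^ c + 1) * (p ^ n) ^ 2 ≤ 2 * ((p ^ n) ^ 2 * p ^ c) := by
      have : (p ^ c + 1) * (p ^ n) ^ 2 ≤ (2 * p ^ c) * (p ^ n) ^ 2 := Nat.mul_le_mul_right _ (by omega)
      linarith
    have h11 : 1 ≤ (p ^ n) ^ 2 * p ^ c := Nat.one_le_iff_ne_zero.mpr (by positivity)
    omega
  · interval_cases j
    · exact absurd rfl hj0
    · omega
    · exfalso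
      -- `3 n = 5 c`
      have h5 : 3 * n = 5 * c := by omega
      have h3c : 3 ∣ c := by
        have : 3 ∣ 5 * c := ⟨n, h5.symm⟩
        exact (Nat.Coprime.dvd_mul_left (by norm_num)).mp this
      obtain ⟨e, rfl⟩ := h3c
      have hne : n = 5 * e := by omega
      have he : 1 ≤ e := by omega
      subst hne
      have hm12 : m + 1 = 12 * e := by rw [hj]; ring
      set x := p ^ e with hx
      have hx3 : 3 ≤ x := hp3.trans (Nat.le_self_pow (by omega) p)
      have e1 : p ^ (3 * e) = x ^ 3 := by rw [hx, ← pow_mul, mul_comm]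
      have e2 : p ^ (12 * e) = x ^ 12 := by rw [hx, ← pow_mul, mul_comm]
      have e3 : (p ^ (5 * e)) ^ 2 = x ^ 10 := by
        rw [hx, ← pow_mul, ← pow_mul]
        congr 1
        ring
      rw [hm12, e1, e2] at h1
      rw [e3] at hN
      have hx12 : 1 ≤ x ^ 12 := Nat.one_le_pow _ _ (by omega)
      have hx10 : 1 ≤ x ^ 10 := Nat.one_le_pow _ _ (by omega)
      have hNval : (N : ℤ) = ((x : ℤ) ^ 6 + 1) * ((x : ℤ) - 1) * ((x : ℤ) ^ 2 + x + 1) := by
        have h6 : ((x : ℤ) ^ 3 + 1) * N = (x : ℤ) ^ 12 - 1 := by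
          have := congrArg (fun t : ℕ => (t : ℤ)) h1
          push_cast [Nat.cast_sub hx12] at this
          exact this.symm
        have h7 : ((x : ℤ) ^ 3 + 1) ≠ 0 := by positivity
        apply mul_left_cancel₀ h7
        rw [h6]
        ring
      have hdv : ((x : ℤ) ^ 2 + x + 1) ∣ (x : ℤ) ^ 10 - 1 := by
        have h8 : (N : ℤ) ∣ (x : ℤ) ^ 10 - 1 := by
          have := Int.natCast_dvd_natCast.mpr hN
          push_cast [Nat.cast_sub hx10] at this
          exact this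
        refine Dvd.dvd.trans ?_ h8
        rw [hNval]
        exact dvd_mul_left _ _
      have hdv2 : ((x : ℤ) ^ 2 + x + 1) ∣ (x : ℤ) - 1 := by
        have e4 : (x : ℤ) ^ 10 - 1 = ((x : ℤ) ^ 2 + x + 1) * ((x : ℤ) * ((x : ℤ) - 1) *
            ((x : ℤ) ^ 6 + (x : ℤ) ^ 3 + 1)) + ((x : ℤ) - 1) := by ring
        rw [e4] at hdv
        exact (dvd_add_right (dvd_mul_right _ _)).mp hdv
      have hx' : (3 : ℤ) ≤ x := by exact_mod_cast hx3
      have := Int.le_of_dvd (by omega) hdv2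
      nlinarith

theorem step_one' {p n N : ℕ} (hp : p.Prime) 
    (h : (p ^ n) ^ 3 - p ^ n = (p ^ n + 1) * p ^ n * N) : N = p ^ n - 1 := by
  have hq : 1 ≤ p ^ n := Nat.one_le_pow _ _ hp.pos
  have e : (p ^ n) ^ 3 - p ^ n = (p ^ n + 1) * p ^ n * (p ^ n - 1) := by
    have h3 : p ^ n ≤ (p ^ n) ^ 3 := Nat.le_self_pow (by norm_num) _
    zify [hq, h3]
    ring
  rw [e] at h
  exact (Nat.eq_of_mul_eq_mul_left (by positivity) h).symm

/-- Step 4 (a). -/
theorem step_four_a {p n c N : ℕ} (hp : p.Prime) (hp2 : p ≠ 2) (hcn : c < n)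
    (h : p ^ n - p ^ c = (p ^ c + 1) * p ^ c * N) (hN : ordCompl[2] (p ^ n - 1) ∣ N) : c = 0 := by
  have hp3 : 3 ≤ p := by
    have := hp.two_le
    omega
  have hodd : Odd p := hp.odd_of_ne_two hp2
  by_contra hc0
  obtain ⟨m, hm⟩ := Nat.exists_eq_add_of_lt hcn
  have hpc : 1 ≤ p ^ c := Nat.one_le_pow _ _ (by omega)
  have h1 : p ^ (m + 1) - 1 = (p ^ c + 1) * N := by
    have e : p ^ n = p ^ c * p ^ (m + 1) := by
      rw [hm, ← pow_add, add_assoc]
    have e2 : p ^ c * (p ^ (m + 1) - 1) = p ^ c * ((p ^ c + 1) * N) := by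
      rw [Nat.mul_sub, mul_one, ← e, h]
      ring
    exact Nat.eq_of_mul_eq_mul_left (by omega) e2
  obtain ⟨i, hi⟩ := two_mul_dvd_of_dvd hp.two_le (by omega) (h1 ▸ dvd_mul_right _ _)
  have hn : n = c * (2 * i + 1) := by
    rw [hm, add_assoc, hi]; ring
  have e1 : p ^ n = (p ^ c) ^ (2 * i + 1) := by rw [hn, pow_mul]
  have e2 : p ^ (m + 1) = (p ^ c) ^ (2 * i) := by
    rw [hi, ← pow_mul]
    congr 1
    ring
  have h2 := (geom_dvd_ordCompl (f := p ^ c) (i := i) hodd.pow).trans (e1 ▸ hN)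
  have hpos : 0 < p ^ (m + 1) - 1 := by
    have : 3 ^ 1 ≤ p ^ (m + 1) := (Nat.pow_le_pow_left hp3 1).trans
      (Nat.pow_le_pow_right (by omega) (by omega))
    omega
  have hN0 : 0 < N := by
    rcases Nat.eq_zero_or_pos N with h0 | h0
    · rw [h0, mul_zero] at h1
      omega
    · exact h0
  have h3 := Nat.le_of_dvd hN0 h2
  have h4 := le_geom (p ^ c) i
  rw [← e2] at h4
  have h5 : 1 * N ≤ (p ^ c + 1) * N := Nat.mul_le_mul_right _ (by omega)
  omega

/-- Step 4 (b). -/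
theorem step_four_b {p n c N : ℕ} (hp : p.Prime) (hp2 : p ≠ 2) (hc : 1 ≤ c) (hcn : c < n)
    (hd : p ^ c + 1 ∣ p ^ n + 1) (h : p ^ c - 1 = 2 * N) (hN : ordCompl[2] (p ^ n - 1) ∣ N) :
    False := by
  have hp3 : 3 ≤ p := by
    have := hp.two_le
    omega
  have hodd : Odd p := hp.odd_of_ne_two hp2
  obtain ⟨i, hi⟩ := odd_mul_of_dvd hp.two_le hc hd
  have hi0 : i ≠ 0 := by
    rintro rfl
    omega
  have e1 : p ^ n = (p ^ c) ^ (2 * i + 1) := by rw [hi, pow_mul]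
  have h2 := (geom_dvd_ordCompl (f := p ^ c) (i := i) hodd.pow).trans (e1 ▸ hN)
  have hpc : 3 ≤ p ^ c := hp3.trans (Nat.le_self_pow (by omega) p)
  have h3 := Nat.le_of_dvd (by omega) h2
  have h4 := le_geom (p ^ c) i
  have h5 : p ^ c ≤ (p ^ c) ^ (2 * i) := Nat.le_self_pow (by omega) _
  omega

end Cfsg.Agent.ONan.Arith
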