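import Mathlib
import Cfsg.Agent.ONan.RankOne

/-!
# Counting in relative rank one data
-/

set_option autoImplicit false

namespace Cfsg.Agent.ONan.Count

open Cfsg.Agent.ONan.RankOne

/-- Burnside counting: if all point stabilisers have order `κ` then `|S|` divides `κ |Y|`. -/
theorem card_dvd_mul {S Y : Type*} [Group S] [MulAction S Y] [Finite S] [Finite Y] (κ : ℕ)
    (h : ∀ y : Y, Nat.card (MulAction.stabilizer S y) = κ) : Nat.card S ∣ κ * Nat.card Y := by
  classical
  let _ : Fintype S := Fintype.ofFinite S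
  let _ : Fintype Y := Fintype.ofFinite Y
  let _ : Fintype (Quotient (MulAction.orbitRel S Y)) := Fintype.ofFinite _
  have h1 := MulAction.sum_card_fixedBy_eq_card_orbits_mul_card_group S Y
  have h2 : ∑ s : S, Fintype.card (MulAction.fixedBy Y s) = κ * Fintype.card Y := by
    have e1 : ∀ s : S, Fintype.card (MulAction.fixedBy Y s) =
        (Finset.univ.filter (fun y : Y => s • y = y)).card := by
      intro s
      rw [Fintype.card_subtype]
      congr 1
    have e2 : ∀ y : Y, (Finset.univ.filter (fun s : S => s • y = y)).card = κ := by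
      intro y
      rw [← h y, Nat.card_eq_fintype_card, Fintype.card_subtype]
      congr 1
    simp only [e1]
    have e3 := Finset.sum_card_bipartiteAbove_eq_sum_card_bipartiteBelow
      (s := (Finset.univ : Finset S)) (t := (Finset.univ : Finset Y)) (fun s y => s • y = y)
    simp only [Finset.bipartiteAbove, Finset.bipartiteBelow] at e3
    rw [e3]
    simp only [e2]
    rw [Finset.sum_const, smul_eq_mul, Finset.card_univ, mul_comm]
  rw [Nat.card_eq_fintype_card, Nat.card_eq_fintype_card, ← h2, h1]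
  exact dvd_mul_left _ _

/-- Version for a subgroup acting on an invariant set. -/
theorem card_dvd_mul_set {G α : Type*} [Group G] [MulAction G α] [Finite α] (S : Subgroup G) [Finite S]
    (Y : Set α) (hinv : ∀ s ∈ S, ∀ y ∈ Y, s • y ∈ Y) (κ : ℕ)
    (h : ∀ y ∈ Y, Nat.card {s : G // s ∈ S ∧ s • y = y} = κ) : Nat.card S ∣ κ * Nat.card Y := by
  let _ : MulAction S Y :=
    { smul := fun s y => ⟨(s : G) • (y : α), hinv s s.2 y y.2⟩
      one_smul := fun y => Subtype.ext (one_smul G (y : α))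
      mul_smul := fun s t y => Subtype.ext (mul_smul (s : G) (t : G) (y : α)) }
  apply card_dvd_mul κ
  intro y
  rw [← h y y.2]
  refine Nat.card_congr ⟨fun s => ⟨s.1.1, s.1.2, congrArg Subtype.val s.2⟩,
    fun s => ⟨⟨s.1, s.2.1⟩, Subtype.ext s.2.2⟩, fun s => rfl, fun s => rfl⟩

/-- Version for free actions. -/
theorem card_dvd_set {G α : Type*} [Group G] [MulAction G α] [Finite α] (S : Subgroup G) [Finite S]
    (Y : Set α) (hinv : ∀ s ∈ S, ∀ y ∈ Y, s • y ∈ Y)
    (h : ∀ y ∈ Y, ∀ s ∈ S, s • y = y → s = 1) : Nat.card S ∣ Nat.card Y := by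
  have := card_dvd_mul_set S Y hinv 1 (by
    intro y hy
    rw [Nat.card_eq_one_iff_unique]
    exact ⟨⟨fun s t => Subtype.ext ((h y hy s.1 s.2.1 s.2.2).trans
      (h y hy t.1 t.2.1 t.2.2).symm)⟩, ⟨⟨1, S.one_mem, one_smul _ _⟩⟩⟩)
  rwa [one_mul] at this

variable {G Ω : Type*} [Group G] [MulAction G Ω] {L : Subgroup G} {Δ : Set Ω} {a b : Ω}
  {Q D : Subgroup G}

/-- The main count. -/
theorem count [Finite G] [Finite Ω] (R : R1 L Δ a b Q D) (J : Set G)
    (hJc : ∀ l ∈ L, ∀ g ∈ J, l * g * l⁻¹ ∈ J) (hJL : ∀ g ∈ J, g ∈ L) (f : ℕ)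
    (hf : ∀ g ∈ J, Nat.card {c // c ∈ Δ ∧ g • c = c} = f + 1) :
    Nat.card {g // g ∈ J ∧ g • a = a ∧ g • b = b} * (Nat.card Q - f) =
      (f + 1) * f * Nat.card {g // g ∈ J ∧ g • a = b} := by
  classical
  let _ : Fintype G := Fintype.ofFinite G
  let _ : Fintype Ω := Fintype.ofFinite Ω
  set m := Nat.card {g // g ∈ J ∧ g • a = a ∧ g • b = b} with hm
  set N := Nat.card {g // g ∈ J ∧ g • a = b} with hN
  set Δf : Finset Ω := Finset.univ.filter (fun c => c ∈ Δ) with hΔf
  set Jf : Finset G := Finset.univ.filter (fun g => g ∈ J) with hJf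
  have hΔm : ∀ c, c ∈ Δf ↔ c ∈ Δ := fun c => by simp [hΔf]
  have hJm : ∀ g, g ∈ Jf ↔ g ∈ J := fun c => by simp [hJf]
  have hΔc : Δf.card = Nat.card Q + 1 := by
    rw [← R.card_Δ, Nat.card_eq_fintype_card, Fintype.card_subtype]
  have hfix : ∀ g ∈ Jf, (Δf.filter (fun c => g • c = c)).card = f + 1 := by
    intro g hg
    rw [← hf g ((hJm g).mp hg), Nat.card_eq_fintype_card, Fintype.card_subtype]
    congr 1
    ext c
    simp [hΔf]
  have h1 : ∀ p ∈ Δf.offDiag, (Jf.filter (fun g => g • p.1 = p.1 ∧ g • p.2 = p.2)).card = m := by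
    rintro ⟨c, d⟩ hp
    obtain ⟨hc, hd, hcd⟩ := Finset.mem_offDiag.mp hp
    obtain ⟨l, hl, rfl, rfl⟩ := R.two_trans ((hΔm c).mp hc) ((hΔm d).mp hd) hcd
    rw [hm, Nat.card_eq_fintype_card, Fintype.card_subtype]
    symm
    apply Finset.card_bij' (fun g _ => l * g * l⁻¹) (fun g _ => l⁻¹ * g * l)
    · intro g hg
      simp only [Finset.mem_filter, Finset.mem_univ, true_and] at hg ⊢
      refine ⟨(hJm _).mpr (hJc l hl g hg.1), ?_, ?_⟩
      · rw [mul_smul, mul_smul, inv_smul_smul, hg.2.1]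
      · rw [mul_smul, mul_smul, inv_smul_smul, hg.2.2]
    · intro g hg
      simp only [Finset.mem_filter, Finset.mem_univ, true_and] at hg ⊢
      refine ⟨?_, ?_, ?_⟩
      · have := hJc l⁻¹ (L.inv_mem hl) g ((hJm _).mp hg.1)
        rwa [inv_inv] at this
      · rw [mul_smul, mul_smul, hg.2.1, inv_smul_smul]
      · rw [mul_smul, mul_smul, hg.2.2, inv_smul_smul]
    · intro g _; group
    · intro g _; group
  have h3 : ∀ p ∈ Δf.offDiag, (Jf.filter (fun g => g • p.1 = p.2)).card = N := by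
    rintro ⟨c, d⟩ hp
    obtain ⟨hc, hd, hcd⟩ := Finset.mem_offDiag.mp hp
    obtain ⟨l, hl, rfl, rfl⟩ := R.two_trans ((hΔm c).mp hc) ((hΔm d).mp hd) hcd
    rw [hN, Nat.card_eq_fintype_card, Fintype.card_subtype]
    symm
    apply Finset.card_bij' (fun g _ => l * g * l⁻¹) (fun g _ => l⁻¹ * g * l)
    · intro g hg
      simp only [Finset.mem_filter, Finset.mem_univ, true_and] at hg ⊢
      refine ⟨(hJm _).mpr (hJc l hl g hg.1), ?_⟩
      rw [mul_smul, mul_smul, inv_smul_smul, hg.2]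
    · intro g hg
      simp only [Finset.mem_filter, Finset.mem_univ, true_and] at hg ⊢
      refine ⟨?_, ?_⟩
      · have := hJc l⁻¹ (L.inv_mem hl) g ((hJm _).mp hg.1)
        rwa [inv_inv] at this
      · rw [mul_smul, mul_smul, hg.2, inv_smul_smul]
    · intro g _; group
    · intro g _; group
  have h2 : ∀ g ∈ Jf, (Δf.offDiag.filter (fun p => g • p.1 = p.1 ∧ g • p.2 = p.2)).card =
      (f + 1) * f := by
    intro g hg
    have e : Δf.offDiag.filter (fun p => g • p.1 = p.1 ∧ g • p.2 = p.2) =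
        (Δf.filter (fun c => g • c = c)).offDiag := by
      ext ⟨c, d⟩
      simp only [Finset.mem_filter, Finset.mem_offDiag]
      tauto
    rw [e, Finset.offDiag_card, hfix g hg, ← Nat.mul_sub_one, Nat.add_sub_cancel]
  have h4 : ∀ g ∈ Jf, (Δf.offDiag.filter (fun p => g • p.1 = p.2)).card = Nat.card Q - f := by
    intro g hg
    have e0 : (Δf.filter (fun c => ¬ g • c = c)).card = Nat.card Q - f := by
      have := Finset.card_filter_add_card_filter_not (s := Δf) (fun c => g • c = c)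
      rw [hfix g hg, hΔc] at this
      omega
    rw [← e0]
    symm
    refine Finset.card_bij (fun c _ => (c, g • c)) ?_ ?_ ?_
    · intro c hc
      obtain ⟨hc1, hc2⟩ := Finset.mem_filter.mp hc
      refine Finset.mem_filter.mpr ⟨Finset.mem_offDiag.mpr ⟨hc1, ?_, fun h => hc2 h.symm⟩, rfl⟩
      rw [hΔm]
      exact R.inv g (hJL g ((hJm g).mp hg)) c ((hΔm c).mp hc1)
    · intro c _ d _ h
      exact congrArg Prod.fst h
    · rintro ⟨c, d⟩ hp
      obtain ⟨hp1, hp2⟩ := Finset.mem_filter.mp hp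
      obtain ⟨hp3, hp4, hp5⟩ := Finset.mem_offDiag.mp hp1
      refine ⟨c, Finset.mem_filter.mpr ⟨hp3, fun h => hp5 (h.symm.trans hp2)⟩, Prod.ext rfl hp2⟩
  have s1 : Δf.offDiag.card * m = Jf.card * ((f + 1) * f) := by
    have e3 := Finset.sum_card_bipartiteAbove_eq_sum_card_bipartiteBelow
      (s := Δf.offDiag) (t := Jf) (fun p g => g • p.1 = p.1 ∧ g • p.2 = p.2)
    simp only [Finset.bipartiteAbove, Finset.bipartiteBelow] at e3
    rw [Finset.sum_congr rfl h1, Finset.sum_congr rfl h2, Finset.sum_const, Finset.sum_const,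
      smul_eq_mul, smul_eq_mul] at e3
    exact e3
  have s2 : Δf.offDiag.card * N = Jf.card * (Nat.card Q - f) := by
    have e3 := Finset.sum_card_bipartiteAbove_eq_sum_card_bipartiteBelow
      (s := Δf.offDiag) (t := Jf) (fun p g => g • p.1 = p.2)
    simp only [Finset.bipartiteAbove, Finset.bipartiteBelow] at e3
    rw [Finset.sum_congr rfl h3, Finset.sum_congr rfl h4, Finset.sum_const, Finset.sum_const,
      smul_eq_mul, smul_eq_mul] at e3
    exact e3
  have hpos : 0 < Δf.offDiag.card := by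
    rw [Finset.card_pos]
    exact ⟨(a, b), Finset.mem_offDiag.mpr ⟨(hΔm a).mpr R.a_mem, (hΔm b).mpr R.b_mem, R.ne⟩⟩
  apply Nat.eq_of_mul_eq_mul_left hpos
  calc Δf.offDiag.card * (m * (Nat.card Q - f)) = (Δf.offDiag.card * m) * (Nat.card Q - f) := by ring
    _ = (f + 1) * f * (Jf.card * (Nat.card Q - f)) := by rw [s1]; ring
    _ = (f + 1) * f * (Δf.offDiag.card * N) := by rw [s2]
    _ = Δf.offDiag.card * ((f + 1) * f * N) := by ring

end Cfsg.Agent.ONan.Count
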