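import Mathlib

/-!
# Subgroups of finite cyclic groups
-/

set_option autoImplicit false

namespace Cfsg.Agent.ONan.CyclicAux

variable {G : Type*} [Group G] {D K : Subgroup G}

/-- a subgroup `K` of a finite cyclic group consists of the elements with `x ^ |K| = 1` -/
theorem mem_iff_pow_card [Finite G] (hD : IsCyclic D) (hK : K ≤ D) {x : G} (hx : x ∈ D) :
    x ∈ K ↔ x ^ Nat.card K = 1 := by
  classical
  let _ : Fintype D := Fintype.ofFinite D
  constructor
  · intro h
    have := pow_card_eq_one' (G := K) (x := ⟨x, h⟩)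
    exact congrArg Subtype.val this
  · intro h
    have h1 := IsCyclic.card_pow_eq_one_le (α := D) (n := Nat.card K) Nat.card_pos
    set A : Finset D := Finset.univ.filter (fun a : D => a ^ Nat.card K = 1) with hA
    set B : Finset D := Finset.univ.filter (fun a : D => (a : G) ∈ K) with hB
    have hBA : B ⊆ A := by
      intro a ha
      rw [hB, Finset.mem_filter] at ha
      rw [hA, Finset.mem_filter]
      refine ⟨Finset.mem_univ _, ?_⟩
      apply Subtype.ext
      have h4 := pow_card_eq_one' (G := K) (x := ⟨a, ha.2⟩)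
      have h3 : (a : G) ^ Nat.card K = 1 := congrArg Subtype.val h4
      rw [SubmonoidClass.coe_pow, h3]
      rfl
    have hBc : B.card = Nat.card K := by
      rw [hB, ← Fintype.card_subtype, ← Nat.card_eq_fintype_card]
      exact Nat.card_congr ⟨fun a => ⟨a.1.1, a.2⟩, fun a => ⟨⟨a.1, hK a.2⟩, a.2⟩, fun a => rfl,
        fun a => rfl⟩
    have hAB : B = A := Finset.eq_of_subset_of_card_le hBA (by rw [hBc]; exact h1)
    have h2 : (⟨x, hx⟩ : D) ∈ A := by
      rw [hA, Finset.mem_filter]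
      exact ⟨Finset.mem_univ _, Subtype.ext h⟩
    rw [← hAB, hB, Finset.mem_filter] at h2
    exact h2.2

/-- an element of prime order modulo `K` -/
theorem exists_prime_mod [Finite G] (hD : IsCyclic D) (hK : K ≤ D) {r : ℕ} (hr : r.Prime)
    (h : r ∣ Nat.card D / Nat.card K) : ∃ j ∈ D, j ∉ K ∧ j ^ r ∈ K := by
  obtain ⟨x, hx⟩ := hD.exists_generator
  have ho : orderOf (x : G) = Nat.card D := by
    rw [Subgroup.orderOf_coe]
    exact orderOf_eq_card_of_forall_mem_zpowers hx
  have hdvd := Subgroup.card_dvd_of_le hK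
  obtain ⟨m, hm⟩ := hdvd
  have hκ : 0 < Nat.card K := Nat.card_pos
  have hD0 : 0 < Nat.card D := Nat.card_pos
  rw [hm, Nat.mul_div_cancel_left _ hκ] at h
  obtain ⟨l, hl⟩ := h
  have hl0 : 0 < l := by
    rcases Nat.eq_zero_or_pos l with h0 | h0
    · rw [h0, mul_zero] at hl
      rw [hl, mul_zero] at hm
      omega
    · exact h0
  refine ⟨(x : G) ^ l, D.pow_mem x.2 _, ?_, ?_⟩
  · rw [mem_iff_pow_card hD hK (D.pow_mem x.2 _), ← pow_mul]
    intro h1
    have h2 := orderOf_dvd_of_pow_eq_one h1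
    rw [ho, hm, hl] at h2
    have h3 := Nat.le_of_dvd (by positivity) h2
    have h4 : l * Nat.card K < Nat.card K * (r * l) := by
      have h5 : 0 < l * Nat.card K := by positivity
      have h6 : Nat.card K * (r * l) = r * (l * Nat.card K) := by ring
      rw [h6]
      have := hr.two_le
      nlinarith
    omega
  · rw [mem_iff_pow_card hD hK (D.pow_mem (D.pow_mem x.2 _) _), ← pow_mul, ← pow_mul]
    apply orderOf_dvd_iff_pow_eq_one.mp
    rw [ho, hm, hl]
    exact ⟨1, by ring⟩

/-- the order of `x` is divisible by a prime `r` if `x ^ (r κ) = 1` and `x ^ κ ≠ 1` -/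
theorem dvd_orderOf {x : G} {r κ : ℕ} (hr : r.Prime) (h1 : x ^ (r * κ) = 1) (h2 : x ^ κ ≠ 1) :
    r ∣ orderOf x := by
  by_contra h
  apply h2
  apply orderOf_dvd_iff_pow_eq_one.mp
  have h3 := orderOf_dvd_of_pow_eq_one h1
  exact (Nat.Coprime.dvd_mul_left (((Nat.Prime.coprime_iff_not_dvd hr).mpr h).symm)).mp h3

/-- a power of `x` has prime order modulo `K` -/
theorem exists_pow_prime_mod [Finite G] (hD : IsCyclic D) (hK : K ≤ D) {x : G} (hx : x ∈ D)
    (hxK : x ∉ K) : ∃ (r e : ℕ), r.Prime ∧ r ∣ Nat.card D / Nat.card K ∧ x ^ e ∉ K ∧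
      (x ^ e) ^ r ∈ K := by
  have hκ : 0 < Nat.card K := Nat.card_pos
  -- the order of `x ^ κ`
  set o := orderOf (x ^ Nat.card K) with ho
  have ho1 : o ≠ 1 := by
    rw [ho, Ne, orderOf_eq_one_iff]
    rwa [mem_iff_pow_card hD hK hx] at hxK
  have ho0 : 0 < o := orderOf_pos _
  have hr := Nat.minFac_prime ho1
  obtain ⟨e, he⟩ := Nat.minFac_dvd o
  have he0 : 0 < e := by
    rcases Nat.eq_zero_or_pos e with h0 | h0
    · rw [h0, mul_zero] at he
      omega
    · exact h0
  refine ⟨o.minFac, e, hr, ?_, ?_, ?_⟩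
  · refine (Nat.minFac_dvd o).trans ?_
    rw [ho]
    apply orderOf_dvd_of_pow_eq_one
    rw [← pow_mul, Nat.mul_div_cancel' (Subgroup.card_dvd_of_le hK)]
    have := pow_card_eq_one' (G := D) (x := ⟨x, hx⟩)
    exact congrArg Subtype.val this
  · rw [mem_iff_pow_card hD hK (D.pow_mem hx _), ← pow_mul, mul_comm, pow_mul]
    intro h
    have h1 := orderOf_dvd_of_pow_eq_one h
    rw [← ho] at h1
    have h2 := Nat.le_of_dvd he0 h1
    have h3 := hr.two_le
    have h4 : 2 * e ≤ o.minFac * e := Nat.mul_le_mul_right _ h3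
    omega
  · rw [mem_iff_pow_card hD hK (D.pow_mem (D.pow_mem hx _) _), ← pow_mul, ← pow_mul, ← mul_assoc]
    have e1 : e * o.minFac * Nat.card K = Nat.card K * o := by
      conv_rhs => rw [he]
      ring
    rw [e1, pow_mul, ho, pow_orderOf_eq_one]

/-- a generator of the Sylow `r`-subgroup of a cyclic group. -/
theorem exists_sylow_gen [Finite G] (hD : IsCyclic D) {m : ℕ} (hm : m ∣ Nat.card D) :
    ∃ x ∈ D, orderOf x = m := by
  obtain ⟨x, hx⟩ := hD.exists_generator
  have ho : orderOf (x : G) = Nat.card D := by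
    rw [Subgroup.orderOf_coe]
    exact orderOf_eq_card_of_forall_mem_zpowers hx
  have hD0 : Nat.card D ≠ 0 := Nat.card_pos.ne'
  have hm0 : 0 < m := Nat.pos_of_dvd_of_pos hm Nat.card_pos
  refine ⟨(x : G) ^ (Nat.card D / m), D.pow_mem x.2 _, ?_⟩
  rw [orderOf_pow_of_dvd (Nat.div_pos (Nat.le_of_dvd Nat.card_pos hm) hm0).ne'
    (by rw [ho]; exact Nat.div_dvd_of_dvd hm), ho, Nat.div_div_self hm hD0]

end Cfsg.Agent.ONan.CyclicAux
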