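import Mathlib
import Cfsg.Agent.ONan.RankOne
import Cfsg.Agent.ONan.Count

/-!
# The count of the conjugates of an element acting as an involution
-/

set_option autoImplicit false

namespace Cfsg.Agent.ONan.MainCount

open Cfsg.Agent.ONan.RankOne Cfsg.Agent.ONan.Count

/-! ### Cyclic groups -/

section Cyclic

variable {G : Type*} [Group G]

/-- In a cyclic group the elements whose square lies in a subgroup `K` form at most two cosets. -/
theorem inv_mul_mem_of_sq {D K : Subgroup G} (hD : IsCyclic D) {x y : G} (hx : x ∈ D)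
    (hy : y ∈ D) (hxK : x ∉ K) (hyK : y ∉ K) (hx2 : x * x ∈ K) (hy2 : y * y ∈ K) : x⁻¹ * y ∈ K := by
  obtain ⟨g, hg⟩ := hD.exists_generator
  have hcomm : ∀ a b : G, a ∈ D → b ∈ D → a * b = b * a := by
    intro a b ha hb
    obtain ⟨i, hi⟩ := Subgroup.mem_zpowers_iff.mp (hg ⟨a, ha⟩)
    obtain ⟨j, hj⟩ := Subgroup.mem_zpowers_iff.mp (hg ⟨b, hb⟩)
    have ei : (g : G) ^ i = a := congrArg Subtype.val hi
    have ej : (g : G) ^ j = b := congrArg Subtype.val hj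
    rw [← ei, ← ej, ← zpow_add, ← zpow_add, add_comm]
  let E : Subgroup D :=
    { carrier := {z | (z : G) * z ∈ K}
      mul_mem' := by
        intro a b ha hb
        show ((a * b : D) : G) * (a * b : D) ∈ K
        have : ((a * b : D) : G) * (a * b : D) = ((a : G) * a) * ((b : G) * b) := by
          rw [Subgroup.coe_mul, mul_assoc, ← mul_assoc (b : G), hcomm b a b.2 a.2]
          group
        rw [this]
        exact K.mul_mem ha hb
      one_mem' := by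
        show ((1 : D) : G) * (1 : D) ∈ K
        simp
      inv_mem' := by
        intro a ha
        show ((a⁻¹ : D) : G) * (a⁻¹ : D) ∈ K
        have : ((a⁻¹ : D) : G) * (a⁻¹ : D) = ((a : G) * a)⁻¹ := by
          rw [Subgroup.coe_inv, mul_inv_rev]
        rw [this]
        exact K.inv_mem ha }
  have hE : IsCyclic E := inferInstance
  obtain ⟨e, he⟩ := hE.exists_generator
  have he2 : ((e : D) : G) * (e : D) ∈ K := e.2
  have key : ∀ z : G, z ∈ D → z ∉ K → z * z ∈ K → ∃ i : ℤ, z = ((e : D) : G) ^ (2 * i + 1) := by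
    intro z hz hzK hz2
    obtain ⟨i, hi⟩ := Subgroup.mem_zpowers_iff.mp (he ⟨⟨z, hz⟩, hz2⟩)
    have hi' : ((e : D) : G) ^ i = z := by
      have := congrArg (fun t : E => ((t : D) : G)) hi
      simpa using this
    rcases Int.even_or_odd' i with ⟨c, hc | hc⟩
    · exfalso
      apply hzK
      rw [← hi', hc, zpow_mul]
      apply K.zpow_mem
      rw [zpow_two]
      exact he2
    · exact ⟨c, by rw [← hi', hc]⟩
  obtain ⟨i, hi⟩ := key x hx hxK hx2
  obtain ⟨j, hj⟩ := key y hy hyK hy2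
  rw [hi, hj, ← zpow_neg, ← zpow_add]
  have : -(2 * i + 1) + (2 * j + 1) = 2 * (j - i) := by ring
  rw [this, zpow_mul]
  apply K.zpow_mem
  rw [zpow_two]
  exact he2

end Cyclic

/-! ### The commutator group `[w, D]` -/

section Comm

variable {G : Type*} [Group G] {D : Subgroup G} {w : G}

/-- The group of all `w⁻¹ z⁻¹ w z`, `z ∈ D`. -/
def commW (D : Subgroup G) (w : G) (hcomm : ∀ x ∈ D, ∀ y ∈ D, x * y = y * x)
    (hw : ∀ x ∈ D, w⁻¹ * x * w ∈ D) : Subgroup G where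
  carrier := {g | ∃ z ∈ D, g = w⁻¹ * z⁻¹ * w * z}
  mul_mem' := by
    rintro _ _ ⟨y, hy, rfl⟩ ⟨z, hz, rfl⟩
    refine ⟨y * z, D.mul_mem hy hz, ?_⟩
    have h1 := hcomm _ (hw _ (D.inv_mem hz)) _ hy
    calc w⁻¹ * y⁻¹ * w * y * (w⁻¹ * z⁻¹ * w * z) = w⁻¹ * y⁻¹ * w * (y * (w⁻¹ * z⁻¹ * w)) * z := by group
      _ = w⁻¹ * y⁻¹ * w * ((w⁻¹ * z⁻¹ * w) * y) * z := by rw [h1]
      _ = w⁻¹ * (y⁻¹ * z⁻¹) * w * (y * z) := by group
      _ = w⁻¹ * (y * z)⁻¹ * w * (y * z) := by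
        rw [mul_inv_rev, hcomm _ (D.inv_mem hy) _ (D.inv_mem hz)]
  one_mem' := ⟨1, D.one_mem, by group⟩
  inv_mem' := by
    rintro _ ⟨z, hz, rfl⟩
    refine ⟨z⁻¹, D.inv_mem hz, ?_⟩
    have h1 := hcomm _ (hw _ hz) _ (D.inv_mem hz)
    calc (w⁻¹ * z⁻¹ * w * z)⁻¹ = z⁻¹ * (w⁻¹ * z * w) := by group
      _ = (w⁻¹ * z * w) * z⁻¹ := h1.symm
      _ = w⁻¹ * z⁻¹⁻¹ * w * z⁻¹ := by group

theorem card_commW (hcomm : ∀ x ∈ D, ∀ y ∈ D, x * y = y * x) (hw : ∀ x ∈ D, w⁻¹ * x * w ∈ D) :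
    Nat.card (commW D w hcomm hw) * Nat.card (D ⊓ Subgroup.centralizer {w} : Subgroup G) =
      Nat.card D := by
  let f : D →* G :=
    { toFun := fun z => w⁻¹ * (z : G)⁻¹ * w * z
      map_one' := by simp
      map_mul' := by
        intro y z
        have h1 := hcomm _ (hw _ (D.inv_mem z.2)) _ y.2
        have h2 := hcomm _ (D.inv_mem y.2) _ (D.inv_mem z.2)
        rw [Subgroup.coe_mul]
        calc w⁻¹ * ((y : G) * z)⁻¹ * w * (y * z) = w⁻¹ * ((z : G)⁻¹ * (y : G)⁻¹) * w * (y * z) := by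
              group
          _ = w⁻¹ * ((y : G)⁻¹ * (z : G)⁻¹) * w * (y * z) := by rw [h2]
          _ = w⁻¹ * (y : G)⁻¹ * w * ((w⁻¹ * (z : G)⁻¹ * w) * y) * z := by group
          _ = w⁻¹ * (y : G)⁻¹ * w * (y * (w⁻¹ * (z : G)⁻¹ * w)) * z := by rw [h1]
          _ = w⁻¹ * (y : G)⁻¹ * w * y * (w⁻¹ * (z : G)⁻¹ * w * z) := by group }
  have hf : ∀ z : D, f z = w⁻¹ * (z : G)⁻¹ * w * z := fun z => rfl
  have hr : f.range = commW D w hcomm hw := by
    ext g
    constructor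
    · rintro ⟨z, rfl⟩
      exact ⟨z, z.2, rfl⟩
    · rintro ⟨z, hz, rfl⟩
      exact ⟨⟨z, hz⟩, rfl⟩
  have hk : Nat.card f.ker = Nat.card (D ⊓ Subgroup.centralizer {w} : Subgroup G) := by
    have hiff : ∀ z : D, z ∈ f.ker ↔ (z : G) * w = w * z := by
      intro z
      rw [MonoidHom.mem_ker, hf]
      constructor
      · intro h
        have h2 : (z : G)⁻¹ * w * z = w := by
          have := congrArg (fun g => w * g) h
          simpa [mul_assoc] using this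
        calc (z : G) * w = z * ((z : G)⁻¹ * w * z) := by rw [h2]
          _ = w * z := by group
      · intro h
        calc w⁻¹ * (z : G)⁻¹ * w * z = w⁻¹ * (z : G)⁻¹ * (w * z) := by group
          _ = 1 := by rw [← h]; group
    refine Nat.card_congr ⟨fun z => ⟨z.1.1, z.1.2, Subgroup.mem_centralizer_singleton_iff.mpr
      ((hiff z.1).mp z.2)⟩, fun z => ⟨⟨z.1, z.2.1⟩, (hiff _).mpr
      (Subgroup.mem_centralizer_singleton_iff.mp z.2.2)⟩, fun z => rfl, fun z => rfl⟩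
  rw [← hr, ← hk, ← Subgroup.index_ker, Subgroup.index_mul_card]

end Comm

/-! ### The count -/

section Main

variable {G Ω : Type*} [Group G] [MulAction G Ω] {L : Subgroup G} {Δ : Set Ω} {a b : Ω}
  {Q D : Subgroup G} {w j : G}

/-- the kernel of `D` on `Δ` -/
def ker (Δ : Set Ω) (D : Subgroup G) : Subgroup G where
  carrier := {x | x ∈ D ∧ ∀ c ∈ Δ, x • c = c}
  mul_mem' := by
    rintro x y ⟨hx, hx'⟩ ⟨hy, hy'⟩
    exact ⟨D.mul_mem hx hy, fun c hc => by rw [mul_smul, hy' c hc, hx' c hc]⟩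
  one_mem' := ⟨D.one_mem, fun c _ => one_smul _ c⟩
  inv_mem' := by
    rintro x ⟨hx, hx'⟩
    exact ⟨D.inv_mem hx, fun c hc => by rw [inv_smul_eq_iff, hx' c hc]⟩

theorem mem_ker {x : G} : x ∈ ker Δ D ↔ x ∈ D ∧ ∀ c ∈ Δ, x • c = c := Iff.rfl

theorem ker_le : ker Δ D ≤ D := fun _ h => h.1

/-- the elements of `L` acting on `Δ` as a conjugate of `j` -/
def JSet (L : Subgroup G) (Δ : Set Ω) (j : G) : Set G :=
  {g | g ∈ L ∧ ∃ l ∈ L, ∀ c ∈ Δ, g • c = (l * j * l⁻¹) • c}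

/-- rank one data with a swapping involution `w` and an element `j ∈ D` acting as an involution -/
structure SwapData (L : Subgroup G) (Δ : Set Ω) (a b : Ω) (Q D : Subgroup G) (w j : G) : Prop where
  R : R1 L Δ a b Q D
  cyc : IsCyclic D
  w_mem : w ∈ L
  w_a : w • a = b
  w_b : w • b = a
  w_sq : w * w = 1
  j_mem : j ∈ D
  j_moves : j ∉ ker Δ D
  j_sq : j * j ∈ ker Δ D

theorem SwapData.w_norm (S : SwapData L Δ a b Q D w j) : ∀ x ∈ D, w⁻¹ * x * w ∈ D := by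
  intro x hx
  have hwi : w⁻¹ = w := inv_eq_of_mul_eq_one_right S.w_sq
  rw [hwi]
  apply S.R.mem_D _ (L.mul_mem (L.mul_mem S.w_mem (S.R.D_le hx)) S.w_mem)
  · rw [mul_smul, mul_smul, S.w_a, S.R.D_b x hx, S.w_b]
  · rw [mul_smul, mul_smul, S.w_b, S.R.D_a x hx, S.w_a]

/-- `[w, D]` -/
def SwapData.J (S : SwapData L Δ a b Q D w j) : Subgroup G := commW D w S.R.comm S.w_norm

theorem SwapData.mem_J (S : SwapData L Δ a b Q D w j) {g : G} :
    g ∈ S.J ↔ ∃ z ∈ D, g = w⁻¹ * z⁻¹ * w * z := Iff.rfl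

theorem SwapData.J_le (S : SwapData L Δ a b Q D w j) : S.J ≤ D := by
  rintro _ ⟨z, hz, rfl⟩
  have h := D.mul_mem (S.w_norm z⁻¹ (D.inv_mem hz)) hz
  exact h

/-- the set of all `y ∈ D` with `w y` in the class of `j` -/
def YSet (L : Subgroup G) (Δ : Set Ω) (D : Subgroup G) (w j : G) : Set G :=
  {y | y ∈ D ∧ w * y ∈ JSet L Δ j}

theorem JSet_smul_sq (S : SwapData L Δ a b Q D w j) {g : G} (hg : g ∈ JSet L Δ j) {c : Ω} (hc : c ∈ Δ) :
    g • g • c = c := by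
  obtain ⟨hgL, l, hl, h⟩ := hg
  have h1 := h c hc
  have h2 := h (g • c) (S.R.inv g hgL c hc)
  have hlc : l⁻¹ • c ∈ Δ := S.R.inv _ (L.inv_mem hl) c hc
  rw [h2, h1, ← mul_smul]
  have h3 : l * j * l⁻¹ * (l * j * l⁻¹) = l * ((j * j) * l⁻¹) := by group
  rw [h3, mul_smul, mul_smul, S.j_sq.2 _ hlc, smul_inv_smul]

theorem main_count [Finite G] [Finite Ω] (S : SwapData L Δ a b Q D w j) {f : ℕ}
    (hf : Nat.card {c // c ∈ Δ ∧ j • c = c} = f + 1) :
    Nat.card (ker Δ D) * (Nat.card Q - f) = (f + 1) * f * Nat.card (YSet L Δ D w j) := by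
  have R := S.R
  have h0 := count R (JSet L Δ j) (by
      rintro k hk g ⟨hg, l, hl, h⟩
      refine ⟨L.mul_mem (L.mul_mem hk hg) (L.inv_mem hk), k * l, L.mul_mem hk hl, ?_⟩
      intro c hc
      have e : k * l * j * (k * l)⁻¹ = k * ((l * j * l⁻¹) * k⁻¹) := by group
      rw [e, mul_smul, mul_smul, mul_smul, mul_smul, h _ (R.inv _ (L.inv_mem hk) c hc)])
    (fun g hg => hg.1) f (by
      rintro g ⟨hg, l, hl, h⟩
      rw [← hf]
      refine Nat.card_congr ⟨fun c => ⟨l⁻¹ • c.1, R.inv _ (L.inv_mem hl) _ c.2.1, ?_⟩,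
        fun c => ⟨l • c.1, R.inv _ hl _ c.2.1, ?_⟩, fun c => ?_, fun c => ?_⟩
      · have h1 := h c.1 c.2.1
        rw [c.2.2] at h1
        rw [mul_smul, mul_smul] at h1
        rw [eq_comm, inv_smul_eq_iff]
        exact h1
      · rw [h _ (R.inv _ hl _ c.2.1), mul_smul, mul_smul, inv_smul_smul, c.2.2]
      · exact Subtype.ext (smul_inv_smul _ _)
      · exact Subtype.ext (inv_smul_smul _ _))
  have hm : Nat.card {g // g ∈ JSet L Δ j ∧ g • a = a ∧ g • b = b} = Nat.card (ker Δ D) := by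
    have key : ∀ g, (g ∈ JSet L Δ j ∧ g • a = a ∧ g • b = b) ↔ j⁻¹ * g ∈ ker Δ D := by
      intro g
      constructor
      · rintro ⟨hg, hga, hgb⟩
        have hgD : g ∈ D := R.mem_D g hg.1 hga hgb
        apply inv_mul_mem_of_sq S.cyc S.j_mem hgD S.j_moves ?_ S.j_sq ?_
        · -- `g` moves a point
          intro hgk
          obtain ⟨hgL, l, hl, h⟩ := hg
          apply S.j_moves
          refine ⟨S.j_mem, fun c hc => ?_⟩
          have h1 := h (l • c) (R.inv _ hl c hc)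
          rw [hgk.2 _ (R.inv _ hl c hc), mul_smul, mul_smul, inv_smul_smul] at h1
          exact (smul_left_cancel l h1).symm
        · refine ⟨D.mul_mem hgD hgD, fun c hc => ?_⟩
          rw [mul_smul]
          exact JSet_smul_sq S hg hc
      · intro hgk
        have hgD : g ∈ D := by
          have := D.mul_mem S.j_mem hgk.1
          simpa using this
        refine ⟨⟨R.D_le hgD, 1, L.one_mem, fun c hc => ?_⟩, R.D_a g hgD, R.D_b g hgD⟩
        have h1 := hgk.2 c hc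
        rw [mul_smul, inv_smul_eq_iff] at h1
        rw [h1]
        simp
    refine Nat.card_congr ⟨fun g => ⟨j⁻¹ * g.1, (key _).mp g.2⟩, fun x => ⟨j * x.1, (key _).mpr ?_⟩,
      fun g => ?_, fun x => ?_⟩
    · rw [inv_mul_cancel_left]
      exact x.2
    · exact Subtype.ext (mul_inv_cancel_left _ _)
    · exact Subtype.ext (inv_mul_cancel_left _ _)
  have hN : Nat.card {g // g ∈ JSet L Δ j ∧ g • a = b} = Nat.card (YSet L Δ D w j) := by
    refine Nat.card_congr ⟨fun g => ⟨w⁻¹ * g.1, ?_, ?_⟩, fun y => ⟨w * y.1, y.2.2, ?_⟩, fun g => ?_,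
      fun y => ?_⟩
    · have hga := g.2.2
      have hgb : g.1 • b = a := by
        have := JSet_smul_sq S g.2.1 R.a_mem
        rwa [hga] at this
      apply R.mem_D _ (L.mul_mem (L.inv_mem S.w_mem) g.2.1.1)
      · rw [mul_smul, hga, inv_smul_eq_iff, S.w_a]
      · rw [mul_smul, hgb, inv_smul_eq_iff, S.w_b]
    · rw [mul_inv_cancel_left]
      exact g.2.1
    · rw [mul_smul, R.D_a _ y.2.1, S.w_a]
    · exact Subtype.ext (mul_inv_cancel_left _ _)
    · exact Subtype.ext (inv_mul_cancel_left _ _)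
  rw [hm, hN] at h0
  exact h0

/-- `J K` -/
def SwapData.JK (S : SwapData L Δ a b Q D w j) : Subgroup G where
  carrier := {g | ∃ u ∈ S.J, ∃ k ∈ ker Δ D, g = u * k}
  mul_mem' := by
    rintro _ _ ⟨u, hu, k, hk, rfl⟩ ⟨u', hu', k', hk', rfl⟩
    refine ⟨u * u', S.J.mul_mem hu hu', k * k', (ker Δ D).mul_mem hk hk', ?_⟩
    have h1 := S.R.comm k hk.1 u' (S.J_le hu')
    calc u * k * (u' * k') = u * (k * u') * k' := by group
      _ = u * (u' * k) * k' := by rw [h1]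
      _ = u * u' * (k * k') := by group
  one_mem' := ⟨1, S.J.one_mem, 1, (ker Δ D).one_mem, by rw [mul_one]⟩
  inv_mem' := by
    rintro _ ⟨u, hu, k, hk, rfl⟩
    refine ⟨u⁻¹, S.J.inv_mem hu, k⁻¹, (ker Δ D).inv_mem hk, ?_⟩
    rw [mul_inv_rev, S.R.comm _ (D.inv_mem hk.1) _ (D.inv_mem (S.J_le hu))]

theorem SwapData.J_le_JK (S : SwapData L Δ a b Q D w j) : S.J ≤ S.JK :=
  fun u hu => ⟨u, hu, 1, (ker Δ D).one_mem, by rw [mul_one]⟩

theorem SwapData.ker_le_JK (S : SwapData L Δ a b Q D w j) : ker Δ D ≤ S.JK :=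
  fun u hu => ⟨1, S.J.one_mem, u, hu, by rw [one_mul]⟩

theorem SwapData.JK_le (S : SwapData L Δ a b Q D w j) : S.JK ≤ D := by
  rintro _ ⟨u, hu, k, hk, rfl⟩
  exact D.mul_mem (S.J_le hu) hk.1

/-- `J K` acts on `Y`. -/
theorem YSet_mul (S : SwapData L Δ a b Q D w j) {s y : G} (hs : s ∈ S.JK)
    (hy : y ∈ YSet L Δ D w j) : s * y ∈ YSet L Δ D w j := by
  have R := S.R
  obtain ⟨_, ⟨z, hz, rfl⟩, k, hk, rfl⟩ := hs
  obtain ⟨hyD, hyL, l, hl, h⟩ := hy
  have hzL := R.D_le hz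
  have hkD := hk.1
  have e : w * (w⁻¹ * z⁻¹ * w * z * k * y) = z⁻¹ * ((w * y) * (z * k)) := by
    have h1 : z * k * y = y * (z * k) := R.comm _ (D.mul_mem hz hkD) _ hyD
    calc w * (w⁻¹ * z⁻¹ * w * z * k * y) = z⁻¹ * (w * (z * k * y)) := by group
      _ = z⁻¹ * (w * (y * (z * k))) := by rw [h1]
      _ = z⁻¹ * ((w * y) * (z * k)) := by group
  refine ⟨D.mul_mem (D.mul_mem (S.J_le ⟨z, hz, rfl⟩) hkD) hyD, ?_⟩
  rw [e]
  refine ⟨L.mul_mem (L.inv_mem hzL) (L.mul_mem hyL (L.mul_mem hzL (R.D_le hkD))), z⁻¹ * l,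
    L.mul_mem (L.inv_mem hzL) hl, ?_⟩
  intro c hc
  have e2 : z⁻¹ * l * j * (z⁻¹ * l)⁻¹ = z⁻¹ * ((l * j * l⁻¹) * z) := by group
  have e3 : (z⁻¹ * ((w * y) * (z * k))) • c = z⁻¹ • (w * y) • z • c := by
    rw [mul_smul, mul_smul, mul_smul z k, hk.2 c hc]
  rw [e2, e3, mul_smul z⁻¹, mul_smul _ z c, ← h _ (R.inv _ hzL c hc)]

theorem card_JK_dvd [Finite G] (S : SwapData L Δ a b Q D w j) :
    Nat.card S.JK ∣ Nat.card (YSet L Δ D w j) := by
  apply card_dvd_set S.JK (YSet L Δ D w j)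
  · intro s hs y hy
    exact YSet_mul S hs hy
  · intro y _ s _ h
    exact mul_eq_right.mp h

/-- the elements of `Y` satisfy `(w y) ^ 2 ∈ K`. -/
theorem YSet_sq (S : SwapData L Δ a b Q D w j) {y : G} (hy : y ∈ YSet L Δ D w j) :
    (w⁻¹ * y * w) * y ∈ ker Δ D := by
  refine ⟨D.mul_mem (S.w_norm y hy.1) hy.1, fun c hc => ?_⟩
  have hwi : w⁻¹ = w := inv_eq_of_mul_eq_one_right S.w_sq
  have e : w⁻¹ * y * w * y = (w * y) * (w * y) := by rw [hwi]; group
  rw [e, mul_smul]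
  exact JSet_smul_sq S hy.2 hc

/-- the elements `y ∈ D` for which `(w y) ^ 2` acts trivially -/
def SwapData.E (S : SwapData L Δ a b Q D w j) : Subgroup G where
  carrier := {y | y ∈ D ∧ (w⁻¹ * y * w) * y ∈ ker Δ D}
  mul_mem' := by
    rintro x y ⟨hx, hx'⟩ ⟨hy, hy'⟩
    refine ⟨D.mul_mem hx hy, ?_⟩
    have h1 := S.R.comm _ (S.w_norm y hy) x hx
    have e : w⁻¹ * (x * y) * w * (x * y) = (w⁻¹ * x * w * x) * (w⁻¹ * y * w * y) := by
      calc w⁻¹ * (x * y) * w * (x * y) = (w⁻¹ * x * w) * ((w⁻¹ * y * w) * x) * y := by group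
        _ = (w⁻¹ * x * w) * (x * (w⁻¹ * y * w)) * y := by rw [h1]
        _ = _ := by group
    rw [e]
    exact (ker Δ D).mul_mem hx' hy'
  one_mem' := ⟨D.one_mem, by
    have : w⁻¹ * 1 * w * 1 = (1 : G) := by group
    rw [this]
    exact (ker Δ D).one_mem⟩
  inv_mem' := by
    rintro x ⟨hx, hx'⟩
    refine ⟨D.inv_mem hx, ?_⟩
    have h1 := S.R.comm _ (S.w_norm _ (D.inv_mem hx)) _ (D.inv_mem hx)
    rw [h1]
    have e : x⁻¹ * (w⁻¹ * x⁻¹ * w) = (w⁻¹ * x * w * x)⁻¹ := by group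
    rw [e]
    exact (ker Δ D).inv_mem hx'

theorem SwapData.mem_E (S : SwapData L Δ a b Q D w j) {y : G} :
    y ∈ S.E ↔ y ∈ D ∧ (w⁻¹ * y * w) * y ∈ ker Δ D := Iff.rfl

theorem SwapData.E_sq (S : SwapData L Δ a b Q D w j) {y : G} (hy : y ∈ S.E) : y * y ∈ S.JK := by
  refine ⟨w⁻¹ * y⁻¹ * w * y, ⟨y, hy.1, rfl⟩, w⁻¹ * y * w * y, hy.2, ?_⟩
  have h1 := S.R.comm _ (S.w_norm y hy.1) y hy.1
  calc y * y = (w⁻¹ * y⁻¹ * w) * ((w⁻¹ * y * w) * y) * y := by group
    _ = (w⁻¹ * y⁻¹ * w) * (y * (w⁻¹ * y * w)) * y := by rw [h1]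
    _ = _ := by group

theorem SwapData.w_ker (S : SwapData L Δ a b Q D w j) {k : G} (hk : k ∈ ker Δ D) :
    w⁻¹ * k * w ∈ ker Δ D := by
  refine ⟨S.w_norm k hk.1, fun c hc => ?_⟩
  rw [mul_smul, mul_smul, hk.2 _ (S.R.inv _ S.w_mem _ hc), inv_smul_smul]

theorem SwapData.JK_le_E (S : SwapData L Δ a b Q D w j) : S.JK ≤ S.E := by
  rintro _ ⟨_, ⟨z, hz, rfl⟩, k, hk, rfl⟩
  apply S.E.mul_mem
  · refine ⟨S.J_le ⟨z, hz, rfl⟩, ?_⟩
    have e : w⁻¹ * (w⁻¹ * z⁻¹ * w * z) * w * (w⁻¹ * z⁻¹ * w * z) =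
        (w * w)⁻¹ * z⁻¹ * (w * w) * z := by group
    have e2 : (w * w)⁻¹ * z⁻¹ * (w * w) * z = 1 := by rw [S.w_sq]; group
    rw [e, e2]
    exact (ker Δ D).one_mem
  · exact ⟨hk.1, (ker Δ D).mul_mem (S.w_ker hk) hk⟩

theorem SwapData.E_le (S : SwapData L Δ a b Q D w j) : S.E ≤ D := fun _ h => h.1

theorem YSet_subset_E (S : SwapData L Δ a b Q D w j) {y : G} (hy : y ∈ YSet L Δ D w j) : y ∈ S.E :=
  ⟨hy.1, YSet_sq S hy⟩

/-- If `w` is in the class of `j` then `Y` is `J K` or `E`. -/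
theorem YSet_eq (S : SwapData L Δ a b Q D w j) (h1 : (1 : G) ∈ YSet L Δ D w j) :
    YSet L Δ D w j = (S.JK : Set G) ∨ YSet L Δ D w j = (S.E : Set G) := by
  have hJK : ∀ s ∈ S.JK, s ∈ YSet L Δ D w j := by
    intro s hs
    have := YSet_mul S hs h1
    rwa [mul_one] at this
  by_cases h : ∃ y ∈ YSet L Δ D w j, y ∉ S.JK
  · right
    obtain ⟨y, hy, hyn⟩ := h
    ext e
    constructor
    · exact fun he => YSet_subset_E S he
    · intro he
      by_cases heK : e ∈ S.JK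
      · exact hJK e heK
      · have hyE := YSet_subset_E S hy
        have h2 := inv_mul_mem_of_sq (K := S.JK) S.cyc hy.1 he.1 hyn heK (S.E_sq hyE) (S.E_sq he)
        have h3 := YSet_mul S h2 hy
        have e1 : y⁻¹ * e * y = e := by
          rw [mul_assoc, S.R.comm e he.1 y hy.1, inv_mul_cancel_left]
        rwa [e1] at h3
  · left
    push Not at h
    ext e
    exact ⟨fun he => h e he, fun he => hJK e he⟩

/-- If `w` is not in the class of `j` and `Y` is not empty then `|E| = 2 |Y|`. -/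
theorem card_E_eq [Finite G] (S : SwapData L Δ a b Q D w j) (h1 : (1 : G) ∉ YSet L Δ D w j)
    (h2 : (YSet L Δ D w j).Nonempty) : Nat.card S.E = 2 * Nat.card (YSet L Δ D w j) := by
  obtain ⟨y, hy⟩ := h2
  have hyE := YSet_subset_E S hy
  have hdisj : ∀ s ∈ S.JK, s ∉ YSet L Δ D w j := by
    intro s hs hsY
    apply h1
    have := YSet_mul S (S.JK.inv_mem hs) hsY
    rwa [inv_mul_cancel] at this
  have hyn : y ∉ S.JK := fun h => hdisj y h hy
  have hY : YSet L Δ D w j = {e | e ∈ S.E ∧ e ∉ S.JK} := by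
    ext e
    constructor
    · exact fun he => ⟨YSet_subset_E S he, fun h => hdisj e h he⟩
    · rintro ⟨he, heK⟩
      have h2 := inv_mul_mem_of_sq (K := S.JK) S.cyc hy.1 he.1 hyn heK (S.E_sq hyE) (S.E_sq he)
      have h3 := YSet_mul S h2 hy
      have e1 : y⁻¹ * e * y = e := by
        rw [mul_assoc, S.R.comm e he.1 y hy.1, inv_mul_cancel_left]
      rwa [e1] at h3
  -- `JK → Y`, `s ↦ s y` is a bijection
  have hc1 : Nat.card S.JK = Nat.card (YSet L Δ D w j) := by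
    refine Nat.card_congr ⟨fun s => ⟨s.1 * y, YSet_mul S s.2 hy⟩, fun e => ⟨e.1 * y⁻¹, ?_⟩,
      fun s => ?_, fun e => ?_⟩
    · have he : e.1 ∈ S.E ∧ e.1 ∉ S.JK := (Set.ext_iff.mp hY e.1).mp e.2
      have h2 := inv_mul_mem_of_sq (K := S.JK) S.cyc hy.1 he.1.1 hyn he.2 (S.E_sq hyE) (S.E_sq he.1)
      rwa [S.R.comm _ (D.inv_mem hy.1) _ he.1.1] at h2
    · exact Subtype.ext (mul_inv_cancel_right _ _)
    · exact Subtype.ext (inv_mul_cancel_right _ _)
  have hc2 : Nat.card S.E = Nat.card S.JK + Nat.card (YSet L Δ D w j) := by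
    classical
    rw [← Nat.card_sum]
    refine Nat.card_congr ⟨fun e => if h : e.1 ∈ S.JK then Sum.inl ⟨e.1, h⟩ else
      Sum.inr ⟨e.1, by rw [hY]; exact ⟨e.2, h⟩⟩, fun s => match s with
      | Sum.inl s => ⟨s.1, S.JK_le_E s.2⟩
      | Sum.inr y => ⟨y.1, YSet_subset_E S y.2⟩, fun e => ?_, fun s => ?_⟩
    · by_cases h : e.1 ∈ S.JK
      · simp only [h, dif_pos]
      · simp only [h, dif_neg, not_false_eq_true]
    · rcases s with s | y
      · simp only [s.2, dif_pos]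
      · have : y.1 ∉ S.JK := fun h => hdisj _ h y.2
        simp only [this, dif_neg, not_false_eq_true]
  omega

end Main

end Cfsg.Agent.ONan.MainCount
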