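import Mathlib
import Cfsg.Agent.ONan.Coord

/-!
# The local data of groups of odd unitary type (interface for S1148)

`inf` and `zero` are the two base points, `U` is regular on the points different from `inf`, `H` is the
two-point stabiliser, `t` its involution, `w` a conjugate of `t` that swaps the base points.
-/

set_option autoImplicit false

namespace Cfsg.Agent.ONan.Stage

/-- The result of the local analysis. -/
structure StageData {G Ω : Type*} [Group G] [MulAction G Ω] (p n q d : ℕ) (inf zero : Ω)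
    (U H : Subgroup G) (t w : G) : Prop where
  hp : p.Prime
  hp2 : p ≠ 2
  hn : 1 ≤ n
  hq : q = p ^ n
  hd : d = Nat.gcd 3 (q + 1)
  ne : inf ≠ zero
  U_inf : ∀ u ∈ U, u • inf = inf
  U_norm : ∀ g : G, g • inf = inf → ∀ u ∈ U, g * u * g⁻¹ ∈ U
  U_trans : ∀ P Q, P ≠ inf → Q ≠ inf → ∃ u ∈ U, u • P = Q
  U_free : ∀ P, P ≠ inf → ∀ u ∈ U, u • P = P → u = 1
  U_card : Nat.card U = q ^ 3
  mem_H : ∀ g : G, g ∈ H ↔ g • inf = inf ∧ g • zero = zero
  H_cyc : IsCyclic H
  H_card : d * Nat.card H = q ^ 2 - 1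
  t_mem : t ∈ H
  t_ne : t ≠ 1
  t_sq : t * t = 1
  t_unique : ∀ x ∈ H, x * x = 1 → x = 1 ∨ x = t
  w_inf : w • inf = zero
  w_zero : w • zero = inf
  w_sq : w * w = 1
  w_conj : IsConj t w
  w_class : ∀ g, IsConj t g → g • inf = zero → ∃ h ∈ H, g = h * w * h⁻¹
  /-- `w h w = h ^ (-q)` for `h ∈ H` -/
  w_pow : ∀ h ∈ H, w * h * w * h ^ q = 1
  /-- `t` and `w` have no common fixed point -/
  no_common : ∀ P : Ω, t • P = P → w • P ≠ P
  /-- `C_U(t)` has order `q`, is central in `U`, and `H` is transitive on its non-identity elements -/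
  Q_card : Nat.card (U ⊓ Subgroup.centralizer {t} : Subgroup G) = q
  T_comm : ∀ u ∈ U, u * t = t * u → ∀ u' ∈ U, u * u' = u' * u
  H_trans : ∀ x ∈ U, x * t = t * x → x ≠ 1 → ∀ y ∈ U, y * t = t * y → y ≠ 1 →
    ∃ h ∈ H, h * x * h⁻¹ = y
  /-- an element of `H` centralising a non-identity element of `C_U(t)` has order dividing `q + 1` -/
  K_of : ∀ h ∈ H, ∀ x ∈ U, x * t = t * x → x ≠ 1 → h * x = x * h → h ^ (q + 1) = 1
  /-- the elements of `H` of order dividing `q + 1` are central in the centraliser of `t` -/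
  K_cent : ∀ h ∈ H, h ^ (q + 1) = 1 → ∀ g : G, g * t = t * g → g * h = h * g

end Cfsg.Agent.ONan.Stage
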