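import Mathlib
import Cfsg.Agent.ONan.RankOne
import Cfsg.Agent.ONan.Count
import Cfsg.Agent.ONan.MainCount
import Cfsg.Agent.ONan.Arith
import Cfsg.Agent.ONan.CyclicAux
import Cfsg.Agent.ONan.Stage
import Cfsg.Agent.Involutions.RankThree

/-!
# Groups of odd unitary type: the local analysis

Step 1: `|C_U(t)| = q`. Step 2: the primes dividing `q - 1` (Burnside transfer). Steps 3, 4: the kernel
`K` of `H` on `Fix(t)` has order `(q + 1) / d`. Step 5: `w h w = h ^ (-q)`. Step 6: consequences.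
Step 7: `C_U(t)` is central in `U`; the result `Glob.stageData`.
-/

set_option autoImplicit false

namespace Cfsg.Agent.ONan.Global

open Cfsg.Agent.ONan.RankOne Cfsg.Agent.ONan.Count Cfsg.Agent.ONan.MainCount Cfsg.Agent.ONan.Arith
  Cfsg.Agent.ONan.CyclicAux

/-- An involution on a finite set of odd order has a fixed point. -/
theorem exists_fixed_of_odd {α : Type*} [Finite α] (f : α → α) (hf : ∀ x, f (f x) = x)
    (hodd : ¬ 2 ∣ Nat.card α) : ∃ x, f x = x := by
  classical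
  let _ : Fintype α := Fintype.ofFinite α
  have : Fact (Nat.Prime 2) := ⟨Nat.prime_two⟩
  rw [Nat.card_eq_fintype_card] at hodd
  obtain ⟨a, ha⟩ := Equiv.Perm.exists_fixed_point_of_prime (p := 2) (n := 1) hodd
    (σ := (Function.Involutive.toPerm f hf)) (by
      ext x
      rw [pow_one, pow_two, Equiv.Perm.mul_apply]
      exact hf x)
  exact ⟨a, ha⟩

section Fix

variable {G Ω : Type*} [Group G] [MulAction G Ω] {L : Subgroup G} {Δ : Set Ω} {a b : Ω}
  {Q D : Subgroup G}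

theorem commute_iff (R : R1 L Δ a b Q D) {x u : G} (hx : x ∈ D) (hu : u ∈ Q) :
    u * x = x * u ↔ x • u • b = u • b := by
  constructor
  · intro h
    rw [← mul_smul, ← h, mul_smul, R.D_b x hx]
  · intro h
    have hn := R.norm x (R.D_le hx) (R.D_a x hx) u hu
    have hxb : x⁻¹ • b = b := by rw [inv_smul_eq_iff, R.D_b x hx]
    have h1 := R.free (u⁻¹ * (x * u * x⁻¹)) (Q.mul_mem (Q.inv_mem hu) hn) (by
      rw [mul_smul, mul_smul, mul_smul, hxb, h, inv_smul_smul])
    have h2 := inv_mul_eq_one.mp h1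
    rw [eq_mul_inv_iff_mul_eq] at h2
    exact h2

theorem card_fix [Finite G] (R : R1 L Δ a b Q D) {x : G} (hx : x ∈ D) :
    Nat.card {c // c ∈ Δ ∧ x • c = c} = Nat.card (Q ⊓ Subgroup.centralizer {x} : Subgroup G) + 1 := by
  have h1 : Nat.card {c // c ∈ Δ ∧ x • c = c} = Nat.card {o : Option Q // x • ((R.equiv o : Δ) : Ω) =
      ((R.equiv o : Δ) : Ω)} := by
    refine Nat.card_congr ⟨fun c => ⟨R.equiv.symm ⟨c.1, c.2.1⟩, by
      rw [Equiv.apply_symm_apply]; exact c.2.2⟩, fun o => ⟨(R.equiv o.1 : Δ), (R.equiv o.1).2, o.2⟩,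
      fun c => ?_, fun o => ?_⟩
    · apply Subtype.ext
      show ((R.equiv (R.equiv.symm ⟨c.1, c.2.1⟩) : Δ) : Ω) = c.1
      rw [Equiv.apply_symm_apply]
    · apply Subtype.ext
      show R.equiv.symm ⟨((R.equiv o.1 : Δ) : Ω), _⟩ = o.1
      exact R.equiv.symm_apply_apply o.1
  have h2 : Nat.card {o : Option Q // x • ((R.equiv o : Δ) : Ω) = ((R.equiv o : Δ) : Ω)} =
      Nat.card (Option (Q ⊓ Subgroup.centralizer {x} : Subgroup G)) := by
    refine Nat.card_congr ⟨fun o => match o with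
      | ⟨none, _⟩ => none
      | ⟨some u, h⟩ => some ⟨u.1, u.2, Subgroup.mem_centralizer_singleton_iff.mpr
          ((commute_iff R hx u.2).mpr h)⟩, fun o => match o with
      | none => ⟨none, R.D_a x hx⟩
      | some u => ⟨some ⟨u.1, u.2.1⟩, (commute_iff R hx u.2.1).mp
          (Subgroup.mem_centralizer_singleton_iff.mp u.2.2)⟩, ?_, ?_⟩
    · rintro ⟨_ | u, h⟩ <;> rfl
    · rintro (_ | u) <;> rfl
  rw [h1, h2, Finite.card_option]

/-- the fixed points of `x ∈ D` number at least three iff some non-identity element of `Q` commutes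
with `x`. -/
theorem exists_third (R : R1 L Δ a b Q D) {x u : G} (hx : x ∈ D) (hu : u ∈ Q) (hu1 : u ≠ 1)
    (h : u * x = x * u) : u • b ∈ Δ ∧ u • b ≠ a ∧ u • b ≠ b ∧ x • u • b = u • b :=
  ⟨R.inv u (R.Q_le hu) b R.b_mem, R.smul_ne hu R.ne.symm, fun h => hu1 (R.free u hu h),
    (commute_iff R hx hu).mp h⟩

end Fix

/-- Groups of odd unitary type with a chosen involution `t` and a conjugate `w` swapping the base
points. -/
structure Glob {G Ω : Type*} [Group G] [MulAction G Ω] (p n q d : ℕ) (inf zero : Ω)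
    (U H : Subgroup G) (t w : G) : Prop where
  hp : p.Prime
  hp2 : p ≠ 2
  hn : 1 ≤ n
  hq : q = p ^ n
  hd : d = Nat.gcd 3 (q + 1)
  R : R1 ⊤ Set.univ inf zero U H
  cyc : IsCyclic H
  hU : Nat.card U = q ^ 3
  hH : d * Nat.card H = q ^ 2 - 1
  t_mem : t ∈ H
  t_ne : t ≠ 1
  t_sq : t * t = 1
  w_inf : w • inf = zero
  w_zero : w • zero = inf
  w_sq : w * w = 1
  w_conj : IsConj t w

namespace Glob

variable {G Ω : Type*} [Group G] [MulAction G Ω] {p n q d : ℕ} {inf zero : Ω}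
  {U H : Subgroup G} {t w : G}

theorem hp3 (S : Glob p n q d inf zero U H t w) : 3 ≤ p := by
  have := S.hp.two_le
  have := S.hp2
  omega

theorem q_ge (S : Glob p n q d inf zero U H t w) : 3 ≤ q := by
  rw [S.hq]
  exact S.hp3.trans (Nat.le_self_pow (by have := S.hn; omega) p)

theorem q_odd (S : Glob p n q d inf zero U H t w) : Odd q := by
  rw [S.hq]
  exact (S.hp.odd_of_ne_two S.hp2).pow

theorem d_pos (S : Glob p n q d inf zero U H t w) : 0 < d := by
  rw [S.hd]
  exact Nat.gcd_pos_of_pos_left _ (by norm_num)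

theorem d_dvd (S : Glob p n q d inf zero U H t w) : d ∣ q + 1 := by
  rw [S.hd]
  exact Nat.gcd_dvd_right _ _

theorem d_dvd_three (S : Glob p n q d inf zero U H t w) : d ∣ 3 := by
  rw [S.hd]
  exact Nat.gcd_dvd_left _ _

theorem d_odd (S : Glob p n q d inf zero U H t w) : Odd d :=
  Odd.of_dvd_nat (by decide) S.d_dvd_three

theorem sq_sub (S : Glob p n q d inf zero U H t w) : q ^ 2 - 1 = (q + 1) * (q - 1) := by
  have := S.q_ge
  rw [← Nat.sq_sub_sq, one_pow]

theorem card_H_dvd (S : Glob p n q d inf zero U H t w) : Nat.card H ∣ q ^ 2 - 1 :=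
  ⟨d, by rw [mul_comm, S.hH]⟩

theorem t_unique (S : Glob p n q d inf zero U H t w) {x : G} (hx : x ∈ H) (hx2 : x * x = 1)
    (hx1 : x ≠ 1) : x = t := by
  have := inv_mul_mem_of_sq (K := ⊥) S.cyc S.t_mem hx (by simpa using S.t_ne) (by simpa using hx1)
    (by rw [S.t_sq]; exact Subgroup.one_mem _) (by rw [hx2]; exact Subgroup.one_mem _)
  rw [Subgroup.mem_bot, inv_mul_eq_one] at this
  exact this.symm

theorem t_inf (S : Glob p n q d inf zero U H t w) : t • inf = inf := S.R.D_a t S.t_mem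

theorem t_zero (S : Glob p n q d inf zero U H t w) : t • zero = zero := S.R.D_b t S.t_mem

theorem card_centU (S : Glob p n q d inf zero U H t w) [Finite G] (x : G) :
    ∃ c, Nat.card (U ⊓ Subgroup.centralizer {x} : Subgroup G) = p ^ c := by
  have h : Nat.card (U ⊓ Subgroup.centralizer {x} : Subgroup G) ∣ q ^ 3 := by
    rw [← S.hU]
    exact Subgroup.card_dvd_of_le inf_le_left
  rw [S.hq, ← pow_mul] at h
  obtain ⟨c, -, hc⟩ := (Nat.dvd_prime_pow S.hp).mp h
  exact ⟨c, hc⟩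

theorem not_two_dvd_pow (S : Glob p n q d inf zero U H t w) (c : ℕ) : ¬ 2 ∣ p ^ c := by
  intro h
  have := (Nat.prime_dvd_prime_iff_eq Nat.prime_two S.hp).mp (Nat.prime_two.dvd_of_dvd_pow h)
  exact S.hp2 this.symm

/-- every element fixing `inf` and a second point is conjugate under `U` to an element of `H`. -/
theorem exists_conj_H (S : Glob p n q d inf zero U H t w) {P : Ω} (hP : P ≠ inf) :
    ∃ u ∈ U, u • P = zero ∧ ∀ g : G, g • inf = inf → g • P = P → u * g * u⁻¹ ∈ H := by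
  obtain ⟨u, hu, h⟩ := S.R.trans' (c := P) (d := zero) (Set.mem_univ _) hP (Set.mem_univ _)
    S.R.ne.symm
  refine ⟨u, hu, h, fun g hg1 hg2 => ?_⟩
  apply S.R.mem_D _ (Subgroup.mem_top _)
  · rw [mul_smul, mul_smul, S.R.Q_fix _ (U.inv_mem hu), hg1, S.R.Q_fix _ hu]
  · rw [mul_smul, mul_smul, ← h, inv_smul_smul, hg2]

variable [Finite G] [Finite Ω]

/-- an involution fixing a point fixes another one. -/
theorem exists_second (S : Glob p n q d inf zero U H t w) {s : G} (hs : s * s = 1)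
    (hinf : s • inf = inf) : ∃ P, P ≠ inf ∧ s • P = P := by
  classical
  have h1 : Nat.card {P : Ω // P ≠ inf} = q ^ 3 := by
    have h2 := S.R.card_Δ
    rw [S.hU] at h2
    have h3 : Nat.card {P : Ω // P ≠ inf} + 1 = Nat.card (Set.univ : Set Ω) := by
      rw [← Finite.card_option]
      refine Nat.card_congr ?_
      exact (Equiv.optionSubtypeNe inf).trans (Equiv.Set.univ Ω).symm
    omega
  obtain ⟨P, hP⟩ := exists_fixed_of_odd (α := {P : Ω // P ≠ inf})
    (fun P => ⟨s • P.1, fun h => P.2 (by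
      have := congrArg (fun c => s • c) h
      simp only [hinf] at this
      rwa [← mul_smul, hs, one_smul] at this)⟩)
    (fun P => Subtype.ext (by
      show s • s • P.1 = P.1
      rw [← mul_smul, hs, one_smul])) (by
      rw [h1, S.hq, ← pow_mul]
      exact S.not_two_dvd_pow _)
  exact ⟨P.1, P.2, congrArg Subtype.val hP⟩

/-- An involution with a fixed point is conjugate to `t`. -/
theorem isConj_of_fixed (S : Glob p n q d inf zero U H t w) {s : G} (hs1 : s ≠ 1) (hs : s * s = 1)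
    {P : Ω} (hP : s • P = P) : IsConj t s := by
  obtain ⟨g, -, hg⟩ := S.R.exists_smul_a (Set.mem_univ P)
  have h1 : (g⁻¹ * s * g) • inf = inf := by
    rw [mul_smul, mul_smul, hg, hP, ← hg, inv_smul_smul]
  have h2 : (g⁻¹ * s * g) * (g⁻¹ * s * g) = 1 := by
    calc (g⁻¹ * s * g) * (g⁻¹ * s * g) = g⁻¹ * (s * s) * g := by group
      _ = 1 := by rw [hs]; group
  obtain ⟨P₁, hP₁, hP₂⟩ := S.exists_second h2 h1
  obtain ⟨u, -, -, hu2⟩ := S.exists_conj_H hP₁
  have h3 := hu2 _ h1 hP₂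
  have h4 : u * (g⁻¹ * s * g) * u⁻¹ = t := by
    apply S.t_unique h3
    · calc u * (g⁻¹ * s * g) * u⁻¹ * (u * (g⁻¹ * s * g) * u⁻¹)
          = u * ((g⁻¹ * s * g) * (g⁻¹ * s * g)) * u⁻¹ := by group
        _ = 1 := by rw [h2]; group
    · intro h
      apply hs1
      have : s = (u * g⁻¹)⁻¹ * (u * (g⁻¹ * s * g) * u⁻¹) * (u * g⁻¹) := by group
      rw [this, h]
      group
  rw [isConj_iff]
  refine ⟨(u * g⁻¹)⁻¹, ?_⟩
  rw [← h4]
  group

/-- Two different commuting involutions have no common fixed point. -/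
theorem no_common (S : Glob p n q d inf zero U H t w) {s s' : G} (hs1 : s ≠ 1) (hs : s * s = 1)
    (hs1' : s' ≠ 1) (hs' : s' * s' = 1) (hne : s ≠ s') (hc : s * s' = s' * s) {P : Ω}
    (hP : s • P = P) (hP' : s' • P = P) : False := by
  classical
  -- reduce to `s = t`, `P = inf`
  obtain ⟨g, -, hg⟩ := S.R.exists_smul_a (Set.mem_univ P)
  have h1 : (g⁻¹ * s * g) • inf = inf := by
    rw [mul_smul, mul_smul, hg, hP, ← hg, inv_smul_smul]
  have h1' : (g⁻¹ * s' * g) • inf = inf := by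
    rw [mul_smul, mul_smul, hg, hP', ← hg, inv_smul_smul]
  have h2 : (g⁻¹ * s * g) * (g⁻¹ * s * g) = 1 := by
    calc (g⁻¹ * s * g) * (g⁻¹ * s * g) = g⁻¹ * (s * s) * g := by group
      _ = 1 := by rw [hs]; group
  obtain ⟨P₁, hP₁, hP₂⟩ := S.exists_second h2 h1
  obtain ⟨u, hu, -, hu2⟩ := S.exists_conj_H hP₁
  have h3 := hu2 _ h1 hP₂
  have h4 : u * (g⁻¹ * s * g) * u⁻¹ = t := by
    apply S.t_unique h3
    · calc u * (g⁻¹ * s * g) * u⁻¹ * (u * (g⁻¹ * s * g) * u⁻¹)
          = u * ((g⁻¹ * s * g) * (g⁻¹ * s * g)) * u⁻¹ := by group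
        _ = 1 := by rw [h2]; group
    · intro h
      apply hs1
      have : s = (u * g⁻¹)⁻¹ * (u * (g⁻¹ * s * g) * u⁻¹) * (u * g⁻¹) := by group
      rw [this, h]
      group
  set r := u * (g⁻¹ * s' * g) * u⁻¹ with hr
  have hrinf : r • inf = inf := by
    rw [hr, mul_smul, mul_smul, S.R.Q_fix _ (U.inv_mem hu), h1', S.R.Q_fix _ hu]
  have hr2 : r * r = 1 := by
    calc u * (g⁻¹ * s' * g) * u⁻¹ * (u * (g⁻¹ * s' * g) * u⁻¹)
          = u * (g⁻¹ * (s' * s') * g) * u⁻¹ := by group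
        _ = 1 := by rw [hs']; group
  have hrt : r * t = t * r := by
    rw [hr, ← h4]
    calc u * (g⁻¹ * s' * g) * u⁻¹ * (u * (g⁻¹ * s * g) * u⁻¹) = u * g⁻¹ * (s' * s) * g * u⁻¹ := by group
      _ = u * g⁻¹ * (s * s') * g * u⁻¹ := by rw [hc]
      _ = _ := by group
  have hr1 : r ≠ 1 := by
    intro h
    apply hs1'
    have : s' = (u * g⁻¹)⁻¹ * r * (u * g⁻¹) := by rw [hr]; group
    rw [this, h]
    group
  have hrne : r ≠ t := by
    intro h
    apply hne
    have e1 : s' = (u * g⁻¹)⁻¹ * r * (u * g⁻¹) := by rw [hr]; group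
    have e2 : s = (u * g⁻¹)⁻¹ * (u * (g⁻¹ * s * g) * u⁻¹) * (u * g⁻¹) := by group
    rw [e1, e2, h4, h]
  -- `r` acts on the fixed points of `t` different from `inf`
  have hcard : Nat.card {c : Ω // c ≠ inf ∧ t • c = c} = Nat.card
      (U ⊓ Subgroup.centralizer {t} : Subgroup G) := by
    have e1 := card_fix S.R S.t_mem
    have e2 : Nat.card {c : Ω // c ∈ Set.univ ∧ t • c = c} =
        Nat.card {c : Ω // c ≠ inf ∧ t • c = c} + 1 := by
      rw [← Finite.card_option]
      have e3 := Equiv.optionSubtypeNe (⟨inf, Set.mem_univ _, S.t_inf⟩ :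
        {c : Ω // c ∈ Set.univ ∧ t • c = c})
      rw [← Nat.card_congr e3, Finite.card_option, Finite.card_option]
      congr 1
      refine Nat.card_congr ⟨fun c => ⟨c.1.1, fun h => c.2 (Subtype.ext h), c.1.2.2⟩,
        fun c => ⟨⟨c.1, Set.mem_univ _, c.2.2⟩, fun h => c.2.1 (congrArg Subtype.val h)⟩,
        fun c => rfl, fun c => rfl⟩
    omega
  obtain ⟨c, hc⟩ := S.card_centU t
  obtain ⟨P₃, hP₃⟩ := exists_fixed_of_odd (α := {c : Ω // c ≠ inf ∧ t • c = c})
    (fun P => ⟨r • P.1, fun h => P.2.1 (by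
      have := congrArg (fun c => r • c) h
      simp only [hrinf] at this
      rwa [← mul_smul, hr2, one_smul] at this), by
        rw [← mul_smul, ← hrt, mul_smul, P.2.2]⟩)
    (fun P => Subtype.ext (by
      show r • r • P.1 = P.1
      rw [← mul_smul, hr2, one_smul])) (by
      rw [hcard, hc]
      exact S.not_two_dvd_pow _)
  obtain ⟨v, hv, -, hv2⟩ := S.exists_conj_H P₃.2.1
  have k1 := hv2 r hrinf (congrArg Subtype.val hP₃)
  have k2 := hv2 t S.t_inf P₃.2.2
  have k3 : v * r * v⁻¹ = t := S.t_unique k1 (by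
    calc v * r * v⁻¹ * (v * r * v⁻¹) = v * (r * r) * v⁻¹ := by group
      _ = 1 := by rw [hr2]; group) (by
    intro h
    apply hr1
    have : r = v⁻¹ * (v * r * v⁻¹) * v := by group
    rw [this, h]; group)
  have k4 : v * t * v⁻¹ = t := S.t_unique k2 (by
    calc v * t * v⁻¹ * (v * t * v⁻¹) = v * (t * t) * v⁻¹ := by group
      _ = 1 := by rw [S.t_sq]; group) (by
    intro h
    apply S.t_ne
    have : t = v⁻¹ * (v * t * v⁻¹) * v := by group
    rw [this, h]; group)
  apply hrne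
  have : v * r * v⁻¹ = v * t * v⁻¹ := by rw [k3, k4]
  exact mul_left_cancel (mul_right_cancel this)

end Glob

/-! ### Groups of odd unitary type, step 1: `|C_U(t)| = q` -/

namespace Glob

variable {G Ω : Type*} [Group G] [MulAction G Ω] {p n q d : ℕ} {inf zero : Ω}
  {U H : Subgroup G} {t w : G}

theorem eq_one_of_forall [FaithfulSMul G Ω] {g : G} (h : ∀ c : Ω, g • c = c) : g = 1 := by
  apply FaithfulSMul.eq_of_smul_eq_smul (α := Ω)
  intro c
  rw [h, one_smul]

theorem ker_univ [FaithfulSMul G Ω] (D : Subgroup G) : ker (Set.univ : Set Ω) D = ⊥ := by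
  rw [eq_bot_iff]
  intro x hx
  exact eq_one_of_forall (fun c => hx.2 c (Set.mem_univ c))

theorem SD [FaithfulSMul G Ω] (S : Glob p n q d inf zero U H t w) :
    SwapData ⊤ (Set.univ : Set Ω) inf zero U H w t where
  R := S.R
  cyc := S.cyc
  w_mem := Subgroup.mem_top _
  w_a := S.w_inf
  w_b := S.w_zero
  w_sq := S.w_sq
  j_mem := S.t_mem
  j_moves := by
    rw [ker_univ]
    simpa using S.t_ne
  j_sq := by
    rw [S.t_sq]
    exact Subgroup.one_mem _

theorem mem_JSet_univ [FaithfulSMul G Ω] {t g : G} :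
    g ∈ JSet ⊤ (Set.univ : Set Ω) t ↔ IsConj t g := by
  constructor
  · rintro ⟨-, l, -, h⟩
    rw [isConj_iff]
    refine ⟨l, ?_⟩
    apply FaithfulSMul.eq_of_smul_eq_smul (α := Ω)
    intro c
    exact (h c (Set.mem_univ c)).symm
  · intro h
    obtain ⟨l, hl⟩ := isConj_iff.mp h
    exact ⟨Subgroup.mem_top _, l, Subgroup.mem_top _, fun c _ => by rw [hl]⟩

theorem mem_Y [FaithfulSMul G Ω] {y : G} :
    y ∈ YSet ⊤ (Set.univ : Set Ω) H w t ↔ y ∈ H ∧ IsConj t (w * y) := by
  rw [← mem_JSet_univ (Ω := Ω)]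
  exact Iff.rfl

theorem one_mem_Y [FaithfulSMul G Ω] (S : Glob p n q d inf zero U H t w) :
    (1 : G) ∈ YSet ⊤ (Set.univ : Set Ω) H w t := by
  rw [mem_Y, mul_one]
  exact ⟨H.one_mem, S.w_conj⟩

variable [Finite G] [Finite Ω] [FaithfulSMul G Ω]

omit [Finite G] [Finite Ω] in
theorem card_Y_dvd (S : Glob p n q d inf zero U H t w) :
    Nat.card (YSet ⊤ (Set.univ : Set Ω) H w t) ∣ q ^ 2 - 1 := by
  refine Dvd.dvd.trans ?_ S.card_H_dvd
  rcases YSet_eq S.SD S.one_mem_Y with h | h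
  · rw [h]
    exact Subgroup.card_dvd_of_le S.SD.JK_le
  · rw [h]
    exact Subgroup.card_dvd_of_le S.SD.E_le

theorem step_one_aux (S : Glob p n q d inf zero U H t w) :
    Nat.card (U ⊓ Subgroup.centralizer {t} : Subgroup G) = q ∧
      Nat.card (YSet ⊤ (Set.univ : Set Ω) H w t) = q - 1 := by
  obtain ⟨c, hc⟩ := S.card_centU t
  have h1 := main_count S.SD (f := Nat.card (U ⊓ Subgroup.centralizer {t} : Subgroup G))
    (card_fix S.R S.t_mem)
  rw [ker_univ, Subgroup.card_bot, one_mul, S.hU, hc, S.hq] at h1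
  have h2 := S.card_Y_dvd
  rw [S.hq] at h2
  have h3 := step_one S.hp S.hp2 S.hn h1 h2
  subst h3
  exact ⟨by rw [hc, S.hq], by rw [S.hq]; exact step_one' S.hp h1⟩

/-- `|C_U(t)| = q` -/
theorem card_Q (S : Glob p n q d inf zero U H t w) :
    Nat.card (U ⊓ Subgroup.centralizer {t} : Subgroup G) = q := S.step_one_aux.1

theorem card_Y (S : Glob p n q d inf zero U H t w) :
    Nat.card (YSet ⊤ (Set.univ : Set Ω) H w t) = q - 1 := S.step_one_aux.2

/-- a point fixed by `t` different from `inf` and `zero` -/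
theorem exists_third_t (S : Glob p n q d inf zero U H t w) :
    ∃ c : Ω, c ≠ inf ∧ c ≠ zero ∧ t • c = c := by
  have h : 1 < Nat.card (U ⊓ Subgroup.centralizer {t} : Subgroup G) := by
    rw [S.card_Q]
    have := S.q_ge
    omega
  obtain ⟨u, hu, hu1⟩ := (Subgroup.one_lt_card_iff_ne_bot _).mp h |> (Subgroup.ne_bot_iff_exists_ne_one).mp
    |> fun ⟨u, hu⟩ => (⟨u.1, u.2, fun h => hu (Subtype.ext h)⟩ :
      ∃ u : G, u ∈ (U ⊓ Subgroup.centralizer {t} : Subgroup G) ∧ u ≠ 1)
  obtain ⟨-, h2, h3, h4⟩ := exists_third S.R S.t_mem hu.1 hu1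
    (Subgroup.mem_centralizer_singleton_iff.mp hu.2)
  exact ⟨_, h2, h3, h4⟩

/-- rank one data for the centraliser of `t` -/
theorem RC (S : Glob p n q d inf zero U H t w) :
    R1 (⊤ ⊓ Subgroup.centralizer {t}) (Set.univ ∩ Fix t) inf zero
      (U ⊓ Subgroup.centralizer {t}) H := by
  obtain ⟨c, h1, h2, h3⟩ := S.exists_third_t
  exact S.R.descent S.t_mem (Set.mem_univ c) h1 h2 h3

omit [Finite G] [Finite Ω] in
theorem w_norm (S : Glob p n q d inf zero U H t w) {x : G} (hx : x ∈ H) : w * x * w ∈ H := by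
  have := S.SD.w_norm x hx
  rwa [inv_eq_of_mul_eq_one_right S.w_sq] at this

theorem w_comm_t (S : Glob p n q d inf zero U H t w) : w * t = t * w := by
  have h1 : w * t * w = t := by
    apply S.t_unique (S.w_norm S.t_mem)
    · calc w * t * w * (w * t * w) = w * t * (w * w) * t * w := by group
        _ = w * (t * t) * w := by rw [S.w_sq]; group
        _ = 1 := by rw [S.t_sq, mul_one, S.w_sq]
    · intro h
      apply S.t_ne
      have e : t = (w * w) * t * (w * w) := by rw [S.w_sq]; group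
      have e2 : (w * w) * t * (w * w) = w * (w * t * w) * w := by group
      rw [e, e2, h, mul_one, S.w_sq]
  calc w * t = w * t * (w * w) := by rw [S.w_sq, mul_one]
    _ = (w * t * w) * w := by group
    _ = t * w := by rw [h1]

omit [Finite G] [Finite Ω] [FaithfulSMul G Ω] in
theorem w_ne_one (S : Glob p n q d inf zero U H t w) : w ≠ 1 := by
  intro h
  apply S.R.ne
  rw [← S.w_inf, h, one_smul]

omit [Finite G] [Finite Ω] [FaithfulSMul G Ω] in
theorem w_ne_t (S : Glob p n q d inf zero U H t w) : w ≠ t := by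
  intro h
  apply S.R.ne
  rw [← S.w_inf, h, S.t_inf]

/-- `t` and `w` have no common fixed point. -/
theorem no_common_tw (S : Glob p n q d inf zero U H t w) {P : Ω} (h1 : t • P = P) (h2 : w • P = P) :
    False :=
  S.no_common S.t_ne S.t_sq S.w_ne_one S.w_sq S.w_ne_t.symm S.w_comm_t.symm h1 h2

theorem w_mem_C (S : Glob p n q d inf zero U H t w) :
    w ∈ (⊤ ⊓ Subgroup.centralizer {t} : Subgroup G) :=
  ⟨Subgroup.mem_top _, Subgroup.mem_centralizer_singleton_iff.mpr S.w_comm_t⟩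

/-- `|Fix(w)| = q + 1` -/
theorem card_fix_w (S : Glob p n q d inf zero U H t w) : Nat.card {c : Ω // w • c = c} = q + 1 := by
  obtain ⟨g, hg⟩ := isConj_iff.mp S.w_conj
  have h1 := card_fix S.R S.t_mem
  rw [S.card_Q] at h1
  rw [← h1, ← hg]
  refine Nat.card_congr ⟨fun c => ⟨g⁻¹ • c.1, Set.mem_univ _, ?_⟩, fun c => ⟨g • c.1, ?_⟩,
    fun c => Subtype.ext (smul_inv_smul _ _), fun c => Subtype.ext (inv_smul_smul _ _)⟩
  · have h := c.2
    rw [mul_smul, mul_smul] at h
    rw [eq_comm, inv_smul_eq_iff]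
    exact h.symm
  · rw [mul_smul, mul_smul, inv_smul_smul, c.2.2]

end Glob

/-! ### Groups of odd unitary type, step 2: the primes dividing `q - 1` -/

namespace Glob

variable {G Ω : Type*} [Group G] [MulAction G Ω] {p n q d : ℕ} {inf zero : Ω}
  {U H : Subgroup G} {t w : G} [Finite G] [Finite Ω] [FaithfulSMul G Ω]

/-- a generator of `H` and the exponent of the action of `w` -/
theorem exists_gen (S : Glob p n q d inf zero U H t w) :
    ∃ (x₀ : G) (k : ℤ), x₀ ∈ H ∧ (∀ y ∈ H, ∃ i : ℕ, x₀ ^ i = y) ∧ orderOf x₀ = Nat.card H ∧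
      (∀ y ∈ H, w * y * w = y ^ k) := by
  obtain ⟨x, hx⟩ := S.cyc.exists_generator
  have hgen : ∀ y ∈ H, ∃ i : ℕ, (x : G) ^ i = y := by
    intro y hy
    obtain ⟨i, hi⟩ := (Submonoid.mem_powers_iff _ _).mp (mem_powers_iff_mem_zpowers.mpr (hx ⟨y, hy⟩))
    exact ⟨i, congrArg Subtype.val hi⟩
  have ho : orderOf (x : G) = Nat.card H := by
    rw [Subgroup.orderOf_coe]
    exact orderOf_eq_card_of_forall_mem_zpowers hx
  obtain ⟨k, hk⟩ := hgen _ (S.w_norm x.2)
  refine ⟨x, k, x.2, hgen, ho, ?_⟩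
  intro y hy
  obtain ⟨i, rfl⟩ := hgen y hy
  have h1 : w * (x : G) ^ i * w = (w * x * w) ^ i := by
    induction i with
    | zero => rw [pow_zero, pow_zero, mul_one, S.w_sq]
    | succ i ih =>
      rw [pow_succ (w * x * w), ← ih (H.pow_mem x.2 i), pow_succ]
      calc w * ((x : G) ^ i * x) * w = w * (x : G) ^ i * (w * w) * x * w := by rw [S.w_sq]; group
        _ = _ := by group
  rw [h1, ← hk, zpow_natCast, ← pow_mul, ← pow_mul, mul_comm]

omit [Finite Ω] [FaithfulSMul G Ω] in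
theorem card_G (S : Glob p n q d inf zero U H t w) :
    Nat.card G = (q ^ 3 + 1) * q ^ 3 * Nat.card H := by
  rw [← Subgroup.card_top (G := G), S.R.card_L, S.hU]

omit [Finite G] [Finite Ω] [FaithfulSMul G Ω] in
/-- An odd prime divisor of `q - 1` does not divide `q ^ 3 (q ^ 3 + 1)`. -/
theorem not_dvd_of_dvd (S : Glob p n q d inf zero U H t w) {r : ℕ} (hr : r.Prime) (hr2 : r ≠ 2)
    (hrq : r ∣ q - 1) : ¬ r ∣ (q ^ 3 + 1) * q ^ 3 ∧ ¬ r ∣ q + 1 := by
  have hq := S.q_ge
  obtain ⟨m, hm⟩ : ∃ m, q = m + 1 := ⟨q - 1, by omega⟩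
  rw [hm, Nat.add_sub_cancel] at hrq
  have h2 : ¬ r ∣ 2 := fun h => hr2 ((Nat.prime_dvd_prime_iff_eq hr Nat.prime_two).mp h)
  have hr1 : ¬ r ∣ 1 := fun h => hr.one_lt.ne' (Nat.dvd_one.mp h)
  constructor
  · intro h
    rcases (Nat.Prime.dvd_mul hr).mp h with h | h
    · apply h2
      have e : q ^ 3 + 1 = m * (m ^ 2 + 3 * m + 3) + 2 := by rw [hm]; ring
      rw [e] at h
      exact (Nat.dvd_add_right (Dvd.dvd.mul_right hrq _)).mp h
    · apply hr1
      have h3 := hr.dvd_of_dvd_pow h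
      rw [hm] at h3
      exact (Nat.dvd_add_right hrq).mp h3
  · intro h
    apply h2
    rw [hm, add_assoc] at h
    exact (Nat.dvd_add_right hrq).mp h

/-- Burnside: an element of odd prime order `r ∣ q - 1` of `H` does not commute with `w`. -/
theorem not_commute_w [IsSimpleGroup G] (S : Glob p n q d inf zero U H t w) {r : ℕ} (hr : r.Prime)
    (hr2 : r ≠ 2) (hrq : r ∣ q - 1) {x₁ : G} (hx₁ : x₁ ∈ H) (ho : orderOf x₁ = r) :
    ¬ x₁ * w = w * x₁ := by
  intro hcw
  have : Fact r.Prime := ⟨hr⟩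
  obtain ⟨x₀, k, hx₀, hgen, hox, hk⟩ := S.exists_gen
  have hrH : r ∣ Nat.card H := by
    rw [← ho, ← Subgroup.orderOf_mk x₁ hx₁]
    exact orderOf_dvd_natCard _
  set h := Nat.card H with hh
  have hh0 : h ≠ 0 := Nat.card_pos.ne'
  set a := h.factorization r with ha
  have ha1 : 1 ≤ a := (hr.dvd_iff_one_le_factorization hh0).mp hrH
  have hra : r ^ a ∣ h := Nat.ordProj_dvd h r
  have hdiv0 : h / r ^ a ≠ 0 := by
    have := Nat.div_pos (Nat.le_of_dvd (by omega) hra) (pow_pos hr.pos a)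
    omega
  set x := x₀ ^ (h / r ^ a) with hx
  have hoxx : orderOf x = r ^ a := by
    rw [hx, orderOf_pow_of_dvd hdiv0 (by rw [hox]; exact Nat.div_dvd_of_dvd hra), hox,
      Nat.div_div_self hra hh0]
  have hxH : x ∈ H := H.pow_mem hx₀ _
  -- `w` commutes with `x`
  have hwi : w⁻¹ = w := inv_eq_of_mul_eq_one_right S.w_sq
  have hk1 : (r : ℤ) ∣ k - 1 := by
    have h1 : x₁ ^ k = x₁ := by
      rw [← hk x₁ hx₁, ← hcw, mul_assoc, S.w_sq, mul_one]
    have h2 : x₁ ^ (k - 1) = 1 := by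
      rw [zpow_sub, zpow_one, h1, mul_inv_cancel]
    rw [← ho]
    exact orderOf_dvd_iff_zpow_eq_one.mpr h2
  have hk2 : ((r ^ a : ℕ) : ℤ) ∣ (k - 1) * (k + 1) := by
    have h1 : (x ^ k) ^ k = x := by
      rw [← hk x hxH]
      have h3 := hk _ (S.w_norm hxH)
      rw [← h3]
      calc w * (w * x * w) * w = (w * w) * x * (w * w) := by group
        _ = x := by rw [S.w_sq]; group
    rw [← hoxx]
    apply orderOf_dvd_iff_zpow_eq_one.mpr
    have e : (k - 1) * (k + 1) = k * k - 1 := by ring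
    rw [e, zpow_sub, zpow_one, zpow_mul, h1, mul_inv_cancel]
  have hk3 : ((r ^ a : ℕ) : ℤ) ∣ k - 1 := by
    apply IsCoprime.dvd_of_dvd_mul_right _ hk2
    push_cast
    apply IsCoprime.pow_left
    rw [(Nat.prime_iff_prime_int.mp hr).coprime_iff_not_dvd]
    intro h4
    have h5 : (r : ℤ) ∣ 2 := by
      have : (2 : ℤ) = (k + 1) - (k - 1) := by ring
      rw [this]
      exact dvd_sub h4 hk1
    have h6 : r ∣ 2 := by exact_mod_cast h5
    exact hr2 ((Nat.prime_dvd_prime_iff_eq hr Nat.prime_two).mp h6)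
  have hcx : x * w = w * x := by
    have h1 : x ^ k = x := by
      have h2 : x ^ (k - 1) = 1 := by
        rw [← hoxx] at hk3
        exact orderOf_dvd_iff_zpow_eq_one.mp hk3
      rw [zpow_sub, zpow_one] at h2
      exact mul_inv_eq_one.mp h2
    have h3 := hk x hxH
    rw [h1] at h3
    calc x * w = (w * x * w) * w := by rw [h3]
      _ = w * x * (w * w) := by group
      _ = w * x := by rw [S.w_sq, mul_one]
  -- the Sylow subgroup
  have hcard : Nat.card (Subgroup.zpowers x) = r ^ (Nat.card G).factorization r := by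
    rw [Nat.card_zpowers, hoxx, S.card_G, Nat.factorization_mul
      (mul_ne_zero (by omega) (pow_ne_zero _ (by have := S.q_ge; omega))) hh0,
      Finsupp.add_apply, Nat.factorization_eq_zero_of_not_dvd (S.not_dvd_of_dvd hr hr2 hrq).1, zero_add]
  let P : Sylow r G := Sylow.ofCard (Subgroup.zpowers x) hcard
  have hPc : (P : Subgroup G) = Subgroup.zpowers x := rfl
  have hN : Subgroup.normalizer (P : Set G) ≤ Subgroup.centralizer (P : Set G) := by
    intro g hg
    have hgx : g * x = x * g := by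
      have h1 : g⁻¹ * x * g ∈ Subgroup.zpowers x := by
        have := (Subgroup.mem_normalizer_iff''.mp hg x).mp (Subgroup.mem_zpowers x)
        exact this
      have h2 : g⁻¹ * x * g ∈ H := (Subgroup.zpowers_le.mpr hxH) h1
      have h3 : x • g • inf = g • inf := by
        have := S.R.D_a _ h2
        rw [mul_smul, mul_smul, inv_smul_eq_iff] at this
        exact this
      have h4 : x • g • zero = g • zero := by
        have := S.R.D_b _ h2
        rw [mul_smul, mul_smul, inv_smul_eq_iff] at this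
        exact this
      by_cases hth : ∃ c : Ω, c ≠ inf ∧ c ≠ zero ∧ x • c = c
      · obtain ⟨c, hc1, hc2, hc3⟩ := hth
        exact S.R.commute_of_third hxH (Set.mem_univ c) hc1 hc2 hc3 (Subgroup.mem_top g) h3 h4
      · push Not at hth
        by_cases hgi : g • inf = inf
        · have hgz : g • zero = zero := by
            by_contra hne
            refine hth (g • zero) (fun h => ?_) hne h4
            apply S.R.ne
            have : g • inf = g • zero := by rw [hgi, h]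
            exact smul_left_cancel g this
          exact S.R.comm g (S.R.mem_D g (Subgroup.mem_top g) hgi hgz) x hxH
        · have hgi2 : g • inf = zero := by
            by_contra hne
            exact hth (g • inf) hgi hne h3
          have hgz : g • zero = inf := by
            by_contra hne
            refine hth (g • zero) hne (fun h => ?_) h4
            apply S.R.ne
            have : g • inf = g • zero := by rw [hgi2, h]
            exact smul_left_cancel g this
          have hwg : w * g ∈ H := S.R.mem_D _ (Subgroup.mem_top _)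
            (by rw [mul_smul, hgi2, S.w_zero]) (by rw [mul_smul, hgz, S.w_inf])
          have h5 := S.R.comm _ hwg x hxH
          calc g * x = (w * w) * g * x := by rw [S.w_sq, one_mul]
            _ = w * (w * g * x) := by group
            _ = w * (x * (w * g)) := by rw [h5]
            _ = (w * x) * (w * g) := by group
            _ = (x * w) * (w * g) := by rw [hcx]
            _ = x * (w * w) * g := by group
            _ = x * g := by rw [S.w_sq, mul_one]
    rw [Subgroup.mem_centralizer_iff]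
    intro y hy
    obtain ⟨i, rfl⟩ := Subgroup.mem_zpowers_iff.mp hy
    exact ((Commute.zpow_right (show Commute g x from hgx) i).eq).symm
  have hcompl := MonoidHom.ker_transferSylow_isComplement' P hN
  rcases IsSimpleGroup.eq_bot_or_eq_top_of_normal (MonoidHom.transferSylow P hN).ker
    inferInstance with hb | ht
  · rw [hb, Subgroup.isComplement'_bot_left] at hcompl
    have h1 : Nat.card G = r ^ a := by
      rw [← Subgroup.card_top (G := G), ← hcompl, hPc, Nat.card_zpowers, hoxx]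
    have h2 : 2 ∣ Nat.card G := by
      have h3 : orderOf t = 2 := orderOf_eq_prime (by rw [pow_two]; exact S.t_sq) S.t_ne
      rw [← h3]
      exact orderOf_dvd_natCard t
    rw [h1] at h2
    exact hr2 ((Nat.prime_dvd_prime_iff_eq Nat.prime_two hr).mp (Nat.prime_two.dvd_of_dvd_pow h2)).symm
  · rw [ht, Subgroup.isComplement'_top_left] at hcompl
    have h1 : x = 1 := by
      have : x ∈ (P : Subgroup G) := Subgroup.mem_zpowers x
      rw [hcompl] at this
      exact this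
    rw [h1, orderOf_one] at hoxx
    have := Nat.one_lt_pow (by omega : a ≠ 0) hr.one_lt
    omega

/-- An element of odd prime order `r ∣ q - 1` of `H` has only the two fixed points. -/
theorem no_third [IsSimpleGroup G] (S : Glob p n q d inf zero U H t w) {r : ℕ} (hr : r.Prime)
    (hr2 : r ≠ 2) (hrq : r ∣ q - 1) {x₁ : G} (hx₁ : x₁ ∈ H) (ho : orderOf x₁ = r) {c : Ω}
    (hc1 : c ≠ inf) (hc2 : c ≠ zero) : x₁ • c ≠ c := by
  intro hc3
  apply S.not_commute_w hr hr2 hrq hx₁ ho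
  refine (S.R.commute_of_third hx₁ (Set.mem_univ c) hc1 hc2 hc3 (Subgroup.mem_top w) ?_ ?_).symm
  · rw [S.w_inf, S.R.D_b _ hx₁]
  · rw [S.w_zero, S.R.D_a _ hx₁]

end Glob

/-! ### Groups of odd unitary type, step 3: the kernel of `H` on the fixed points of `t` -/

namespace Glob

variable {G Ω : Type*} [Group G] [MulAction G Ω] {p n q d : ℕ} {inf zero : Ω}
  {U H : Subgroup G} {t w : G} [Finite G] [Finite Ω] [FaithfulSMul G Ω]

/-- A level: rank one data inside `G` with the same base points and two-point stabiliser. -/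
structure Level (S : Glob p n q d inf zero U H t w) (L : Subgroup G) (Δ : Set Ω) (Q : Subgroup G)
    (j : G) (c : Ω) : Prop where
  SD : SwapData L Δ inf zero Q H w j
  c_mem : c ∈ Δ
  c_inf : c ≠ inf
  c_zero : c ≠ zero

/-- the odd part of `q - 1` -/
theorem coprime_aux (S : Glob p n q d inf zero U H t w) {m : ℕ}
    (h : ∀ r : ℕ, r.Prime → r ≠ 2 → r ∣ q - 1 → ¬ r ∣ m) : Nat.Coprime (ordCompl[2] (q - 1)) m := by
  have hq := S.q_ge
  rw [Nat.coprime_iff_gcd_eq_one]
  by_contra hne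
  obtain ⟨r, hr, hrd⟩ := Nat.exists_prime_and_dvd hne
  have h1 : r ∣ ordCompl[2] (q - 1) := hrd.trans (Nat.gcd_dvd_left _ _)
  have h2 : r ∣ m := hrd.trans (Nat.gcd_dvd_right _ _)
  refine h r hr ?_ (h1.trans (Nat.ordCompl_dvd _ _)) h2
  rintro rfl
  exact Nat.not_dvd_ordCompl Nat.prime_two (by omega) h1

theorem odd_part_dvd_H (S : Glob p n q d inf zero U H t w) : ordCompl[2] (q - 1) ∣ Nat.card H := by
  have h1 : ordCompl[2] (q - 1) ∣ d * Nat.card H := by
    rw [S.hH, S.sq_sub]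
    exact Dvd.dvd.mul_left (Nat.ordCompl_dvd _ _) _
  refine (Nat.Coprime.dvd_mul_left (S.coprime_aux ?_)).mp h1
  intro r hr hr2 hrq hrd
  exact (S.not_dvd_of_dvd hr hr2 hrq).2 (hrd.trans S.d_dvd)

variable {L : Subgroup G} {Δ : Set Ω} {Q : Subgroup G} {j : G} {c : Ω}

/-- The odd part of `q - 1` times `|K|` divides `|J K|`. -/
theorem Level.dvd_JK [IsSimpleGroup G] {S : Glob p n q d inf zero U H t w} (V : Level S L Δ Q j c) :
    ordCompl[2] (q - 1) * Nat.card (ker Δ H) ∣ Nat.card V.SD.JK := by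
  apply Nat.Coprime.mul_dvd_of_dvd_of_dvd
  · apply S.coprime_aux
    intro r hr hr2 hrq hrd
    have : Fact r.Prime := ⟨hr⟩
    obtain ⟨x, hx⟩ := exists_prime_orderOf_dvd_card' r hrd
    rw [← Subgroup.orderOf_coe] at hx
    exact S.no_third hr hr2 hrq x.2.1 hx V.c_inf V.c_zero (x.2.2 c V.c_mem)
  · refine Dvd.dvd.trans ?_ (Subgroup.card_dvd_of_le V.SD.J_le_JK)
    have h1 := S.odd_part_dvd_H
    have h2 := card_commW V.SD.R.comm V.SD.w_norm
    rw [← h2] at h1
    refine (Nat.Coprime.dvd_mul_right (S.coprime_aux ?_)).mp h1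
    intro r hr hr2 hrq hrd
    have : Fact r.Prime := ⟨hr⟩
    obtain ⟨x, hx⟩ := exists_prime_orderOf_dvd_card' r hrd
    rw [← Subgroup.orderOf_coe] at hx
    exact S.not_commute_w hr hr2 hrq x.2.1 hx (Subgroup.mem_centralizer_singleton_iff.mp x.2.2)
  · exact Subgroup.card_dvd_of_le V.SD.ker_le_JK

/-- The count on a level. -/
theorem Level.count [IsSimpleGroup G] {S : Glob p n q d inf zero U H t w} (V : Level S L Δ Q j c) :
    ∃ N, Nat.card (YSet L Δ H w j) = Nat.card (ker Δ H) * N ∧ ordCompl[2] (q - 1) ∣ N ∧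
      Nat.card Q - Nat.card (Q ⊓ Subgroup.centralizer {j} : Subgroup G) =
        (Nat.card (Q ⊓ Subgroup.centralizer {j} : Subgroup G) + 1) *
          Nat.card (Q ⊓ Subgroup.centralizer {j} : Subgroup G) * N := by
  have h1 := (V.dvd_JK).trans (card_JK_dvd V.SD)
  obtain ⟨M, hM⟩ := h1
  refine ⟨ordCompl[2] (q - 1) * M, ?_, dvd_mul_right _ _, ?_⟩
  · rw [hM]; ring
  · have h2 := main_count V.SD (card_fix V.SD.R V.SD.j_mem)
    rw [hM] at h2
    apply Nat.eq_of_mul_eq_mul_left (Nat.card_pos (α := ker Δ H))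
    rw [h2]
    ring

end Glob

/-! ### Groups of odd unitary type, step 4: `|K| = (q + 1) / d` -/

namespace Glob

variable {G Ω : Type*} [Group G] [MulAction G Ω] {p n q d : ℕ} {inf zero : Ω}
  {U H : Subgroup G} {t w : G} [Finite G] [Finite Ω] [FaithfulSMul G Ω]

variable (Ω) in
/-- the kernel of `H` on the fixed points of `t` -/
abbrev KK (t : G) (H : Subgroup G) : Subgroup G := ker ((Set.univ : Set Ω) ∩ Fix t) H

theorem third_mem (S : Glob p n q d inf zero U H t w) :
    ∃ c : Ω, c ∈ (Set.univ : Set Ω) ∩ Fix t ∧ c ≠ inf ∧ c ≠ zero := by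
  obtain ⟨c, h1, h2, h3⟩ := S.exists_third_t
  exact ⟨c, ⟨Set.mem_univ c, h3⟩, h1, h2⟩

/-- `K` is central in the centraliser of `t` -/
theorem K_comm (S : Glob p n q d inf zero U H t w) {k : G} (hk : k ∈ KK Ω t H) {g : G}
    (hg : g * t = t * g) : g * k = k * g := by
  obtain ⟨c, hc, hc1, hc2⟩ := S.third_mem
  have hgC : g ∈ (⊤ ⊓ Subgroup.centralizer {t} : Subgroup G) :=
    ⟨Subgroup.mem_top _, Subgroup.mem_centralizer_singleton_iff.mpr hg⟩
  exact S.RC.commute_of_third hk.1 hc hc1 hc2 (hk.2 c hc) hgC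
    (hk.2 _ (S.RC.inv g hgC _ S.RC.a_mem)) (hk.2 _ (S.RC.inv g hgC _ S.RC.b_mem))

/-- A `2`-element of `H` fixing a point of `Fix(w)` and commuting with `w` is trivial. -/
theorem two_elt_free (S : Glob p n q d inf zero U H t w) {s : G} (hs : s ∈ H) {a : ℕ}
    (ho : orderOf s = 2 ^ a) {c : Ω} (hsc : s • c = c) (hwc : w • c = c) : s = 1 := by
  rcases Nat.eq_zero_or_pos a with h0 | h0
  · rw [h0, pow_zero] at ho
    exact orderOf_eq_one_iff.mp ho
  exfalso
  -- `t` is a power of `s`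
  have h1 : s ^ (2 ^ (a - 1)) = t := by
    apply S.t_unique (H.pow_mem hs _)
    · rw [← pow_add, ← mul_two, ← pow_succ, Nat.sub_add_cancel h0, ← ho, pow_orderOf_eq_one]
    · intro h
      have h2 := orderOf_dvd_of_pow_eq_one h
      rw [ho] at h2
      have h3 := Nat.le_of_dvd (by positivity) h2
      have h4 : 2 ^ (a - 1) < 2 ^ a := Nat.pow_lt_pow_right (by norm_num) (by omega)
      omega
  have h2 : ∀ m : ℕ, s ^ m • c = c := by
    intro m
    induction m with
    | zero => rw [pow_zero, one_smul]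
    | succ m ih => rw [pow_succ, mul_smul, hsc, ih]
  exact S.no_common_tw (by rw [← h1]; exact h2 _) hwc

/-- A subgroup of `H` of `2`-power order centralised by `w` has order dividing `q + 1`. -/
theorem two_subgroup_dvd (S : Glob p n q d inf zero U H t w) {s : G} (hs : s ∈ H) {a : ℕ}
    (ho : orderOf s = 2 ^ a) (hsw : s * w = w * s) : 2 ^ a ∣ q + 1 := by
  rw [← S.card_fix_w, ← ho, ← Nat.card_zpowers]
  apply card_dvd_set (Subgroup.zpowers s) {c : Ω | w • c = c}
  · intro x hx c hc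
    have hxw : x * w = w * x := by
      obtain ⟨i, rfl⟩ := Subgroup.mem_zpowers_iff.mp hx
      exact (Commute.zpow_left (show Commute s w from hsw) i).eq
    show w • x • c = x • c
    rw [← mul_smul, ← hxw, mul_smul]
    exact congrArg _ hc
  · intro c hc x hx hxc
    have hox : orderOf x ∣ 2 ^ a := by
      rw [← ho]
      exact orderOf_dvd_of_mem_zpowers hx
    obtain ⟨b, -, hb⟩ := (Nat.dvd_prime_pow Nat.prime_two).mp hox
    exact S.two_elt_free ((Subgroup.zpowers_le.mpr hs) hx) hb hxc hc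

omit [Finite Ω] [FaithfulSMul G Ω] in
/-- the `2`-part of `|H|` does not divide `q + 1`. -/
theorem not_ordProj_dvd (S : Glob p n q d inf zero U H t w) : ¬ ordProj[2] (Nat.card H) ∣ q + 1 := by
  intro h
  have hq := S.q_ge
  have h2 : 2 ∣ q - 1 := by
    obtain ⟨m, hm⟩ := S.q_odd
    exact ⟨m, by omega⟩
  have h3 : ordProj[2] (Nat.card H) * 2 ∣ d * Nat.card H := by
    rw [S.hH, S.sq_sub]
    exact Nat.mul_dvd_mul h h2
  rw [← pow_succ] at h3
  have h4 : 2 ^ ((Nat.card H).factorization 2 + 1) ∣ Nat.card H :=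
    (Nat.Coprime.dvd_mul_left (Nat.Coprime.pow_left _ (Nat.coprime_two_left.mpr S.d_odd))).mp h3
  exact Nat.pow_succ_factorization_not_dvd (Nat.card_pos.ne') Nat.prime_two h4

/-- `|H : K|` is even. -/
theorem two_dvd (S : Glob p n q d inf zero U H t w) : 2 ∣ Nat.card H / Nat.card (KK Ω t H) := by
  by_contra hodd
  have hKH : KK Ω t H ≤ H := ker_le
  have hdv := Subgroup.card_dvd_of_le hKH
  -- the `2`-part of `|H|` divides `|K|`
  have h1 : ordProj[2] (Nat.card H) ∣ Nat.card (KK Ω t H) := by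
    have h2 : Nat.card (KK Ω t H) * (Nat.card H / Nat.card (KK Ω t H)) = Nat.card H :=
      Nat.mul_div_cancel' hdv
    have h3 := Nat.ordProj_dvd (Nat.card H) 2
    have h4 : Nat.Coprime (ordProj[2] (Nat.card H)) (Nat.card H / Nat.card (KK Ω t H)) :=
      Nat.Coprime.pow_left _ ((Nat.Prime.coprime_iff_not_dvd Nat.prime_two).mpr hodd)
    apply h4.dvd_of_dvd_mul_right
    rw [h2]
    exact h3
  have hKc : IsCyclic (KK Ω t H) := by
    have : IsCyclic H := S.cyc
    exact isCyclic_of_injective (Subgroup.inclusion hKH) (Subgroup.inclusion_injective hKH)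
  obtain ⟨s, hs, ho⟩ := exists_sylow_gen hKc h1
  apply S.not_ordProj_dvd
  exact S.two_subgroup_dvd (hKH hs) ho (S.K_comm hs S.w_comm_t).symm

/-- The element `j` and its properties. -/
theorem exists_j [IsSimpleGroup G] (S : Glob p n q d inf zero U H t w) :
    ∃ j ∈ H, j ∉ KK Ω t H ∧ j * j ∈ KK Ω t H ∧
      (∀ c ∈ (Set.univ : Set Ω) ∩ Fix t, j • c = c → c = inf ∨ c = zero) ∧
      ∃ E : Subgroup G, Nat.card E = Nat.card (KK Ω t H) * (q - 1) ∧ E ≤ H ∧
        ∀ y ∈ E, (w⁻¹ * y * w) * y ∈ KK Ω t H := by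
  have hKH : KK Ω t H ≤ H := ker_le
  obtain ⟨j, hj, hjK, hj2⟩ := exists_prime_mod S.cyc hKH Nat.prime_two S.two_dvd
  rw [pow_two] at hj2
  obtain ⟨c₀, hc₀, hc1, hc2⟩ := S.third_mem
  have SDj : SwapData (⊤ ⊓ Subgroup.centralizer {t}) ((Set.univ : Set Ω) ∩ Fix t) inf zero
      (U ⊓ Subgroup.centralizer {t}) H w j :=
    ⟨S.RC, S.cyc, S.w_mem_C, S.w_inf, S.w_zero, S.w_sq, hj, hjK, hj2⟩
  have V : Level S _ _ _ j c₀ := ⟨SDj, hc₀, hc1, hc2⟩
  obtain ⟨N, hN1, hN2, hN3⟩ := V.count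
  set fj := Nat.card (U ⊓ Subgroup.centralizer {t} ⊓ Subgroup.centralizer {j} : Subgroup G) with hfj
  have hfdvd : fj ∣ q ^ 3 := by
    rw [← S.hU]
    exact Subgroup.card_dvd_of_le (inf_le_left.trans inf_le_left)
  rw [S.hq, ← pow_mul] at hfdvd
  obtain ⟨c, -, hc⟩ := (Nat.dvd_prime_pow S.hp).mp hfdvd
  have hlt : fj < q := by
    have hle : fj ≤ q := by
      rw [← S.card_Q]
      exact Nat.le_of_dvd Nat.card_pos (Subgroup.card_dvd_of_le inf_le_left)
    refine lt_of_le_of_ne hle ?_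
    intro heq
    apply hjK
    refine ⟨hj, fun P hP => ?_⟩
    have h1 : (U ⊓ Subgroup.centralizer {t} ⊓ Subgroup.centralizer {j} : Subgroup G) =
        U ⊓ Subgroup.centralizer {t} :=
      Subgroup.eq_of_le_of_card_ge inf_le_left (by rw [S.card_Q, ← heq])
    by_cases hPi : P = inf
    · rw [hPi]
      exact S.R.D_a j hj
    obtain ⟨u, hu, rfl⟩ := S.RC.trans P hP hPi
    have hu' : u ∈ (U ⊓ Subgroup.centralizer {t} ⊓ Subgroup.centralizer {j} : Subgroup G) := by
      rw [h1]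
      exact hu
    exact (commute_iff S.RC hj hu).mp (Subgroup.mem_centralizer_singleton_iff.mp hu'.2)
  have hcn : c < n := by
    rw [hc, S.hq] at hlt
    exact (Nat.pow_lt_pow_iff_right (by have := S.hp3; omega)).mp hlt
  rw [S.card_Q, hc] at hN3
  have hc0 : c = 0 := by
    apply step_four_a S.hp S.hp2 hcn (N := N)
    · rw [← S.hq]
      exact hN3
    · rw [← S.hq]
      exact hN2
  rw [hc0, pow_zero] at hc hN3
  have hfix : ∀ c ∈ (Set.univ : Set Ω) ∩ Fix t, j • c = c → c = inf ∨ c = zero := by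
    intro P hP hjP
    by_contra hne
    push Not at hne
    obtain ⟨u, hu, rfl⟩ := S.RC.trans P hP hne.1
    have h1 : u * j = j * u := (commute_iff S.RC hj hu).mpr hjP
    have h2 : u ∈ (U ⊓ Subgroup.centralizer {t} ⊓ Subgroup.centralizer {j} : Subgroup G) :=
      ⟨hu, Subgroup.mem_centralizer_singleton_iff.mpr h1⟩
    rw [Subgroup.card_eq_one.mp hc, Subgroup.mem_bot] at h2
    apply hne.2
    rw [h2, one_smul]
  refine ⟨j, hj, hjK, hj2, hfix, SDj.E, ?_, SDj.E_le, fun y hy => hy.2⟩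
  -- `w` is not in the class of `j`
  have h1Y : (1 : G) ∉ YSet (⊤ ⊓ Subgroup.centralizer {t}) ((Set.univ : Set Ω) ∩ Fix t) H w j := by
    rintro ⟨-, -, l, hl, h⟩
    rw [mul_one] at h
    have h1 := S.RC.inv l hl _ S.RC.a_mem
    have h2 := h _ h1
    rw [mul_smul, mul_smul, inv_smul_smul, S.R.D_a j hj] at h2
    exact S.no_common_tw h1.2 h2
  have hq := S.q_ge
  have hNne : (YSet (⊤ ⊓ Subgroup.centralizer {t}) ((Set.univ : Set Ω) ∩ Fix t) H w j).Nonempty := by
    by_contra hemp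
    rw [Set.not_nonempty_iff_eq_empty] at hemp
    rw [hemp] at hN1
    have h0 : Nat.card (∅ : Set G) = 0 := by simp
    rw [h0] at hN1
    have hN0 : N = 0 := by
      rcases Nat.mul_eq_zero.mp hN1.symm with h | h
      · exact absurd h Nat.card_pos.ne'
      · exact h
    rw [hN0] at hN3
    omega
  rw [card_E_eq SDj h1Y hNne, hN1]
  have h2 : q - 1 = 2 * N := by omega
  rw [h2]
  ring

end Glob

/-! ### Groups of odd unitary type, step 4, second part -/

/-- If `x` has order `r ^ a` and lies in the finite subgroup `C` whose order is divisible by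
`r ^ (a + 1)` then some `r`-element `g ∈ C` outside `⟨x⟩` normalises `⟨x⟩`. -/
theorem exists_normalising {G : Type*} [Group G] [Finite G] {C : Subgroup G} {x : G} (hx : x ∈ C)
    {r a : ℕ} (hr : r.Prime) (ho : orderOf x = r ^ a) (hd : r ^ (a + 1) ∣ Nat.card C) :
    ∃ g ∈ C, g ∉ Subgroup.zpowers x ∧ g ^ (r ^ (a + 1)) = 1 ∧ g⁻¹ * x * g ∈ Subgroup.zpowers x := by
  have : Fact r.Prime := ⟨hr⟩
  have hcard : Nat.card (Subgroup.zpowers (⟨x, hx⟩ : C)) = r ^ a := by
    rw [Nat.card_zpowers, Subgroup.orderOf_mk, ho]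
  obtain ⟨K, hK, hle⟩ := Sylow.exists_subgroup_card_pow_succ (G := C) hd hcard
  have hle' := hle
  set P : Subgroup K := (Subgroup.zpowers (⟨x, hx⟩ : C)).subgroupOf K with hP
  have hPc : Nat.card P = r ^ a := by
    rw [hP, ← hcard]
    exact Nat.card_congr (Subgroup.subgroupOfEquivOfLe hle).toEquiv
  have hidx : P.index = r := by
    have := P.card_mul_index
    rw [hPc, hK, pow_succ] at this
    exact Nat.eq_of_mul_eq_mul_left (pow_pos hr.pos a) this
  have hn : P.Normal := by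
    apply Subgroup.normal_of_index_eq_minFac_card
    rw [hidx, hK, Nat.Prime.pow_minFac hr (by omega)]
  obtain ⟨g, hg⟩ : ∃ g : K, g ∉ P := by
    by_contra h
    push Not at h
    have : P = ⊤ := by
      rw [eq_top_iff]
      exact fun g _ => h g
    rw [this, Subgroup.index_top] at hidx
    exact hr.one_lt.ne hidx
  have hmemP : ∀ y : K, y ∈ P ↔ ((y : C) : G) ∈ Subgroup.zpowers x := by
    intro y
    rw [hP, Subgroup.mem_subgroupOf, Subgroup.mem_zpowers_iff, Subgroup.mem_zpowers_iff]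
    constructor
    · rintro ⟨i, hi⟩
      exact ⟨i, by rw [← hi]; rfl⟩
    · rintro ⟨i, hi⟩
      exact ⟨i, Subtype.ext (by rw [← hi]; rfl)⟩
  refine ⟨((g : C) : G), (g : C).2, fun h => hg ((hmemP g).mpr h), ?_, ?_⟩
  · have := pow_card_eq_one' (G := K) (x := g)
    rw [hK] at this
    exact congrArg (fun y : K => ((y : C) : G)) this
  · have hxK : (⟨x, hx⟩ : C) ∈ K := hle (Subgroup.mem_zpowers _)
    have h1 : (⟨⟨x, hx⟩, hxK⟩ : K) ∈ P := (hmemP _).mpr (Subgroup.mem_zpowers x)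
    have h2 := hn.conj_mem _ h1 g⁻¹
    rw [inv_inv] at h2
    exact (hmemP _).mp h2

namespace Glob

variable {G Ω : Type*} [Group G] [MulAction G Ω] {p n q d : ℕ} {inf zero : Ω}
  {U H : Subgroup G} {t w : G} [Finite G] [Finite Ω] [FaithfulSMul G Ω]

theorem card_C (S : Glob p n q d inf zero U H t w) :
    Nat.card (⊤ ⊓ Subgroup.centralizer {t} : Subgroup G) = (q + 1) * q * Nat.card H := by
  rw [S.RC.card_L, S.card_Q]

/-- An odd prime divisor of `q + 1` does not divide `|H : K|`. -/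
theorem not_dvd_index [IsSimpleGroup G] (S : Glob p n q d inf zero U H t w) {r : ℕ} (hr : r.Prime)
    (hr2 : r ≠ 2) (hrq : r ∣ q + 1) (hrm : r ∣ Nat.card H / Nat.card (KK Ω t H)) : False := by
  have : Fact r.Prime := ⟨hr⟩
  have hKH : KK Ω t H ≤ H := ker_le
  have hmul : Nat.card (KK Ω t H) * (Nat.card H / Nat.card (KK Ω t H)) = Nat.card H :=
    Nat.mul_div_cancel' (Subgroup.card_dvd_of_le hKH)
  have hH0 : Nat.card H ≠ 0 := Nat.card_pos.ne'
  set a := (Nat.card H).factorization r with ha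
  obtain ⟨x, hxH, ho⟩ := exists_sylow_gen S.cyc (Nat.ordProj_dvd (Nat.card H) r)
  rw [← ha] at ho
  have hxt : x * t = t * x := S.R.comm x hxH t S.t_mem
  have hxC : x ∈ (⊤ ⊓ Subgroup.centralizer {t} : Subgroup G) := S.RC.D_le hxH
  -- `x ∉ K`
  have hxK : x ∉ KK Ω t H := by
    intro h
    have h1 : r ^ a ∣ Nat.card (KK Ω t H) := by
      rw [← ho, ← Subgroup.orderOf_mk x h]
      exact orderOf_dvd_natCard _
    have h2 : r ^ (a + 1) ∣ Nat.card H := by
      rw [← hmul, pow_succ]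
      exact Nat.mul_dvd_mul h1 hrm
    exact Nat.pow_succ_factorization_not_dvd hH0 hr h2
  -- a third fixed point
  have hth : ∃ c, c ∈ (Set.univ : Set Ω) ∩ Fix t ∧ c ≠ inf ∧ c ≠ zero ∧ x • c = c := by
    by_contra hno
    push Not at hno
    have hdv : r ^ (a + 1) ∣ Nat.card (⊤ ⊓ Subgroup.centralizer {t} : Subgroup G) := by
      rw [S.card_C, pow_succ, mul_comm]
      exact Nat.mul_dvd_mul (Dvd.dvd.mul_right hrq _) (Nat.ordProj_dvd _ _)
    obtain ⟨g, hgC, hgx, hgo, hgn⟩ := exists_normalising hxC hr ho hdv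
    have h2 : g⁻¹ * x * g ∈ H := (Subgroup.zpowers_le.mpr hxH) hgn
    have h3 : x • g • inf = g • inf := by
      have := S.R.D_a _ h2
      rwa [mul_smul, mul_smul, inv_smul_eq_iff] at this
    have h4 : x • g • zero = g • zero := by
      have := S.R.D_b _ h2
      rwa [mul_smul, mul_smul, inv_smul_eq_iff] at this
    have h5 := S.RC.inv g hgC _ S.RC.a_mem
    have h6 := S.RC.inv g hgC _ S.RC.b_mem
    -- an `r`-element of `H` lies in `⟨x⟩`
    have key : ∀ y ∈ H, y ^ (r ^ (a + 1)) = 1 → y ∈ Subgroup.zpowers x := by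
      intro y hy hyo
      rw [mem_iff_pow_card S.cyc (Subgroup.zpowers_le.mpr hxH) hy, Nat.card_zpowers, ho]
      have h7 := orderOf_dvd_of_pow_eq_one hyo
      obtain ⟨b, hb, hb2⟩ := (Nat.dvd_prime_pow hr).mp h7
      apply orderOf_dvd_iff_pow_eq_one.mp
      have h8 : orderOf y ∣ Nat.card H := by
        rw [← Subgroup.orderOf_mk y hy]
        exact orderOf_dvd_natCard _
      rw [hb2] at h8 ⊢
      exact pow_dvd_pow _ ((hr.pow_dvd_iff_le_factorization hH0).mp h8)
    by_cases hgi : g • inf = inf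
    · have hgz : g • zero = zero := by
        by_contra hne
        refine hno (g • zero) h6 (fun h => ?_) hne h4
        apply S.R.ne
        have : g • inf = g • zero := by rw [hgi, h]
        exact smul_left_cancel g this
      exact hgx (key g (S.R.mem_D g (Subgroup.mem_top g) hgi hgz) hgo)
    · have hgi2 : g • inf = zero := by
        by_contra hne
        exact hno (g • inf) h5 hgi hne h3
      have hgz : g • zero = inf := by
        by_contra hne
        refine hno (g • zero) h6 hne (fun h => ?_) h4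
        apply S.R.ne
        have : g • inf = g • zero := by rw [hgi2, h]
        exact smul_left_cancel g this
      have hg2 : g ^ 2 ∈ H := S.R.mem_D _ (Subgroup.mem_top _)
        (by rw [pow_two, mul_smul, hgi2, hgz]) (by rw [pow_two, mul_smul, hgz, hgi2])
      -- `g` is a power of `g ^ 2`
      obtain ⟨m, hm⟩ : Odd (r ^ (a + 1)) := (hr.odd_of_ne_two hr2).pow
      have hg : g = (g ^ 2) ^ (m + 1) := by
        rw [← pow_mul]
        have e : 2 * (m + 1) = r ^ (a + 1) + 1 := by omega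
        rw [e, pow_succ, hgo, one_mul]
      have hgH : g ∈ H := by
        rw [hg]
        exact H.pow_mem hg2 _
      exact S.R.ne ((S.R.D_a g hgH).symm.trans hgi2)
  obtain ⟨c, hc, hc1, hc2, hxc⟩ := hth
  -- descend to the centraliser of `x`
  have R' := S.RC.descent hxH hc hc1 hc2 hxc
  obtain ⟨j, hj, hjK, hj2, hjfix, -⟩ := S.exists_j
  have hwx : w * x = x * w := S.RC.commute_of_third hxH hc hc1 hc2 hxc S.w_mem_C
    (by rw [S.w_inf, S.R.D_b _ hxH]) (by rw [S.w_zero, S.R.D_a _ hxH])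
  have hcm : c ∈ (Set.univ : Set Ω) ∩ Fix t ∩ Fix x := ⟨hc, hxc⟩
  have hwm : w ∈ (⊤ ⊓ Subgroup.centralizer {t} ⊓ Subgroup.centralizer {x} : Subgroup G) :=
    ⟨S.w_mem_C, Subgroup.mem_centralizer_singleton_iff.mpr hwx⟩
  have hjm : j ∉ ker ((Set.univ : Set Ω) ∩ Fix t ∩ Fix x) H := by
    intro h
    rcases hjfix c hc (h.2 c hcm) with h1 | h1
    · exact hc1 h1
    · exact hc2 h1
  have SDj : SwapData (⊤ ⊓ Subgroup.centralizer {t} ⊓ Subgroup.centralizer {x})
      ((Set.univ : Set Ω) ∩ Fix t ∩ Fix x) inf zero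
      (U ⊓ Subgroup.centralizer {t} ⊓ Subgroup.centralizer {x}) H w j :=
    ⟨R', S.cyc, hwm, S.w_inf, S.w_zero, S.w_sq, hj, hjm, ⟨hj2.1, fun c hc => hj2.2 c hc.1⟩⟩
  have V : Level S _ _ _ j c := ⟨SDj, hcm, hc1, hc2⟩
  obtain ⟨N, hN1, hN2, hN3⟩ := V.count
  -- the fixed points of `j` on the smaller set
  have hj1 : Nat.card (U ⊓ Subgroup.centralizer {t} ⊓ Subgroup.centralizer {x} ⊓
      Subgroup.centralizer {j} : Subgroup G) = 1 := by
    rw [Subgroup.card_eq_one, eq_bot_iff]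
    rintro u ⟨hu, huj⟩
    have h1 := (commute_iff R' hj hu).mp (Subgroup.mem_centralizer_singleton_iff.mp huj)
    have h2 := R'.inv u (R'.Q_le hu) _ R'.b_mem
    rcases hjfix _ h2.1 h1 with h3 | h3
    · exact absurd h3 (R'.smul_ne hu R'.ne.symm)
    · exact R'.free u hu h3
  rw [hj1] at hN3
  set f := Nat.card (U ⊓ Subgroup.centralizer {t} ⊓ Subgroup.centralizer {x} : Subgroup G) with hf
  have hfdvd : f ∣ q := by
    rw [← S.card_Q]
    exact Subgroup.card_dvd_of_le inf_le_left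
  have hfd2 := hfdvd
  rw [S.hq] at hfd2
  obtain ⟨e, -, he⟩ := (Nat.dvd_prime_pow S.hp).mp hfd2
  have hf1 : f ≠ 1 := by
    intro h
    rw [hf, Subgroup.card_eq_one] at h
    obtain ⟨u, hu, rfl⟩ := R'.trans c hcm hc1
    rw [h, Subgroup.mem_bot] at hu
    apply hc2
    rw [hu, one_smul]
  have he1 : 1 ≤ e := by
    rcases Nat.eq_zero_or_pos e with h0 | h0
    · rw [h0, pow_zero] at he
      exact absurd he hf1
    · exact h0
  have hlt : f < q := by
    have hle : f ≤ q := Nat.le_of_dvd (by have := S.q_ge; omega) hfdvd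
    refine lt_of_le_of_ne hle ?_
    intro heq
    apply hxK
    refine ⟨hxH, fun P hP => ?_⟩
    have h1 : (U ⊓ Subgroup.centralizer {t} ⊓ Subgroup.centralizer {x} : Subgroup G) =
        U ⊓ Subgroup.centralizer {t} :=
      Subgroup.eq_of_le_of_card_ge inf_le_left (by rw [S.card_Q, ← heq])
    by_cases hPi : P = inf
    · rw [hPi]
      exact S.R.D_a x hxH
    obtain ⟨u, hu, rfl⟩ := S.RC.trans P hP hPi
    have hu' : u ∈ (U ⊓ Subgroup.centralizer {t} ⊓ Subgroup.centralizer {x} : Subgroup G) := by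
      rw [h1]
      exact hu
    exact (commute_iff S.RC hxH hu).mp (Subgroup.mem_centralizer_singleton_iff.mp hu'.2)
  have hen : e < n := by
    rw [he, S.hq] at hlt
    exact (Nat.pow_lt_pow_iff_right (by have := S.hp3; omega)).mp hlt
  -- `f + 1 ∣ q + 1`
  have hlag : f + 1 ∣ q + 1 := by
    have h1 : Nat.card (⊤ ⊓ Subgroup.centralizer {t} ⊓ Subgroup.centralizer {x} : Subgroup G) ∣
        Nat.card (⊤ ⊓ Subgroup.centralizer {t} : Subgroup G) := Subgroup.card_dvd_of_le inf_le_left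
    rw [R'.card_L, S.card_C, ← hf] at h1
    have h2 := Nat.dvd_of_mul_dvd_mul_right Nat.card_pos h1
    have h3 : f + 1 ∣ (q + 1) * q := (dvd_mul_right _ _).trans h2
    refine (Nat.Coprime.dvd_mul_right ?_).mp h3
    rw [S.hq, he]
    apply Nat.Coprime.pow_right
    rw [Nat.coprime_comm, Nat.Prime.coprime_iff_not_dvd S.hp]
    intro h4
    have h5 : p ∣ p ^ e := dvd_pow_self p (by omega)
    exact S.hp.one_lt.ne' (Nat.dvd_one.mp ((Nat.dvd_add_right h5).mp h4))
  apply step_four_b S.hp S.hp2 he1 hen (N := N)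
  · rw [← he, ← S.hq]
    exact hlag
  · rw [← he]
    omega
  · rw [← S.hq]
    exact hN2

/-- An element of `H` with a third fixed point in `Fix(t)` lies in `K`. -/
theorem mem_K_of_third [IsSimpleGroup G] (S : Glob p n q d inf zero U H t w) {x : G} (hx : x ∈ H)
    {c : Ω} (hct : t • c = c) (hc1 : c ≠ inf) (hc2 : c ≠ zero) (hxc : x • c = c) :
    x ∈ KK Ω t H := by
  by_contra hxK
  have hKH : KK Ω t H ≤ H := ker_le
  obtain ⟨r, e, hr, hrm, h1, h2⟩ := exists_pow_prime_mod S.cyc hKH hx hxK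
  have hye : x ^ e ∈ H := H.pow_mem hx e
  have hpow : ∀ (y : G), y • c = c → ∀ m : ℕ, y ^ m • c = c := by
    intro y hy m
    induction m with
    | zero => rw [pow_zero, one_smul]
    | succ m ih => rw [pow_succ, mul_smul, hy, ih]
  have hyc : x ^ e • c = c := hpow x hxc e
  by_cases hr2 : r = 2
  · subst hr2
    obtain ⟨j, hj, hjK, hj2, hjfix, -⟩ := S.exists_j
    rw [pow_two] at h2
    have h3 := inv_mul_mem_of_sq S.cyc hj hye hjK h1 hj2 h2
    have h4 := h3.2 c ⟨Set.mem_univ c, hct⟩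
    rw [mul_smul, hyc, inv_smul_eq_iff] at h4
    rcases hjfix c ⟨Set.mem_univ c, hct⟩ h4.symm with h5 | h5
    · exact hc1 h5
    · exact hc2 h5
  · have hrH : r ∣ q ^ 2 - 1 := (hrm.trans (Nat.div_dvd_of_dvd (Subgroup.card_dvd_of_le hKH))).trans
      S.card_H_dvd
    rw [S.sq_sub] at hrH
    rcases (Nat.Prime.dvd_mul hr).mp hrH with h | h
    · exact S.not_dvd_index hr hr2 h hrm
    · have hro : r ∣ orderOf (x ^ e) := by
        apply dvd_orderOf (κ := Nat.card (KK Ω t H)) hr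
        · rw [pow_mul]
          exact (mem_iff_pow_card S.cyc hKH (H.pow_mem hye r)).mp h2
        · intro h3
          exact h1 ((mem_iff_pow_card S.cyc hKH hye).mpr h3)
      obtain ⟨m, hm⟩ := hro
      have hm0 : m ≠ 0 := by
        rintro rfl
        rw [mul_zero] at hm
        exact (orderOf_pos (x ^ e)).ne' hm
      have ho : orderOf ((x ^ e) ^ m) = r := by
        rw [orderOf_pow_of_dvd hm0 ⟨r, by rw [hm, mul_comm]⟩, hm, Nat.mul_div_cancel _ (by omega)]
      exact S.no_third hr hr2 h (H.pow_mem hye m) ho hc1 hc2 (hpow _ hyc m)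

/-- `|H| = |K| (q - 1)` -/
theorem card_H_eq [IsSimpleGroup G] (S : Glob p n q d inf zero U H t w) :
    Nat.card H = Nat.card (KK Ω t H) * (q - 1) := by
  have hKH : KK Ω t H ≤ H := ker_le
  have hq := S.q_ge
  obtain ⟨j, -, -, -, -, E, hE1, hE2, -⟩ := S.exists_j
  have h1 : Nat.card (KK Ω t H) * (q - 1) ∣ Nat.card H := by
    rw [← hE1]
    exact Subgroup.card_dvd_of_le hE2
  -- orbits of `H` on `Fix(t) \ {inf, zero}`
  set Y : Set Ω := {c | t • c = c ∧ c ≠ inf ∧ c ≠ zero} with hY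
  have hYc : Nat.card Y = q - 1 := by
    classical
    have h2 := S.RC.card_Δ
    rw [S.card_Q] at h2
    have e1 : Nat.card ((Set.univ : Set Ω) ∩ Fix t : Set Ω) = Nat.card Y + 2 := by
      have e3 : Nat.card ((Set.univ : Set Ω) ∩ Fix t : Set Ω) =
          Nat.card {a : ((Set.univ : Set Ω) ∩ Fix t : Set Ω) // a ≠ ⟨inf, S.RC.a_mem⟩} + 1 := by
        rw [← Finite.card_option]
        exact (Nat.card_congr (Equiv.optionSubtypeNe (⟨inf, S.RC.a_mem⟩ :
          ((Set.univ : Set Ω) ∩ Fix t : Set Ω)))).symm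
      have e4 : Nat.card {a : ((Set.univ : Set Ω) ∩ Fix t : Set Ω) // a ≠ ⟨inf, S.RC.a_mem⟩} =
          Nat.card {a : {a : ((Set.univ : Set Ω) ∩ Fix t : Set Ω) // a ≠ ⟨inf, S.RC.a_mem⟩} //
            a ≠ ⟨⟨zero, S.RC.b_mem⟩, fun h => S.R.ne (congrArg Subtype.val h).symm⟩} + 1 := by
        rw [← Finite.card_option]
        exact (Nat.card_congr (Equiv.optionSubtypeNe (⟨⟨zero, S.RC.b_mem⟩, fun h =>
          S.R.ne (congrArg Subtype.val h).symm⟩ : {a : ((Set.univ : Set Ω) ∩ Fix t : Set Ω) //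
            a ≠ ⟨inf, S.RC.a_mem⟩}))).symm
      have e5 : Nat.card Y = Nat.card {a : {a : ((Set.univ : Set Ω) ∩ Fix t : Set Ω) //
          a ≠ ⟨inf, S.RC.a_mem⟩} // a ≠ ⟨⟨zero, S.RC.b_mem⟩, fun h =>
            S.R.ne (congrArg Subtype.val h).symm⟩} :=
        Nat.card_congr ⟨fun c => ⟨⟨⟨c.1, Set.mem_univ _, c.2.1⟩, fun h => c.2.2.1
          (congrArg Subtype.val h)⟩, fun h => c.2.2.2 (congrArg (fun z => z.1.1) h)⟩,
          fun c => ⟨c.1.1.1, c.1.1.2.2, fun h => c.1.2 (Subtype.ext h),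
            fun h => c.2 (Subtype.ext (Subtype.ext h))⟩, fun c => rfl, fun c => rfl⟩
      omega
    omega
  have h3 : Nat.card H ∣ Nat.card (KK Ω t H) * Nat.card Y := by
    apply card_dvd_mul_set H Y
    · rintro s hs c ⟨hc1, hc2, hc3⟩
      refine ⟨?_, ?_, ?_⟩
      · rw [← mul_smul, S.R.comm t S.t_mem s hs, mul_smul, hc1]
      · intro h
        apply hc2
        rw [← S.R.D_a s hs] at h
        exact smul_left_cancel s h
      · intro h
        apply hc3
        rw [← S.R.D_b s hs] at h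
        exact smul_left_cancel s h
    · rintro c ⟨hc1, hc2, hc3⟩
      refine Nat.card_congr ⟨fun s => ⟨s.1, S.mem_K_of_third s.2.1 hc1 hc2 hc3 s.2.2⟩,
        fun s => ⟨s.1, s.2.1, s.2.2 c ⟨Set.mem_univ c, hc1⟩⟩, fun s => rfl, fun s => rfl⟩
  rw [hYc] at h3
  exact Nat.dvd_antisymm h3 h1

/-- `w` inverts `H / K` -/
theorem inv_mod_K [IsSimpleGroup G] (S : Glob p n q d inf zero U H t w) {y : G} (hy : y ∈ H) :
    (w⁻¹ * y * w) * y ∈ KK Ω t H := by
  obtain ⟨j, -, -, -, -, E, hE1, hE2, hE3⟩ := S.exists_j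
  have h1 : E = H := Subgroup.eq_of_le_of_card_ge hE2 (by rw [hE1, S.card_H_eq])
  apply hE3
  rw [h1]
  exact hy

/-- `d |K| = q + 1` -/
theorem card_K [IsSimpleGroup G] (S : Glob p n q d inf zero U H t w) :
    d * Nat.card (KK Ω t H) = q + 1 := by
  have hq := S.q_ge
  have h1 := S.hH
  rw [S.card_H_eq, S.sq_sub, ← mul_assoc] at h1
  exact Nat.eq_of_mul_eq_mul_right (by omega) h1

end Glob

/-! ### Groups of odd unitary type, step 5: `w h w = h ^ (-q)` -/

namespace Glob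

variable {G Ω : Type*} [Group G] [MulAction G Ω] {p n q d : ℕ} {inf zero : Ω}
  {U H : Subgroup G} {t w : G} [Finite G] [Finite Ω] [FaithfulSMul G Ω]

omit [Finite G] [Finite Ω] [FaithfulSMul G Ω] in
theorem w_inv (S : Glob p n q d inf zero U H t w) : w⁻¹ = w := inv_eq_of_mul_eq_one_right S.w_sq

omit [Finite G] [Finite Ω] [FaithfulSMul G Ω] in
/-- An element of `H` of order two is `t`. -/
theorem eq_t_of_zpow (S : Glob p n q d inf zero U H t w) {y : G} (hy : y ∈ H) (m : ℤ)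
    (h1 : y ^ (2 * m) = 1) (h2 : y ^ m ≠ 1) : y ^ m = t := by
  apply S.t_unique (H.zpow_mem hy m) _ h2
  rw [← zpow_add, ← two_mul, h1]

theorem two_mul_dvd [IsSimpleGroup G] (S : Glob p n q d inf zero U H t w) {x₀ : G} {k : ℤ}
    (hx₀ : x₀ ∈ H) (ho : orderOf x₀ = Nat.card H) (hk : ∀ y ∈ H, w * y * w = y ^ k) :
    (Nat.card H : ℤ) ∣ 2 * (k + q) ∧ ((q - 1 : ℕ) : ℤ) ∣ k + 1 := by
  have hq := S.q_ge
  have hKH : KK Ω t H ≤ H := ker_le
  set κ := Nat.card (KK Ω t H) with hκ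
  have hκ0 : 0 < κ := Nat.card_pos
  have hcard : Nat.card H = κ * (q - 1) := S.card_H_eq
  have hdκ : d * κ = q + 1 := S.card_K
  -- `q - 1 ∣ k + 1`
  have h1 : ((q - 1 : ℕ) : ℤ) ∣ k + 1 := by
    have h2 : x₀ ^ (k + 1) ∈ KK Ω t H := by
      have := S.inv_mod_K hx₀
      rw [S.w_inv, hk x₀ hx₀] at this
      rwa [zpow_add, zpow_one]
    have h3 : (x₀ ^ (k + 1)) ^ (κ : ℤ) = 1 := by
      rw [zpow_natCast]
      exact (mem_iff_pow_card S.cyc hKH (H.zpow_mem hx₀ _)).mp h2
    rw [← zpow_mul] at h3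
    have h4 := orderOf_dvd_iff_zpow_eq_one.mpr h3
    rw [ho, hcard] at h4
    push_cast at h4
    rw [mul_comm] at h4
    exact Int.dvd_of_mul_dvd_mul_right (by exact_mod_cast hκ0.ne') h4
  -- `κ ∣ k - 1`
  have h2 : (κ : ℤ) ∣ k - 1 := by
    have h3 : x₀ ^ (q - 1) ∈ KK Ω t H := by
      rw [mem_iff_pow_card S.cyc hKH (H.pow_mem hx₀ _), ← pow_mul, mul_comm, ← hκ, ← hcard, ← ho,
        pow_orderOf_eq_one]
    have h4 := S.K_comm h3 S.w_comm_t
    have h5 : (x₀ ^ (q - 1)) ^ k = x₀ ^ (q - 1) := by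
      rw [← hk _ (H.pow_mem hx₀ _), h4, mul_assoc, S.w_sq, mul_one]
    have h6 : x₀ ^ (((q - 1 : ℕ) : ℤ) * (k - 1)) = 1 := by
      rw [zpow_mul, zpow_natCast, zpow_sub, zpow_one, h5, mul_inv_cancel]
    have h7 := orderOf_dvd_iff_zpow_eq_one.mpr h6
    rw [ho, hcard] at h7
    push_cast at h7
    rw [mul_comm (κ : ℤ)] at h7
    exact Int.dvd_of_mul_dvd_mul_left (by
      have : (q - 1 : ℕ) ≠ 0 := by omega
      exact_mod_cast this) h7
  refine ⟨?_, h1⟩
  have h3 : ((q - 1 : ℕ) : ℤ) ∣ k + q := by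
    have e : k + (q : ℤ) = (k + 1) + ((q - 1 : ℕ) : ℤ) := by
      rw [Nat.cast_sub (by omega)]; push_cast; ring
    rw [e]
    exact dvd_add h1 (dvd_refl _)
  have h4 : (κ : ℤ) ∣ k + q := by
    have e : k + (q : ℤ) = (k - 1) + ((q + 1 : ℕ) : ℤ) := by push_cast; ring
    rw [e, ← hdκ]
    push_cast
    exact dvd_add h2 (dvd_mul_left _ _)
  -- lcm
  have h5 : ((Nat.lcm (q - 1) κ : ℕ) : ℤ) ∣ k + q := by
    have h6 : Nat.lcm (q - 1) κ ∣ (k + q).natAbs :=
      Nat.lcm_dvd (Int.natCast_dvd.mp h3) (Int.natCast_dvd.mp h4)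
    exact Int.natCast_dvd.mpr h6
  have h6 : Nat.gcd (q - 1) κ ∣ 2 := by
    have h7 : Nat.gcd (q - 1) κ ∣ q + 1 := (Nat.gcd_dvd_right _ _).trans ⟨d, by rw [mul_comm, hdκ]⟩
    have h8 : Nat.gcd (q - 1) κ ∣ q - 1 := Nat.gcd_dvd_left _ _
    have e : q + 1 = (q - 1) + 2 := by omega
    rw [e] at h7
    exact (Nat.dvd_add_right h8).mp h7
  have h7 : Nat.card H ∣ 2 * Nat.lcm (q - 1) κ := by
    rw [hcard, mul_comm κ, ← Nat.gcd_mul_lcm]
    exact Nat.mul_dvd_mul_right h6 _
  have h8 : ((Nat.card H : ℕ) : ℤ) ∣ ((2 * Nat.lcm (q - 1) κ : ℕ) : ℤ) :=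
    Int.natCast_dvd_natCast.mpr h7
  refine h8.trans ?_
  push_cast
  exact mul_dvd_mul_left 2 h5

/-- **Step 5**: `w y w = y ^ (-q)` for `y ∈ H`. -/
theorem w_pow [IsSimpleGroup G] (S : Glob p n q d inf zero U H t w) {y : G} (hy : y ∈ H) :
    w * y * w * y ^ q = 1 := by
  obtain ⟨x₀, k, hx₀, hgen, ho, hk⟩ := S.exists_gen
  obtain ⟨h2kq, hq1k⟩ := S.two_mul_dvd hx₀ ho hk
  suffices hmain : x₀ ^ (k + q) = 1 by
    obtain ⟨i, rfl⟩ := hgen y hy
    rw [hk _ hy]
    have e : (x₀ ^ i) ^ k * (x₀ ^ i) ^ q = (x₀ ^ (k + q)) ^ i := by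
      rw [← zpow_natCast x₀ i, ← zpow_natCast _ q, ← zpow_mul, ← zpow_mul, ← zpow_add,
        ← zpow_natCast, ← zpow_mul]
      congr 1
      ring
    rw [e, hmain, one_pow]
  by_contra hne
  have hq := S.q_ge
  have hKH : KK Ω t H ≤ H := ker_le
  set κ := Nat.card (KK Ω t H) with hκ
  have hκ0 : 0 < κ := Nat.card_pos
  have hcard : Nat.card H = κ * (q - 1) := S.card_H_eq
  have hdκ : d * κ = q + 1 := S.card_K
  have hH0 : Nat.card H ≠ 0 := Nat.card_pos.ne'
  have hxt : x₀ ^ (k + q) = t := by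
    apply S.eq_t_of_zpow hx₀ _ _ hne
    rw [← ho] at h2kq
    exact orderOf_dvd_iff_zpow_eq_one.mp h2kq
  -- the Sylow `2`-subgroup of `H`
  set a := (Nat.card H).factorization 2 with ha
  have h2a : 2 ^ a ∣ Nat.card H := Nat.ordProj_dvd _ _
  set o := Nat.card H / 2 ^ a with hodef
  have ho2 : 2 ^ a * o = Nat.card H := Nat.mul_div_cancel' h2a
  have hoodd : ¬ 2 ∣ o := Nat.not_dvd_ordCompl Nat.prime_two hH0
  have ho0 : o ≠ 0 := by
    rintro h0
    rw [h0, mul_zero] at ho2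
    exact hH0 ho2.symm
  set s := x₀ ^ o with hs
  have hsH : s ∈ H := H.pow_mem hx₀ _
  have hso : orderOf s = 2 ^ a := by
    rw [hs, orderOf_pow_of_dvd ho0 (by rw [ho, ← ho2]; exact dvd_mul_left _ _), ho, ← ho2,
      Nat.mul_div_cancel _ (Nat.pos_of_ne_zero ho0)]
  have htodd : ∀ m : ℕ, ¬ 2 ∣ m → t ^ m = t := by
    intro m hm
    obtain ⟨l, hl⟩ : Odd m := by
      rw [← Nat.not_even_iff_odd, even_iff_two_dvd]
      exact hm
    rw [hl, pow_succ, pow_mul, pow_two, S.t_sq, one_pow, one_mul]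
  have hskq : s ^ (k + q) = t := by
    have e : s ^ (k + q) = (x₀ ^ (k + q)) ^ o := by
      rw [hs, ← zpow_natCast x₀ o, ← zpow_mul, ← zpow_natCast, ← zpow_mul, mul_comm]
    rw [e, hxt]
    exact htodd o hoodd
  have h2H : 2 ^ a ∣ (q + 1) * (q - 1) := by
    rw [← S.sq_sub]
    exact h2a.trans S.card_H_dvd
  have hnot : ¬ 2 ^ a ∣ q + 1 := S.not_ordProj_dvd
  have hnotm : ¬ 2 ^ a ∣ q - 1 := by
    intro h
    have h3 : 2 ^ a * 2 ∣ d * Nat.card H := by
      rw [S.hH, S.sq_sub, mul_comm (q + 1)]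
      refine Nat.mul_dvd_mul h ?_
      obtain ⟨m, hm⟩ := S.q_odd
      exact ⟨m + 1, by omega⟩
    rw [← pow_succ] at h3
    have h4 : 2 ^ (a + 1) ∣ Nat.card H :=
      (Nat.Coprime.dvd_mul_left (Nat.Coprime.pow_left _ (Nat.coprime_two_left.mpr S.d_odd))).mp h3
    exact Nat.pow_succ_factorization_not_dvd hH0 Nat.prime_two h4
  obtain ⟨m, hm⟩ := S.q_odd
  rcases Nat.even_or_odd m with hme | hmo
  · -- `q = 1 mod 4`
    obtain ⟨l, hl⟩ := hme
    have hq4 : q = 4 * l + 1 := by omega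
    -- `q + 1 = 2 (2 l + 1)`
    have hqp : q + 1 = 2 * (2 * l + 1) := by omega
    have hcop : Nat.Coprime (2 ^ a) (2 * l + 1) :=
      Nat.Coprime.pow_left _ (Nat.coprime_two_left.mpr ⟨l, rfl⟩)
    have h3 : 2 ^ a ∣ 2 * (q - 1) := by
      rw [hqp] at h2H
      have e : 2 * (2 * l + 1) * (q - 1) = (2 * l + 1) * (2 * (q - 1)) := by ring
      rw [e] at h2H
      exact hcop.dvd_of_dvd_mul_left h2H
    -- an element of order `2 (q - 1)`
    have hκe : ∃ κ', κ = 2 * κ' ∧ ¬ 2 ∣ κ' := by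
      have h4 : 2 ∣ d * κ := by rw [hdκ, hqp]; exact dvd_mul_right _ _
      have h5 : 2 ∣ κ := (Nat.Coprime.dvd_mul_left (Nat.coprime_two_left.mpr S.d_odd)).mp h4
      obtain ⟨κ', hκ'⟩ := h5
      refine ⟨κ', hκ', ?_⟩
      rintro ⟨c, hc⟩
      have h6 : d * (2 * (2 * c)) = 2 * (2 * l + 1) := by rw [← hc, ← hκ', hdκ, hqp]
      have h7 : 2 * (d * c) = 2 * l + 1 := by
        have : 2 * (2 * (d * c)) = 2 * (2 * l + 1) := by rw [← h6]; ring
        omega
      omega
    obtain ⟨κ', hκ', hκo⟩ := hκe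
    have hκ'0 : κ' ≠ 0 := by
      rintro rfl
      omega
    have hH2 : Nat.card H = κ' * (2 * (q - 1)) := by rw [hcard, hκ']; ring
    set z := x₀ ^ κ' with hz
    have hzH : z ∈ H := H.pow_mem hx₀ _
    have hzo : orderOf z = 2 * (q - 1) := by
      rw [hz, orderOf_pow_of_dvd hκ'0 (by rw [ho, hH2]; exact dvd_mul_right _ _), ho, hH2,
        Nat.mul_div_cancel_left _ (Nat.pos_of_ne_zero hκ'0)]
    have hzkq : z ^ (k + q) = t := by
      have e : z ^ (k + q) = (x₀ ^ (k + q)) ^ κ' := by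
        rw [hz, ← zpow_natCast x₀ κ', ← zpow_mul, ← zpow_natCast, ← zpow_mul, mul_comm]
      rw [e, hxt]
      exact htodd κ' hκo
    have hzq1 : z ^ ((q - 1 : ℕ) : ℤ) = t := by
      apply S.eq_t_of_zpow hzH
      · have : (2 : ℤ) * ((q - 1 : ℕ) : ℤ) = ((2 * (q - 1) : ℕ) : ℤ) := by push_cast; ring
        rw [this, zpow_natCast, ← hzo, pow_orderOf_eq_one]
      · rw [zpow_natCast]
        intro h
        have h4 := orderOf_dvd_of_pow_eq_one h
        rw [hzo] at h4
        have := Nat.le_of_dvd (by omega) h4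
        omega
    have hzk1 : z ^ (k + 1) = 1 := by
      have e : (k + 1 : ℤ) = (k + q) - ((q - 1 : ℕ) : ℤ) := by
        rw [Nat.cast_sub (by omega)]; push_cast; ring
      rw [e, zpow_sub, hzkq, hzq1, mul_inv_cancel]
    -- an involution which is not conjugate to `t`
    obtain ⟨y, hy1, hy2⟩ : ∃ y ∈ Subgroup.zpowers z, y ∉ YSet ⊤ (Set.univ : Set Ω) H w t := by
      by_contra hcon
      push Not at hcon
      have h4 : Nat.card (Subgroup.zpowers z) ≤ Nat.card (YSet ⊤ (Set.univ : Set Ω) H w t) :=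
        Nat.card_le_card_of_injective (fun y : Subgroup.zpowers z => (⟨y.1, hcon y.1 y.2⟩ :
          YSet ⊤ (Set.univ : Set Ω) H w t)) (by
            intro y y' h
            exact Subtype.ext (congrArg (fun c : YSet ⊤ (Set.univ : Set Ω) H w t => c.1) h))
      rw [Nat.card_zpowers, hzo, S.card_Y] at h4
      omega
    have hyH : y ∈ H := (Subgroup.zpowers_le.mpr hzH) hy1
    have hyk : y ^ (k + 1) = 1 := by
      obtain ⟨i, rfl⟩ := Subgroup.mem_zpowers_iff.mp hy1
      rw [← zpow_mul, mul_comm, zpow_mul, hzk1, one_zpow]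
    have hwy2 : (w * y) ^ 2 = 1 := by
      rw [pow_two]
      calc w * y * (w * y) = (w * y * w) * y := by group
        _ = y ^ k * y := by rw [hk y hyH]
        _ = 1 := by rw [← zpow_add_one, hyk]
    have hwy1 : w * y ≠ 1 := by
      intro h
      apply S.R.ne
      have : (w * y) • inf = inf := by rw [h, one_smul]
      rw [mul_smul, S.R.D_a y hyH, S.w_inf] at this
      exact this.symm
    -- Thompson transfer
    have hidx : (Subgroup.zpowers s).index = 2 * ((2 * l + 1) * (q ^ 2 - q + 1) * q ^ 3 * o) := by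
      have h5 := (Subgroup.zpowers s).card_mul_index
      rw [Nat.card_zpowers, hso, S.card_G, ← ho2] at h5
      have h6 : q ^ 3 + 1 = 2 * ((2 * l + 1) * (q ^ 2 - q + 1)) := by
        have h7 : q ≤ q ^ 2 := Nat.le_self_pow (by norm_num) q
        have h8 : q ^ 3 + 1 = (q + 1) * (q ^ 2 - q + 1) := by
          zify [h7]
          ring
        rw [h8, hqp]
        ring
      rw [h6] at h5
      apply Nat.eq_of_mul_eq_mul_left (pow_pos (by norm_num : 0 < 2) a)
      rw [h5]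
      ring
    have hoddm : Odd ((2 * l + 1) * (q ^ 2 - q + 1) * q ^ 3 * o) := by
      have ho' : Odd o := by
        rw [← Nat.not_even_iff_odd, even_iff_two_dvd]
        exact hoodd
      have h9 : Odd (q ^ 2 - q + 1) := by
        have h10 : q ^ 2 - q = q * (q - 1) := by rw [Nat.mul_sub, mul_one, pow_two]
        rw [h10]
        apply Even.add_one
        exact Even.mul_left ⟨2 * l, by omega⟩ q
      exact ((Odd.mul ⟨l, rfl⟩ h9).mul S.q_odd.pow).mul ho'
    obtain ⟨N, hN, hNn, -⟩ := Cfsg.Agent.Involutions.RankThree.exists_index_two_of_no_conj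
      (Subgroup.zpowers s) hoddm hidx (w * y) hwy2 (by
        intro g hg
        apply hy2
        rw [mem_Y]
        refine ⟨hyH, ?_⟩
        have h5 := (Subgroup.zpowers_le.mpr hsH) hg
        have h6 : g⁻¹ * (w * y) * g = t := by
          apply S.t_unique h5
          · calc g⁻¹ * (w * y) * g * (g⁻¹ * (w * y) * g) = g⁻¹ * ((w * y) ^ 2) * g := by
                  rw [pow_two]; group
              _ = 1 := by rw [hwy2]; group
          · intro h
            apply hwy1
            have : w * y = g * (g⁻¹ * (w * y) * g) * g⁻¹ := by group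
            rw [this, h]
            group
        rw [isConj_iff]
        refine ⟨g, ?_⟩
        rw [← h6]
        group)
    rcases IsSimpleGroup.eq_bot_or_eq_top_of_normal N hNn with h | h
    · rw [h, Subgroup.index_bot, S.card_G] at hN
      have h10 : 27 ≤ q ^ 3 := by
        calc 27 = 3 ^ 3 := by norm_num
          _ ≤ q ^ 3 := Nat.pow_le_pow_left hq 3
      have h11 : 1 ≤ Nat.card H := Nat.card_pos
      have h12 : 28 * 27 * 1 ≤ (q ^ 3 + 1) * q ^ 3 * Nat.card H :=
        Nat.mul_le_mul (Nat.mul_le_mul (by omega) h10) h11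
      omega
    · rw [h, Subgroup.index_top] at hN
      omega
  · -- `q = 3 mod 4`
    obtain ⟨l, hl⟩ := hmo
    have hq4 : q - 1 = 2 * (2 * l + 1) := by omega
    have hcop : Nat.Coprime (2 ^ a) (2 * l + 1) :=
      Nat.Coprime.pow_left _ (Nat.coprime_two_left.mpr ⟨l, rfl⟩)
    have h3 : 2 ^ a ∣ 2 * (q + 1) := by
      rw [hq4] at h2H
      have e : (q + 1) * (2 * (2 * l + 1)) = (2 * l + 1) * (2 * (q + 1)) := by ring
      rw [e] at h2H
      exact hcop.dvd_of_dvd_mul_left h2H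
    have h4 : s ^ ((q + 1 : ℕ) : ℤ) = t := by
      apply S.eq_t_of_zpow hsH
      · have : (2 : ℤ) * ((q + 1 : ℕ) : ℤ) = ((2 * (q + 1) : ℕ) : ℤ) := by push_cast; ring
        rw [this, zpow_natCast]
        rw [← hso] at h3
        exact orderOf_dvd_iff_pow_eq_one.mp h3
      · rw [zpow_natCast]
        intro h
        apply hnot
        rw [← hso]
        exact orderOf_dvd_of_pow_eq_one h
    have h5 : s ^ (k - 1) = 1 := by
      have e : (k - 1 : ℤ) = (k + q) - ((q + 1 : ℕ) : ℤ) := by push_cast; ring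
      rw [e, zpow_sub, hskq, h4, mul_inv_cancel]
    have h6 : s * w = w * s := by
      have h7 : s ^ k = s := by
        rw [zpow_sub, zpow_one] at h5
        exact mul_inv_eq_one.mp h5
      have h8 := hk s hsH
      rw [h7] at h8
      calc s * w = (w * s * w) * w := by rw [h8]
        _ = w * s * (w * w) := by group
        _ = w * s := by rw [S.w_sq, mul_one]
    exact hnot (S.two_subgroup_dvd hsH hso h6)

end Glob

/-! ### Groups of odd unitary type, step 6: consequences -/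

namespace Glob

variable {G Ω : Type*} [Group G] [MulAction G Ω] {p n q d : ℕ} {inf zero : Ω}
  {U H : Subgroup G} {t w : G} [Finite G] [Finite Ω] [FaithfulSMul G Ω]

/-- `h ∈ H` with `h ^ (q + 1) = 1` lies in `K`. -/
theorem mem_K_of_pow [IsSimpleGroup G] (S : Glob p n q d inf zero U H t w) {y : G} (hy : y ∈ H)
    (h : y ^ (q + 1) = 1) : y ∈ KK Ω t H := by
  have hq := S.q_ge
  have hKH : KK Ω t H ≤ H := ker_le
  rw [mem_iff_pow_card S.cyc hKH hy]
  apply orderOf_dvd_iff_pow_eq_one.mp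
  have h1 := orderOf_dvd_of_pow_eq_one h
  have h2 : orderOf y ∣ Nat.card H := by
    rw [← Subgroup.orderOf_mk y hy]
    exact orderOf_dvd_natCard _
  rw [S.card_H_eq] at h2
  rw [← S.card_K, mul_comm] at h1
  have h3 := Nat.dvd_gcd h1 h2
  rw [Nat.gcd_mul_left] at h3
  have h4 : Nat.gcd d (q - 1) = 1 := by
    rw [← Nat.coprime_iff_gcd_eq_one]
    rcases (Nat.dvd_prime Nat.prime_three).mp S.d_dvd_three with h5 | h5
    · rw [h5]
      exact Nat.coprime_one_left _
    · rw [h5, Nat.Prime.coprime_iff_not_dvd Nat.prime_three]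
      intro h6
      exact (S.not_dvd_of_dvd Nat.prime_three (by norm_num) h6).2 (h5 ▸ S.d_dvd)
  rwa [h4, mul_one] at h3

theorem pow_of_mem_K [IsSimpleGroup G] (S : Glob p n q d inf zero U H t w) {y : G}
    (hy : y ∈ KK Ω t H) : y ^ (q + 1) = 1 := by
  have hKH : KK Ω t H ≤ H := ker_le
  rw [← S.card_K, mul_comm, pow_mul, (mem_iff_pow_card S.cyc hKH (hKH hy)).mp hy, one_pow]

theorem K_cent [IsSimpleGroup G] (S : Glob p n q d inf zero U H t w) {y : G} (hy : y ∈ H)
    (h : y ^ (q + 1) = 1) {g : G} (hg : g * t = t * g) : g * y = y * g :=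
  S.K_comm (S.mem_K_of_pow hy h) hg

theorem K_of [IsSimpleGroup G] (S : Glob p n q d inf zero U H t w) {y : G} (hy : y ∈ H) {x : G}
    (hx : x ∈ U) (hxt : x * t = t * x) (hx1 : x ≠ 1) (hyx : y * x = x * y) : y ^ (q + 1) = 1 := by
  obtain ⟨-, h1, h2, h3⟩ := exists_third S.R S.t_mem hx hx1 hxt
  obtain ⟨-, -, -, h4⟩ := exists_third S.R hy hx hx1 hyx.symm
  exact S.pow_of_mem_K (S.mem_K_of_third hy h3 h1 h2 h4)

/-- The elements of `H` commuting with `w` are those of `K`. -/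
theorem card_cent_w [IsSimpleGroup G] (S : Glob p n q d inf zero U H t w) :
    (H ⊓ Subgroup.centralizer {w} : Subgroup G) = KK Ω t H := by
  apply le_antisymm
  · rintro y ⟨hy, hyw⟩
    apply S.mem_K_of_pow hy
    have h1 := Subgroup.mem_centralizer_singleton_iff.mp hyw
    have h2 := S.w_pow hy
    rw [← h1, mul_assoc y, S.w_sq, mul_one] at h2
    rw [pow_succ', h2]
  · intro y hy
    exact ⟨hy.1, Subgroup.mem_centralizer_singleton_iff.mpr (S.K_comm hy S.w_comm_t).symm⟩

/-- the conjugates of `t` which swap the base points are conjugate to `w` under `H` -/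
theorem w_class [IsSimpleGroup G] (S : Glob p n q d inf zero U H t w) {g : G} (hg : IsConj t g)
    (hgi : g • inf = zero) : ∃ h ∈ H, g = h * w * h⁻¹ := by
  have hq := S.q_ge
  have hg2 : g * g = 1 := by
    obtain ⟨l, rfl⟩ := isConj_iff.mp hg
    calc l * t * l⁻¹ * (l * t * l⁻¹) = l * (t * t) * l⁻¹ := by group
      _ = 1 := by rw [S.t_sq]; group
  have hgz : g • zero = inf := by rw [← hgi, ← mul_smul, hg2, one_smul]
  have hyH : w⁻¹ * g ∈ H := S.R.mem_D _ (Subgroup.mem_top _)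
    (by rw [mul_smul, hgi, inv_smul_eq_iff, S.w_inf]) (by rw [mul_smul, hgz, inv_smul_eq_iff, S.w_zero])
  have hyY : w⁻¹ * g ∈ YSet ⊤ (Set.univ : Set Ω) H w t := by
    rw [mem_Y, mul_inv_cancel_left]
    exact ⟨hyH, hg⟩
  -- `J = Y`
  have hJsub : (S.SD.J : Set G) ⊆ YSet ⊤ (Set.univ : Set Ω) H w t := by
    intro s hs
    have := YSet_mul S.SD (S.SD.J_le_JK hs) S.one_mem_Y
    rwa [mul_one] at this
  have hJc : Nat.card S.SD.J = q - 1 := by
    have h1 := card_commW S.SD.R.comm S.SD.w_norm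
    rw [S.card_cent_w, S.card_H_eq, mul_comm] at h1
    exact Nat.eq_of_mul_eq_mul_left Nat.card_pos h1
  have hJY : (S.SD.J : Set G) = YSet ⊤ (Set.univ : Set Ω) H w t := by
    apply Set.eq_of_subset_of_ncard_le hJsub
    rw [← Nat.card_coe_set_eq, ← Nat.card_coe_set_eq, S.card_Y]
    exact hJc.ge
  rw [← hJY] at hyY
  obtain ⟨z, hz, hz2⟩ := hyY
  refine ⟨z⁻¹, H.inv_mem hz, ?_⟩
  have : g = w * (w⁻¹ * g) := by group
  rw [this, hz2]
  group

/-- `H` is transitive on the non-identity elements of `C_U(t)` -/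
theorem H_trans [IsSimpleGroup G] (S : Glob p n q d inf zero U H t w) {x y : G} (hx : x ∈ U)
    (hxt : x * t = t * x) (hx1 : x ≠ 1) (hy : y ∈ U) (hyt : y * t = t * y) (hy1 : y ≠ 1) :
    ∃ h ∈ H, h * x * h⁻¹ = y := by
  classical
  have hq := S.q_ge
  obtain ⟨-, ha1, ha2, ha3⟩ := exists_third S.R S.t_mem hx hx1 hxt
  obtain ⟨-, hb1, hb2, hb3⟩ := exists_third S.R S.t_mem hy hy1 hyt
  set Y : Set Ω := {c | t • c = c ∧ c ≠ inf ∧ c ≠ zero} with hY
  have hYc : Nat.card Y = q - 1 := by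
    have h2 := S.RC.card_Δ
    rw [S.card_Q] at h2
    have e3 : Nat.card ((Set.univ : Set Ω) ∩ Fix t : Set Ω) =
        Nat.card {a : ((Set.univ : Set Ω) ∩ Fix t : Set Ω) // a ≠ ⟨inf, S.RC.a_mem⟩} + 1 := by
      rw [← Finite.card_option]
      exact (Nat.card_congr (Equiv.optionSubtypeNe (⟨inf, S.RC.a_mem⟩ :
        ((Set.univ : Set Ω) ∩ Fix t : Set Ω)))).symm
    have e4 : Nat.card {a : ((Set.univ : Set Ω) ∩ Fix t : Set Ω) // a ≠ ⟨inf, S.RC.a_mem⟩} =
        Nat.card {a : {a : ((Set.univ : Set Ω) ∩ Fix t : Set Ω) // a ≠ ⟨inf, S.RC.a_mem⟩} //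
          a ≠ ⟨⟨zero, S.RC.b_mem⟩, fun h => S.R.ne (congrArg Subtype.val h).symm⟩} + 1 := by
      rw [← Finite.card_option]
      exact (Nat.card_congr (Equiv.optionSubtypeNe (⟨⟨zero, S.RC.b_mem⟩, fun h =>
        S.R.ne (congrArg Subtype.val h).symm⟩ : {a : ((Set.univ : Set Ω) ∩ Fix t : Set Ω) //
          a ≠ ⟨inf, S.RC.a_mem⟩}))).symm
    have e5 : Nat.card Y = Nat.card {a : {a : ((Set.univ : Set Ω) ∩ Fix t : Set Ω) //
        a ≠ ⟨inf, S.RC.a_mem⟩} // a ≠ ⟨⟨zero, S.RC.b_mem⟩, fun h =>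
          S.R.ne (congrArg Subtype.val h).symm⟩} :=
      Nat.card_congr ⟨fun c => ⟨⟨⟨c.1, Set.mem_univ _, c.2.1⟩, fun h => c.2.2.1
        (congrArg Subtype.val h)⟩, fun h => c.2.2.2 (congrArg (fun z => z.1.1) h)⟩,
        fun c => ⟨c.1.1.1, c.1.1.2.2, fun h => c.1.2 (Subtype.ext h),
          fun h => c.2 (Subtype.ext (Subtype.ext h))⟩, fun c => rfl, fun c => rfl⟩
    omega
  have hinv : ∀ s ∈ H, ∀ c ∈ Y, s • c ∈ Y := by
    rintro s hs c ⟨hc1, hc2, hc3⟩
    refine ⟨?_, ?_, ?_⟩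
    · rw [← mul_smul, S.R.comm t S.t_mem s hs, mul_smul, hc1]
    · intro h
      apply hc2
      rw [← S.R.D_a s hs] at h
      exact smul_left_cancel s h
    · intro h
      apply hc3
      rw [← S.R.D_b s hs] at h
      exact smul_left_cancel s h
  let _ : MulAction H Y :=
    { smul := fun s y => ⟨(s : G) • (y : Ω), hinv s s.2 y y.2⟩
      one_smul := fun y => Subtype.ext (one_smul G (y : Ω))
      mul_smul := fun s t y => Subtype.ext (mul_smul (s : G) (t : G) (y : Ω)) }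
  have hval : ∀ (s : H) (y : Y), ((s • y : Y) : Ω) = (s : G) • (y : Ω) := fun s y => rfl
  set c₀ : Y := ⟨x • zero, ha3, ha1, ha2⟩ with hc₀
  have hstab : Nat.card (MulAction.stabilizer H c₀) = Nat.card (KK Ω t H) := by
    refine Nat.card_congr ⟨fun s => ⟨s.1.1, S.mem_K_of_third s.1.2 ha3 ha1 ha2
      (congrArg Subtype.val s.2)⟩, fun s => ⟨⟨s.1, s.2.1⟩, Subtype.ext (s.2.2 _ ⟨Set.mem_univ _, ha3⟩)⟩,
      fun s => rfl, fun s => rfl⟩
  have horb : Nat.card (MulAction.orbit H c₀) = q - 1 := by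
    have h1 := (MulAction.stabilizer H c₀).card_mul_index
    rw [MulAction.index_stabilizer, hstab, S.card_H_eq] at h1
    rw [Nat.card_coe_set_eq]
    exact Nat.eq_of_mul_eq_mul_left Nat.card_pos h1
  have huniv : MulAction.orbit H c₀ = Set.univ := by
    apply Set.eq_of_subset_of_ncard_le (Set.subset_univ _)
    rw [Set.ncard_univ, hYc, ← Nat.card_coe_set_eq, horb]
  have hmem : (⟨y • zero, hb3, hb1, hb2⟩ : Y) ∈ MulAction.orbit H c₀ := by
    rw [huniv]
    exact Set.mem_univ _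
  obtain ⟨s, hs⟩ := hmem
  have hs' : (s : G) • x • zero = y • zero := congrArg Subtype.val hs
  refine ⟨s, s.2, ?_⟩
  have h1 : ((s : G) * x * (s : G)⁻¹) • zero = y • zero := by
    have : (s : G)⁻¹ • zero = zero := by rw [inv_smul_eq_iff, S.R.D_b _ s.2]
    rw [mul_smul, mul_smul, this, hs']
  have h2 := S.R.norm s (Subgroup.mem_top _) (S.R.D_a _ s.2) x hx
  have h3 := S.R.free (y⁻¹ * ((s : G) * x * (s : G)⁻¹)) (U.mul_mem (U.inv_mem hy) h2) (by
    rw [mul_smul, h1, inv_smul_smul])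
  exact (inv_mul_eq_one.mp h3).symm

end Glob

/-! ### Groups of odd unitary type, step 7: `C_U(t)` is central in `U` -/

namespace Glob

variable {G Ω : Type*} [Group G] [MulAction G Ω] {p n q d : ℕ} {inf zero : Ω}
  {U H : Subgroup G} {t w : G} [Finite G] [Finite Ω] [FaithfulSMul G Ω]

omit [Finite G] [Finite Ω] in
/-- An element of `H` commuting with all elements of `U` is trivial. -/
theorem eq_one_of_cent (S : Glob p n q d inf zero U H t w) {x : G} (hx : x ∈ H)
    (h : ∀ u ∈ U, u * x = x * u) : x = 1 := by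
  apply eq_one_of_forall (Ω := Ω)
  intro c
  by_cases hc : c = inf
  · rw [hc, S.R.D_a x hx]
  · obtain ⟨u, hu, rfl⟩ := S.R.trans c (Set.mem_univ c) hc
    exact (commute_iff S.R hx hu).mp (h u hu)

/-- elements of `K` commute with `C_U(t)` -/
theorem K_comm_Q [IsSimpleGroup G] (S : Glob p n q d inf zero U H t w) {x u : G}
    (hx : x ∈ KK Ω t H) (hut : u * t = t * u) : u * x = x * u := S.K_comm hx hut

/-- The centraliser in `U` of an element of odd prime order of `K` is `C_U(t)`. -/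
theorem cent_of_mem_K [IsSimpleGroup G] (S : Glob p n q d inf zero U H t w) {x : G}
    (hx : x ∈ KK Ω t H) (hx1 : x ≠ 1) {u : G} (hu : u ∈ U) (hux : u * x = x * u) : u * t = t * u := by
  have hq := S.q_ge
  have hxH := hx.1
  obtain ⟨c, hc, hc1, hc2⟩ := S.third_mem
  have hxc : x • c = c := hx.2 c hc
  have R' := S.R.descent hxH (Set.mem_univ c) hc1 hc2 hxc
  have huC : u ∈ (U ⊓ Subgroup.centralizer {x} : Subgroup G) :=
    ⟨hu, Subgroup.mem_centralizer_singleton_iff.mpr hux⟩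
  by_cases htk : t ∈ ker ((Set.univ : Set Ω) ∩ Fix x) H
  · exact (commute_iff S.R S.t_mem hu).mpr (htk.2 _ (R'.inv u (R'.Q_le huC) _ R'.b_mem))
  have hwx : w * x = x * w := S.K_comm hx S.w_comm_t
  have SDt : SwapData (⊤ ⊓ Subgroup.centralizer {x}) ((Set.univ : Set Ω) ∩ Fix x) inf zero
      (U ⊓ Subgroup.centralizer {x}) H w t :=
    ⟨R', S.cyc, ⟨Subgroup.mem_top _, Subgroup.mem_centralizer_singleton_iff.mpr hwx⟩, S.w_inf,
      S.w_zero, S.w_sq, S.t_mem, htk, by rw [S.t_sq]; exact Subgroup.one_mem _⟩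
  have V : Level S _ _ _ t c := ⟨SDt, ⟨Set.mem_univ c, hxc⟩, hc1, hc2⟩
  obtain ⟨N, hN1, hN2, hN3⟩ := V.count
  have hQ : (U ⊓ Subgroup.centralizer {x} ⊓ Subgroup.centralizer {t} : Subgroup G) =
      U ⊓ Subgroup.centralizer {t} := by
    apply le_antisymm
    · rintro v ⟨hv, hvt⟩
      exact ⟨hv.1, hvt⟩
    · rintro v ⟨hv, hvt⟩
      exact ⟨⟨hv, Subgroup.mem_centralizer_singleton_iff.mpr
        (S.K_comm hx (Subgroup.mem_centralizer_singleton_iff.mp hvt))⟩, hvt⟩
  rw [hQ, S.card_Q] at hN3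
  set f := Nat.card (U ⊓ Subgroup.centralizer {x} : Subgroup G) with hf
  have hfdvd : f ∣ q ^ 3 := by
    rw [← S.hU]
    exact Subgroup.card_dvd_of_le inf_le_left
  have hqf : q ∣ f := by
    rw [← S.card_Q, hf]
    apply Subgroup.card_dvd_of_le
    rw [← hQ]
    exact inf_le_left
  have hfd2 := hfdvd
  rw [S.hq, ← pow_mul] at hfd2
  obtain ⟨e, he3, he⟩ := (Nat.dvd_prime_pow S.hp).mp hfd2
  rw [S.hq, he] at hqf
  have hne : n ≤ e := (Nat.pow_dvd_pow_iff_le_right S.hp.one_lt).mp hqf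
  obtain ⟨m, hm⟩ := Nat.exists_eq_add_of_le hne
  have h1 : p ^ m - 1 = (p ^ n + 1) * N := by
    rw [he, S.hq, hm, pow_add] at hN3
    apply Nat.eq_of_mul_eq_mul_left (Nat.pos_of_ne_zero (pow_ne_zero n S.hp.ne_zero))
    rw [Nat.mul_sub, mul_one, hN3]
    ring
  obtain ⟨l, hl⟩ := two_mul_dvd_of_dvd S.hp.two_le S.hn (h1 ▸ dvd_mul_right _ _)
  have hn := S.hn
  have hl1 : l ≤ 1 := by
    by_contra hcon
    have : 2 * n * 2 ≤ 2 * n * l := Nat.mul_le_mul_left _ (by omega)
    omega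
  interval_cases l
  · -- `f = q`
    have hfq : f = q := by rw [he, S.hq, hm, hl]; simp
    have h2 : (U ⊓ Subgroup.centralizer {x} ⊓ Subgroup.centralizer {t} : Subgroup G) =
        U ⊓ Subgroup.centralizer {x} :=
      Subgroup.eq_of_le_of_card_ge inf_le_left (by rw [hQ, S.card_Q, ← hf, hfq])
    rw [← h2] at huC
    exact Subgroup.mem_centralizer_singleton_iff.mp huC.2
  · -- `f = q ^ 3`
    exfalso
    apply hx1
    have hfq : f = q ^ 3 := by
      rw [he, S.hq, hm, hl, ← pow_mul]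
      congr 1
      ring
    have h2 : (U ⊓ Subgroup.centralizer {x} : Subgroup G) = U :=
      Subgroup.eq_of_le_of_card_ge inf_le_left (by rw [S.hU, ← hf, hfq])
    apply S.eq_one_of_cent hxH
    intro v hv
    rw [← h2] at hv
    exact Subgroup.mem_centralizer_singleton_iff.mp hv.2

/-- the centre of `U` as a subgroup of `G` -/
def ZU (U : Subgroup G) : Subgroup G where
  carrier := {z | z ∈ U ∧ ∀ u ∈ U, z * u = u * z}
  mul_mem' := by
    rintro x y ⟨hx, hx'⟩ ⟨hy, hy'⟩
    refine ⟨U.mul_mem hx hy, fun u hu => ?_⟩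
    rw [mul_assoc, hy' u hu, ← mul_assoc, hx' u hu, mul_assoc]
  one_mem' := ⟨U.one_mem, fun u _ => by rw [one_mul, mul_one]⟩
  inv_mem' := by
    rintro x ⟨hx, hx'⟩
    exact ⟨U.inv_mem hx, fun u hu => ((show Commute x u from hx' u hu).inv_left).eq⟩

omit [Finite G] in
theorem mem_ZU {z : G} : z ∈ ZU U ↔ z ∈ U ∧ ∀ u ∈ U, z * u = u * z := Iff.rfl

omit [Finite G] [Finite Ω] [FaithfulSMul G Ω] in
theorem ZU_norm (S : Glob p n q d inf zero U H t w) {h z : G} (hh : h ∈ H) (hz : z ∈ ZU U) :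
    h * z * h⁻¹ ∈ ZU U := by
  refine ⟨S.R.norm h (Subgroup.mem_top _) (S.R.D_a h hh) z hz.1, fun u hu => ?_⟩
  have h1 := S.R.norm h⁻¹ (Subgroup.mem_top _) (S.R.D_a _ (H.inv_mem hh)) u hu
  rw [inv_inv] at h1
  have h2 := hz.2 _ h1
  calc h * z * h⁻¹ * u = h * (z * (h⁻¹ * u * h)) * h⁻¹ := by group
    _ = h * ((h⁻¹ * u * h) * z) * h⁻¹ := by rw [h2]
    _ = u * (h * z * h⁻¹) := by group

omit [Finite Ω] [FaithfulSMul G Ω] in
theorem exists_center (S : Glob p n q d inf zero U H t w) : ∃ z ∈ ZU U, z ≠ 1 := by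
  have hq := S.q_ge
  have : Fact p.Prime := ⟨S.hp⟩
  have hUp : IsPGroup p U := by
    apply IsPGroup.of_card (n := n * 3)
    rw [S.hU, S.hq, ← pow_mul]
  have hnt : Nontrivial U := by
    rw [← Finite.one_lt_card_iff_nontrivial, S.hU]
    exact Nat.one_lt_pow (by norm_num) (by omega)
  have h1 := hUp.center_nontrivial
  obtain ⟨z, hz⟩ := exists_ne (1 : Subgroup.center U)
  refine ⟨((z : U) : G), ⟨z.1.2, fun u hu => ?_⟩, fun h => hz (Subtype.ext (Subtype.ext h))⟩
  have := (Subgroup.mem_center_iff.mp z.2 ⟨u, hu⟩)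
  exact (congrArg Subtype.val this).symm

omit [Finite G] [Finite Ω] [FaithfulSMul G Ω] in
theorem norm_Q (S : Glob p n q d inf zero U H t w) {h x : G} (hh : h ∈ H) (hx : x ∈ U)
    (hxt : x * t = t * x) : h * x * h⁻¹ ∈ U ∧ (h * x * h⁻¹) * t = t * (h * x * h⁻¹) := by
  refine ⟨S.R.norm h (Subgroup.mem_top _) (S.R.D_a h hh) x hx, ?_⟩
  have h1 := S.R.comm h hh t S.t_mem
  have h2 := S.R.comm _ (H.inv_mem hh) t S.t_mem
  calc h * x * h⁻¹ * t = h * x * (h⁻¹ * t) := by group
    _ = h * (x * t) * h⁻¹ := by rw [h2]; group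
    _ = (h * t) * x * h⁻¹ := by rw [hxt]; group
    _ = t * (h * x * h⁻¹) := by rw [h1]; group

/-- `C_U(t)` is commutative. -/
theorem Q_comm [IsSimpleGroup G] (S : Glob p n q d inf zero U H t w) {x y : G} (hx : x ∈ U)
    (hxt : x * t = t * x) (hy : y ∈ U) (hyt : y * t = t * y) : x * y = y * x := by
  have hq := S.q_ge
  have : Fact p.Prime := ⟨S.hp⟩
  set Q := (U ⊓ Subgroup.centralizer {t} : Subgroup G) with hQ
  have hQp : IsPGroup p Q := by
    apply IsPGroup.of_card (n := n)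
    rw [S.card_Q, S.hq]
  have hnt : Nontrivial Q := by
    rw [← Finite.one_lt_card_iff_nontrivial, S.card_Q]
    omega
  have h1 := hQp.center_nontrivial
  obtain ⟨z, hz⟩ := exists_ne (1 : Subgroup.center Q)
  have hzt := Subgroup.mem_centralizer_singleton_iff.mp z.1.2.2
  by_cases hx1 : x = 1
  · rw [hx1, one_mul, mul_one]
  obtain ⟨h, hh, rfl⟩ := S.H_trans (x := ((z : Q) : G)) z.1.2.1 hzt
    (fun h => hz (Subtype.ext (Subtype.ext h))) hx hxt hx1
  obtain ⟨h3, h4⟩ := S.norm_Q (H.inv_mem hh) hy hyt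
  rw [inv_inv] at h3 h4
  have h5 := Subgroup.mem_center_iff.mp z.2 ⟨h⁻¹ * y * h, h3,
    Subgroup.mem_centralizer_singleton_iff.mpr h4⟩
  have h6 : (h⁻¹ * y * h) * ((z : Q) : G) = ((z : Q) : G) * (h⁻¹ * y * h) :=
    congrArg Subtype.val h5
  calc h * ((z : Q) : G) * h⁻¹ * y = h * (((z : Q) : G) * (h⁻¹ * y * h)) * h⁻¹ := by group
    _ = h * ((h⁻¹ * y * h) * ((z : Q) : G)) * h⁻¹ := by rw [h6]
    _ = y * (h * ((z : Q) : G) * h⁻¹) := by group

/-- `Z(U)` meets `C_U(t)`. -/
theorem exists_center_Q [IsSimpleGroup G] (S : Glob p n q d inf zero U H t w) :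
    ∃ z ∈ ZU U, z ≠ 1 ∧ z * t = t * z := by
  by_contra hno
  push Not at hno
  have hq := S.q_ge
  have hp3 := S.hp3
  -- `H` acts freely on `Z(U)#`
  have hfree : ∀ z ∈ ZU U, z ≠ 1 → ∀ x ∈ H, x * z = z * x → x = 1 := by
    intro z hz hz1 x hx hxz
    by_contra hx1
    have hox : orderOf x ≠ 1 := fun h => hx1 (orderOf_eq_one_iff.mp h)
    set r := (orderOf x).minFac with hr
    have hrp : r.Prime := Nat.minFac_prime hox
    obtain ⟨m, hm⟩ := Nat.minFac_dvd (orderOf x)
    rw [← hr] at hm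
    have hm0 : m ≠ 0 := by
      rintro rfl
      rw [mul_zero] at hm
      exact (orderOf_pos x).ne' hm
    have ho : orderOf (x ^ m) = r := by
      rw [orderOf_pow_of_dvd hm0 ⟨r, by rw [hm, mul_comm]⟩, hm, Nat.mul_div_cancel _ (by omega)]
    have hxm : x ^ m ∈ H := H.pow_mem hx m
    have hxmz : z * x ^ m = x ^ m * z := ((show Commute x z from hxz).pow_left m).eq.symm
    have hxm1 : x ^ m ≠ 1 := by
      intro h
      rw [h, orderOf_one] at ho
      exact hrp.one_lt.ne ho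
    obtain ⟨-, h1, h2, h3⟩ := exists_third S.R hxm hz.1 hz1 hxmz
    by_cases hr2 : r = 2
    · have h4 : x ^ m = t := by
        apply S.t_unique hxm _ hxm1
        rw [← pow_two, ← hr2, ← ho, pow_orderOf_eq_one]
      rw [h4] at hxmz
      exact hno z hz hz1 hxmz
    · have hrH : r ∣ Nat.card H := by
        rw [← ho, ← Subgroup.orderOf_mk _ hxm]
        exact orderOf_dvd_natCard _
      rw [S.card_H_eq] at hrH
      by_cases hrq : r ∣ q - 1
      · exact S.no_third hrp hr2 hrq hxm ho h1 h2 h3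
      · have h5 : r ∣ Nat.card (KK Ω t H) := ((Nat.Prime.dvd_mul hrp).mp hrH).resolve_right hrq
        have h6 : x ^ m ∈ KK Ω t H := by
          rw [mem_iff_pow_card S.cyc ker_le hxm]
          rw [← ho] at h5
          exact orderOf_dvd_iff_pow_eq_one.mp h5
        exact hno z hz hz1 (S.cent_of_mem_K h6 hxm1 hz.1 hxmz)
  -- counting
  have hZp : ∃ e, 1 ≤ e ∧ Nat.card (ZU U) = p ^ e := by
    have h1 : Nat.card (ZU U) ∣ q ^ 3 := by
      rw [← S.hU]
      exact Subgroup.card_dvd_of_le (fun z hz => hz.1)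
    rw [S.hq, ← pow_mul] at h1
    obtain ⟨e, -, he⟩ := (Nat.dvd_prime_pow S.hp).mp h1
    refine ⟨e, ?_, he⟩
    rcases Nat.eq_zero_or_pos e with h0 | h0
    · exfalso
      rw [h0, pow_zero, Subgroup.card_eq_one] at he
      obtain ⟨z, hz, hz1⟩ := S.exists_center
      rw [he, Subgroup.mem_bot] at hz
      exact hz1 hz
    · exact h0
  obtain ⟨e, he1, he⟩ := hZp
  have hdvd : Nat.card H ∣ p ^ e - 1 := by
    set Y : Set G := {z | z ∈ ZU U ∧ z ≠ 1} with hY
    have hYc : Nat.card Y = p ^ e - 1 := by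
      classical
      have e1 : Nat.card (ZU U) = Nat.card Y + 1 := by
        rw [← Finite.card_option]
        refine (Nat.card_congr ((Equiv.optionSubtypeNe (1 : ZU U)).symm.trans
          (Equiv.optionCongr ?_)))
        exact ⟨fun z => ⟨z.1.1, z.1.2, fun h => z.2 (Subtype.ext h)⟩,
          fun z => ⟨⟨z.1, z.2.1⟩, fun h => z.2.2 (congrArg Subtype.val h)⟩, fun z => rfl, fun z => rfl⟩
      omega
    rw [← hYc]
    -- conjugation action
    have hfin : Finite (ConjAct G) := inferInstanceAs (Finite G)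
    let φ : G →* ConjAct G := ConjAct.toConjAct.toMonoidHom
    have hcard : Nat.card (H.map φ) = Nat.card H :=
      Nat.card_congr (H.equivMapOfInjective φ ConjAct.toConjAct.injective).toEquiv.symm
    rw [← hcard]
    apply card_dvd_set (H.map φ) Y
    · rintro _ ⟨h, hh, rfl⟩ z ⟨hz, hz1⟩
      have e2 : (φ h) • z = h * z * h⁻¹ := ConjAct.toConjAct_smul h z
      rw [e2]
      refine ⟨S.ZU_norm hh hz, fun h1 => hz1 ?_⟩
      have : z = h⁻¹ * (h * z * h⁻¹) * h := by group
      rw [this, h1]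
      group
    · rintro z ⟨hz, hz1⟩ _ ⟨h, hh, rfl⟩ h1
      have e2 : (φ h) • z = h * z * h⁻¹ := ConjAct.toConjAct_smul h z
      rw [e2, mul_inv_eq_iff_eq_mul] at h1
      rw [hfree z hz hz1 h hh h1, map_one]
  -- `|Z(U)| ≤ q ^ 2`
  have hprod : Nat.card (ZU U) * q ≤ q ^ 3 ∧ (Nat.card (ZU U) * q = q ^ 3 → ∀ u ∈ U,
      ∃ z ∈ ZU U, ∃ v ∈ (U ⊓ Subgroup.centralizer {t} : Subgroup G), u = z * v) := by
    let f : ZU U × (U ⊓ Subgroup.centralizer {t} : Subgroup G) → U :=
      fun x => ⟨x.1 * x.2, U.mul_mem x.1.2.1 x.2.2.1⟩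
    have hf : Function.Injective f := by
      rintro ⟨z, v⟩ ⟨z', v'⟩ h
      have h1 : (z : G) * v = z' * v' := congrArg Subtype.val h
      have h2 : (z' : G)⁻¹ * z = v' * (v : G)⁻¹ := by
        calc (z' : G)⁻¹ * z = (z' : G)⁻¹ * ((z : G) * v) * (v : G)⁻¹ := by group
          _ = (z' : G)⁻¹ * ((z' : G) * v') * (v : G)⁻¹ := by rw [h1]
          _ = _ := by group
      have h3 : (z' : G)⁻¹ * z ∈ ZU U := (ZU U).mul_mem ((ZU U).inv_mem z'.2) z.2
      have h4 : (z' : G)⁻¹ * z = 1 := by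
        by_contra hne
        apply hno _ h3 hne
        rw [h2]
        exact Subgroup.mem_centralizer_singleton_iff.mp
          (Subgroup.mul_mem _ v'.2 (Subgroup.inv_mem _ v.2)).2
      have h5 : z = z' := (Subtype.ext (inv_mul_eq_one.mp h4)).symm
      subst h5
      have h6 : v = v' := Subtype.ext (mul_left_cancel h1)
      rw [h6]
    have h1 := Nat.card_le_card_of_injective f hf
    rw [Nat.card_prod, S.card_Q, S.hU] at h1
    refine ⟨h1, fun heq u hu => ?_⟩
    have hbij : Function.Bijective f := by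
      rw [Nat.bijective_iff_injective_and_card]
      refine ⟨hf, ?_⟩
      rw [Nat.card_prod, S.card_Q, S.hU, heq]
    obtain ⟨x, hx⟩ := hbij.2 ⟨u, hu⟩
    exact ⟨x.1, x.1.2, x.2, x.2.2, (congrArg Subtype.val hx).symm⟩
  obtain ⟨hle, hgen⟩ := hprod
  have hq3 : q ^ 3 = q ^ 2 * q := by ring
  have hle2 : p ^ e ≤ q ^ 2 := by
    rw [he, hq3] at hle
    exact Nat.le_of_mul_le_mul_right hle (by omega)
  have hpe : 3 ≤ p ^ e := hp3.trans (Nat.le_self_pow (by omega) p)
  -- `p ^ e = q ^ 2`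
  have heq2 : p ^ e = q ^ 2 := by
    by_contra hne
    have hlt : p ^ e < q ^ 2 := lt_of_le_of_ne hle2 hne
    obtain ⟨k, hk⟩ := hdvd
    have hH := S.hH
    have hk0 : k ≠ 0 := by
      rintro rfl
      omega
    have hpq : p ∣ q ^ 2 := by
      rw [S.hq]
      exact Dvd.dvd.pow (dvd_pow_self p (by have := S.hn; omega)) (by norm_num)
    have hppe : p ∣ p ^ e := dvd_pow_self p (by omega)
    rcases (Nat.dvd_prime Nat.prime_three).mp S.d_dvd_three with h5 | h5
    · rw [h5, one_mul] at hH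
      rw [hH] at hk
      have : q ^ 2 - 1 ≤ (q ^ 2 - 1) * k := Nat.le_mul_of_pos_right _ (Nat.pos_of_ne_zero hk0)
      omega
    · rw [h5] at hH
      have h6 : 3 * (p ^ e - 1) = (q ^ 2 - 1) * k := by rw [hk, ← hH]; ring
      have hk3 : k < 3 := by
        by_contra hcon
        have : (q ^ 2 - 1) * 3 ≤ (q ^ 2 - 1) * k := Nat.mul_le_mul_left _ (by omega)
        omega
      interval_cases k
      · exact hk0 rfl
      · -- `3 p ^ e = q ^ 2 + 2`
        have h7 : 3 * p ^ e = q ^ 2 + 2 := by omega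
        have h8 : p ∣ q ^ 2 + 2 := by rw [← h7]; exact Dvd.dvd.mul_left hppe _
        have h9 : p ∣ 2 := (Nat.dvd_add_right hpq).mp h8
        exact S.hp2 ((Nat.prime_dvd_prime_iff_eq S.hp Nat.prime_two).mp h9)
      · have h7 : 3 * p ^ e = 2 * q ^ 2 + 1 := by omega
        have h8 : p ∣ 2 * q ^ 2 + 1 := by rw [← h7]; exact Dvd.dvd.mul_left hppe _
        have h9 : p ∣ 1 := (Nat.dvd_add_right (Dvd.dvd.mul_left hpq 2)).mp h8
        exact S.hp.one_lt.ne' (Nat.dvd_one.mp h9)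
  -- then `U` is abelian
  have hUab : ∀ u ∈ U, ∀ v ∈ U, u * v = v * u := by
    have h1 := hgen (by rw [he, heq2, hq3])
    intro u hu v hv
    obtain ⟨z, hz, x, hx, rfl⟩ := h1 u hu
    obtain ⟨z', hz', x', hx', rfl⟩ := h1 v hv
    have h2 := S.Q_comm hx.1 (Subgroup.mem_centralizer_singleton_iff.mp hx.2) hx'.1
      (Subgroup.mem_centralizer_singleton_iff.mp hx'.2)
    have h3 := hz'.2 x hx.1
    have h4 := hz.2 z' hz'.1
    have h5 := hz.2 x' hx'.1
    calc z * x * (z' * x') = z * (x * z') * x' := by group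
      _ = z * (z' * x) * x' := by rw [h3]
      _ = (z * z') * (x * x') := by group
      _ = (z' * z) * (x' * x) := by rw [h4, h2]
      _ = z' * (z * x') * x := by group
      _ = z' * (x' * z) * x := by rw [h5]
      _ = z' * x' * (z * x) := by group
  have h2 : ZU U = U := by
    apply le_antisymm (fun z hz => hz.1)
    intro u hu
    exact ⟨hu, fun v hv => hUab u hu v hv⟩
  rw [h2, S.hU] at he
  have h3 : q ^ 2 < q ^ 3 := Nat.pow_lt_pow_right (by omega) (by norm_num)
  omega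

/-- `C_U(t)` is central in `U`. -/
theorem T_comm [IsSimpleGroup G] (S : Glob p n q d inf zero U H t w) {u : G} (hu : u ∈ U)
    (hut : u * t = t * u) {v : G} (hv : v ∈ U) : u * v = v * u := by
  by_cases hu1 : u = 1
  · rw [hu1, one_mul, mul_one]
  obtain ⟨z, hz, hz1, hzt⟩ := S.exists_center_Q
  obtain ⟨h, hh, rfl⟩ := S.H_trans hz.1 hzt hz1 hu hut hu1
  exact (S.ZU_norm hh hz).2 v hv

/-- The result of the local analysis. -/
theorem stageData [IsSimpleGroup G] (S : Glob p n q d inf zero U H t w) :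
    Cfsg.Agent.ONan.Stage.StageData p n q d inf zero U H t w where
  hp := S.hp
  hp2 := S.hp2
  hn := S.hn
  hq := S.hq
  hd := S.hd
  ne := S.R.ne
  U_inf := S.R.Q_fix
  U_norm := fun g hg => S.R.norm g (Subgroup.mem_top g) hg
  U_trans := fun P Q hP hQ => S.R.trans' (Set.mem_univ P) hP (Set.mem_univ Q) hQ
  U_free := fun P hP u hu h => S.R.free' hu (Set.mem_univ P) hP h
  U_card := S.hU
  mem_H := fun g => ⟨fun hg => ⟨S.R.D_a g hg, S.R.D_b g hg⟩,
    fun h => S.R.mem_D g (Subgroup.mem_top g) h.1 h.2⟩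
  H_cyc := S.cyc
  H_card := S.hH
  t_mem := S.t_mem
  t_ne := S.t_ne
  t_sq := S.t_sq
  t_unique := fun x hx hx2 => by
    by_cases h : x = 1
    · exact Or.inl h
    · exact Or.inr (S.t_unique hx hx2 h)
  w_inf := S.w_inf
  w_zero := S.w_zero
  w_sq := S.w_sq
  w_conj := S.w_conj
  w_class := fun g hg hgi => S.w_class hg hgi
  w_pow := fun h hh => S.w_pow hh
  no_common := fun P h1 h2 => S.no_common_tw h1 h2
  Q_card := S.card_Q
  T_comm := fun u hu hut v hv => S.T_comm hu hut hv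
  H_trans := fun x hx hxt hx1 y hy hyt hy1 => S.H_trans hx hxt hx1 hy hyt hy1
  K_of := fun h hh x hx hxt hx1 hhx => S.K_of hh hx hxt hx1 hhx
  K_cent := fun h hh h1 g hg => S.K_cent hh h1 hg

end Glob

end Cfsg.Agent.ONan.Global
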