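import Mathlib
import Cfsg.Prelude.Def_LieExceptional
import Cfsg.Agent.ONan.Global

/-!
# From a rank one BN-pair to `Glob`
-/

set_option autoImplicit false

namespace Cfsg.Agent.ONan.FromBN

open Cfsg.Agent.ONan.RankOne Cfsg.Agent.ONan.MainCount Cfsg.Agent.ONan.Global

universe u

variable {G : Type u} [Group G]

/-- facts on a rank one BN-pair -/
theorem exists_s (P : Cfsg.BNPair G) (h1 : P.rank = 1) :
    ∃ s ∈ P.N, s * s ∈ P.B ∧ s ∉ P.B ∧
      (∀ g : G, g ∈ P.B ∨ ∃ b ∈ P.B, ∃ b' ∈ P.B, g = b * s * b') ∧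
      (∀ x ∈ P.B ⊓ P.N, s * x * s⁻¹ ∈ P.B ⊓ P.N) := by
  obtain ⟨⟨s, hsS⟩, hs⟩ := Nat.card_eq_one_iff_unique.mp h1 |> fun h => (⟨h.2.some, fun y => h.1.elim _ _⟩ :
    ∃ x : P.S, ∀ y : P.S, x = y)
  have hS : P.S = {s} := by
    ext y
    constructor
    · intro hy
      exact (congrArg Subtype.val (hs ⟨y, hy⟩)).symm
    · rintro rfl
      exact hsS
  have hsN := P.subset hsS
  have hs2 := P.sq_mem s hsS
  have hsB : s ∉ P.B := by
    intro hsB
    apply P.conj_ne s hsS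
    ext g
    constructor
    · rintro ⟨b, hb, rfl⟩
      exact P.B.mul_mem (P.B.mul_mem hsB hb) hsB
    · intro hg
      refine ⟨s⁻¹ * g * s⁻¹, P.B.mul_mem (P.B.mul_mem (P.B.inv_mem hsB) hg) (P.B.inv_mem hsB), ?_⟩
      show s * (s⁻¹ * g * s⁻¹) * s = g
      group
  -- `s B s ⊆ B ∪ B s B`
  have hsi : s⁻¹ = (s * s)⁻¹ * s := by group
  have hBN : ∀ b ∈ P.B, s * b * s ∈ P.B ∨ ∃ b₁ ∈ P.B, ∃ b₂ ∈ P.B, s * b * s = b₁ * s * b₂ := by
    intro b hb
    rcases P.mul_mem_union s hsS s hsN b hb with h | h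
    · left
      rw [DoubleCoset.mem_doubleCoset] at h
      obtain ⟨x, hx, y, hy, h⟩ := h
      rw [h]
      exact P.B.mul_mem (P.B.mul_mem hx hs2) hy
    · right
      rw [DoubleCoset.mem_doubleCoset] at h
      obtain ⟨x, hx, y, hy, h⟩ := h
      exact ⟨x, hx, y, hy, h⟩
  refine ⟨s, hsN, hs2, hsB, ?_, ?_⟩
  · -- the union is a subgroup containing `B` and `N`
    let K : Subgroup G :=
      { carrier := {g | g ∈ P.B ∨ ∃ b ∈ P.B, ∃ b' ∈ P.B, g = b * s * b'}
        mul_mem' := by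
          rintro x y (hx | ⟨b, hb, b', hb', rfl⟩) (hy | ⟨c, hc, c', hc', rfl⟩)
          · exact Or.inl (P.B.mul_mem hx hy)
          · exact Or.inr ⟨x * c, P.B.mul_mem hx hc, c', hc', by group⟩
          · exact Or.inr ⟨b, hb, b' * y, P.B.mul_mem hb' hy, by group⟩
          · have e : b * s * b' * (c * s * c') = b * (s * (b' * c) * s) * c' := by group
            rw [e]
            rcases hBN (b' * c) (P.B.mul_mem hb' hc) with h | ⟨b₁, h1, b₂, h2, h⟩
            · exact Or.inl (P.B.mul_mem (P.B.mul_mem hb h) hc')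
            · rw [h]
              exact Or.inr ⟨b * b₁, P.B.mul_mem hb h1, b₂ * c', P.B.mul_mem h2 hc', by group⟩
        one_mem' := Or.inl P.B.one_mem
        inv_mem' := by
          rintro x (hx | ⟨b, hb, b', hb', rfl⟩)
          · exact Or.inl (P.B.inv_mem hx)
          · refine Or.inr ⟨b'⁻¹ * (s * s)⁻¹, P.B.mul_mem (P.B.inv_mem hb') (P.B.inv_mem hs2), b⁻¹,
              P.B.inv_mem hb, by group⟩ }
    have hBK : P.B ≤ K := fun g hg => Or.inl hg
    have hsK : s ∈ K := Or.inr ⟨1, P.B.one_mem, 1, P.B.one_mem, by group⟩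
    have hNK : P.N ≤ K := by
      rw [← P.closure_sup, hS]
      apply sup_le
      · rw [Subgroup.closure_le]
        rintro y hy
        rw [Set.mem_singleton_iff.mp hy]
        exact hsK
      · exact fun g hg => hBK hg.1
    have hK : K = ⊤ := by
      rw [eq_top_iff, ← P.sup_eq_top]
      exact sup_le hBK hNK
    intro g
    have : g ∈ K := by rw [hK]; exact Subgroup.mem_top g
    exact this
  · intro x hx
    exact ⟨P.conj_mem s hsN x hx, P.N.mul_mem (P.N.mul_mem hsN hx.2) (P.N.inv_mem hsN)⟩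

open Pointwise in
/-- The rank one data on the cosets of `B`. -/
theorem exists_R1 [Finite G] (P : Cfsg.BNPair G) (h1 : P.rank = 1) (U : Subgroup G) (hUB : U ≤ P.B)
    (hUn : ∀ b ∈ P.B, ∀ u ∈ U, b * u * b⁻¹ ∈ U) (hsplit : U ⊔ (P.B ⊓ P.N) = P.B)
    (hdisj : U ⊓ (P.B ⊓ P.N) = ⊥) (hind : P.B.index = Nat.card U + 1)
    (hHc : IsCyclic ↥(P.B ⊓ P.N)) :
    ∃ s : G, R1 (⊤ : Subgroup G) (Set.univ : Set (G ⧸ P.B)) (QuotientGroup.mk 1)
      (QuotientGroup.mk s) U (P.B ⊓ P.N) := by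
  obtain ⟨s, hsN, hs2, hsB, hbru, hsH⟩ := exists_s P h1
  set H := P.B ⊓ P.N with hH
  have hmk : ∀ g g' : G, g • (QuotientGroup.mk g' : G ⧸ P.B) = QuotientGroup.mk (g * g') :=
    fun g g' => rfl
  have hHs : ∀ x ∈ H, s⁻¹ * x * s ∈ H := by
    -- `x ↦ s x s⁻¹` is injective on the finite group `H`
    intro x hx
    have hmap : H.map (MulAut.conj s).toMonoidHom = H := by
      apply Subgroup.eq_of_le_of_card_ge
      · rintro _ ⟨y, hy, rfl⟩
        exact hsH y hy
      · rw [Nat.card_congr (H.equivMapOfInjective _ (MulAut.conj s).injective).toEquiv.symm]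
    rw [← hmap] at hx
    obtain ⟨y, hy, rfl⟩ := hx
    have e : s⁻¹ * (MulAut.conj s).toMonoidHom y * s = y := by
      show s⁻¹ * (s * y * s⁻¹) * s = y
      group
    rw [e]
    exact hy
  -- `B = U H`
  have hB : ∀ b ∈ P.B, ∃ u ∈ U, ∃ x ∈ H, b = u * x := by
    let K : Subgroup G :=
      { carrier := {g | ∃ u ∈ U, ∃ x ∈ H, g = u * x}
        mul_mem' := by
          rintro _ _ ⟨u, hu, x, hx, rfl⟩ ⟨v, hv, y, hy, rfl⟩
          refine ⟨u * (x * v * x⁻¹), U.mul_mem hu (hUn x hx.1 v hv), x * y, H.mul_mem hx hy, by group⟩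
        one_mem' := ⟨1, U.one_mem, 1, H.one_mem, by rw [mul_one]⟩
        inv_mem' := by
          rintro _ ⟨u, hu, x, hx, rfl⟩
          refine ⟨x⁻¹ * u⁻¹ * x, ?_, x⁻¹, H.inv_mem hx, by group⟩
          have := hUn x⁻¹ (P.B.inv_mem hx.1) _ (U.inv_mem hu)
          rwa [inv_inv] at this }
    have hle : U ⊔ H ≤ K := sup_le (fun u hu => ⟨u, hu, 1, H.one_mem, by rw [mul_one]⟩)
      (fun x hx => ⟨1, U.one_mem, x, hx, by rw [one_mul]⟩)
    intro b hb
    rw [← hsplit] at hb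
    exact hle hb
  have hBcard : Nat.card P.B = Nat.card U * Nat.card H := by
    rw [← Nat.card_prod]
    symm
    apply Nat.card_eq_of_bijective (fun x : U × H => (⟨x.1 * x.2, P.B.mul_mem (hUB x.1.2) x.2.2.1⟩ : P.B))
    constructor
    · rintro ⟨u, x⟩ ⟨v, y⟩ h
      have h1 : (u : G) * x = v * y := congrArg Subtype.val h
      have h2 : (v : G)⁻¹ * u = y * (x : G)⁻¹ := by
        calc (v : G)⁻¹ * u = (v : G)⁻¹ * ((u : G) * x) * (x : G)⁻¹ := by group
          _ = (v : G)⁻¹ * ((v : G) * y) * (x : G)⁻¹ := by rw [h1]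
          _ = _ := by group
      have h3 : (v : G)⁻¹ * u ∈ U ⊓ H :=
        ⟨U.mul_mem (U.inv_mem v.2) u.2, by rw [h2]; exact H.mul_mem y.2 (H.inv_mem x.2)⟩
      rw [hdisj, Subgroup.mem_bot] at h3
      have h4 : v = u := Subtype.ext (inv_mul_eq_one.mp h3)
      subst h4
      have h5 : x = y := Subtype.ext (mul_left_cancel h1)
      rw [h5]
    · rintro ⟨b, hb⟩
      obtain ⟨u, hu, x, hx, rfl⟩ := hB b hb
      exact ⟨⟨⟨u, hu⟩, ⟨x, hx⟩⟩, rfl⟩
  have hinf : ∀ g : G, g • (QuotientGroup.mk 1 : G ⧸ P.B) = QuotientGroup.mk 1 ↔ g ∈ P.B := by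
    intro g
    rw [hmk, mul_one, QuotientGroup.eq, mul_one]
    exact P.B.inv_mem_iff
  have hne : (QuotientGroup.mk 1 : G ⧸ P.B) ≠ QuotientGroup.mk s := by
    intro h
    rw [QuotientGroup.eq] at h
    apply hsB
    simpa using h
  -- the points different from `inf`
  set Y : Set (G ⧸ P.B) := {c | c ≠ QuotientGroup.mk 1} with hY
  have hYc : Nat.card Y = Nat.card U := by
    classical
    have e1 : Nat.card (G ⧸ P.B) = Nat.card Y + 1 := by
      rw [← Finite.card_option]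
      exact (Nat.card_congr (Equiv.optionSubtypeNe (QuotientGroup.mk 1 : G ⧸ P.B))).symm
    have e2 : Nat.card (G ⧸ P.B) = Nat.card U + 1 := hind
    omega
  have horb : ∀ c ∈ Y, ∃ b ∈ P.B, b • (QuotientGroup.mk s : G ⧸ P.B) = c := by
    intro c hc
    induction c using QuotientGroup.induction_on with
    | H g =>
      rcases hbru g with hg | ⟨b, hb, b', hb', rfl⟩
      · exfalso
        apply hc
        rw [QuotientGroup.eq, mul_one]
        exact P.B.inv_mem hg
      · refine ⟨b, hb, ?_⟩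
        rw [hmk, QuotientGroup.eq]
        have : (b * s)⁻¹ * (b * s * b') = b' := by group
        rw [this]
        exact hb'
  have hzero : ∀ x ∈ H, x • (QuotientGroup.mk s : G ⧸ P.B) = QuotientGroup.mk s := by
    intro x hx
    rw [hmk, QuotientGroup.eq]
    have : (x * s)⁻¹ * s = s⁻¹ * x⁻¹ * s := by group
    rw [this]
    exact (hHs _ (H.inv_mem hx)).1
  -- the two point stabiliser
  have hBinv : ∀ b ∈ P.B, ∀ c ∈ Y, b • c ∈ Y := by
    intro b hb c hc h
    apply hc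
    have h2 := (hinf b⁻¹).mpr (P.B.inv_mem hb)
    rw [← h2, ← h, inv_smul_smul]
  let _ : MulAction P.B Y :=
    { smul := fun b y => ⟨(b : G) • (y : G ⧸ P.B), hBinv b b.2 y y.2⟩
      one_smul := fun y => Subtype.ext (one_smul G (y : G ⧸ P.B))
      mul_smul := fun b c y => Subtype.ext (mul_smul (b : G) (c : G) (y : G ⧸ P.B)) }
  let c₀ : Y := ⟨QuotientGroup.mk s, hne.symm⟩
  have hstab : Nat.card (MulAction.stabilizer P.B c₀) = Nat.card H := by
    have h2 := (MulAction.stabilizer P.B c₀).card_mul_index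
    have h3 : MulAction.orbit P.B c₀ = Set.univ := by
      rw [Set.eq_univ_iff_forall]
      intro c
      obtain ⟨b, hb, h⟩ := horb c.1 c.2
      exact ⟨⟨b, hb⟩, Subtype.ext h⟩
    rw [MulAction.index_stabilizer, h3, Set.ncard_univ, hYc, hBcard, mul_comm (Nat.card U)] at h2
    exact Nat.eq_of_mul_eq_mul_right Nat.card_pos h2
  have hD : ∀ g ∈ P.B, g • (QuotientGroup.mk s : G ⧸ P.B) = QuotientGroup.mk s → g ∈ H := by
    have h2 : ∀ x ∈ H, x ∈ (MulAction.stabilizer P.B c₀).map P.B.subtype := by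
      intro x hx
      exact ⟨⟨x, hx.1⟩, Subtype.ext (hzero x hx), rfl⟩
    have h3 : H = (MulAction.stabilizer P.B c₀).map P.B.subtype := by
      apply Subgroup.eq_of_le_of_card_ge h2
      rw [Nat.card_congr ((MulAction.stabilizer P.B c₀).equivMapOfInjective _
        P.B.subtype_injective).toEquiv.symm, hstab]
    intro g hg h
    rw [h3]
    exact ⟨⟨g, hg⟩, Subtype.ext h, rfl⟩
  have hfree : ∀ u ∈ U, u • (QuotientGroup.mk s : G ⧸ P.B) = QuotientGroup.mk s → u = 1 := by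
    intro u hu h
    have : u ∈ U ⊓ H := ⟨hu, hD u (hUB hu) h⟩
    rw [hdisj] at this
    exact this
  refine ⟨s, ⟨hne, Set.mem_univ _, Set.mem_univ _, fun _ _ _ _ => Set.mem_univ _, le_top, le_top,
    fun u hu => (hinf u).mpr (hUB hu), fun g _ hg u hu => hUn g ((hinf g).mp hg) u hu, ?_, hfree,
    fun x hx => (hinf x).mpr hx.1, hzero, fun g _ hg h => hD g ((hinf g).mp hg) h, ?_, ?_⟩⟩
  · -- transitivity
    let f : U → Y := fun u => ⟨(u : G) • QuotientGroup.mk s, hBinv u (hUB u.2) _ hne.symm⟩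
    have hf : Function.Injective f := by
      intro u v h
      have h2 : (u : G) • (QuotientGroup.mk s : G ⧸ P.B) = (v : G) • QuotientGroup.mk s :=
        congrArg Subtype.val h
      have h3 := hfree ((v : G)⁻¹ * u) (U.mul_mem (U.inv_mem v.2) u.2) (by
        rw [mul_smul, h2, inv_smul_smul])
      exact (Subtype.ext (inv_mul_eq_one.mp h3)).symm
    have hbij : Function.Bijective f := by
      rw [Nat.bijective_iff_injective_and_card]
      exact ⟨hf, hYc.symm⟩
    intro c _ hc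
    obtain ⟨u, hu⟩ := hbij.2 ⟨c, hc⟩
    exact ⟨u, u.2, congrArg Subtype.val hu⟩
  · intro x hx y hy
    obtain ⟨g, hg⟩ := hHc.exists_generator
    obtain ⟨i, hi⟩ := Subgroup.mem_zpowers_iff.mp (hg ⟨x, hx⟩)
    obtain ⟨j, hj⟩ := Subgroup.mem_zpowers_iff.mp (hg ⟨y, hy⟩)
    have ei : (g : G) ^ i = x := congrArg Subtype.val hi
    have ej : (g : G) ^ j = y := congrArg Subtype.val hj
    rw [← ei, ← ej, ← zpow_add, ← zpow_add, add_comm]
  · refine ⟨s, Subgroup.mem_top s, ?_⟩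
    rw [hmk, mul_one]
    exact hne.symm

/-- existence of `t` and `w` -/
theorem exists_glob [Finite G] {Ω : Type*} [MulAction G Ω] [FaithfulSMul G Ω] {p n q d : ℕ}
    (hp : p.Prime) (hp2 : p ≠ 2) (hn : 1 ≤ n) (hq : q = p ^ n) (hd : d = Nat.gcd 3 (q + 1))
    {inf zero : Ω} {U H : Subgroup G} (R : R1 ⊤ Set.univ inf zero U H) (hc : IsCyclic H)
    (hU : Nat.card U = q ^ 3) (hH : d * Nat.card H = q ^ 2 - 1) :
    ∃ t w : G, Glob p n q d inf zero U H t w := by
  have : Fact (Nat.Prime 2) := ⟨Nat.prime_two⟩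
  have hp3 : 3 ≤ p := by
    have := hp.two_le
    omega
  have hq3 : 3 ≤ q := by
    rw [hq]
    exact hp3.trans (Nat.le_self_pow (by omega) p)
  have hqo : Odd q := by
    rw [hq]
    exact (hp.odd_of_ne_two hp2).pow
  have hdo : Odd d := Odd.of_dvd_nat (by decide : Odd 3) (hd ▸ Nat.gcd_dvd_left _ _)
  have h2 : 2 ∣ Nat.card H := by
    have h3 : 2 ∣ d * Nat.card H := by
      rw [hH]
      obtain ⟨m, hm⟩ := hqo
      refine ⟨2 * m ^ 2 + 2 * m, ?_⟩
      rw [hm]
      have : (2 * m + 1) ^ 2 = 2 * (2 * m ^ 2 + 2 * m) + 1 := by ring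
      omega
    exact (Nat.Coprime.dvd_mul_left (Nat.coprime_two_left.mpr hdo)).mp h3
  obtain ⟨t, ht⟩ := exists_prime_orderOf_dvd_card' 2 h2
  have ht1 : (t : G) ≠ 1 := by
    intro h
    have : t = 1 := Subtype.ext h
    rw [this, orderOf_one] at ht
    omega
  have ht2 : (t : G) * t = 1 := by
    have := pow_orderOf_eq_one t
    rw [ht, pow_two] at this
    exact congrArg Subtype.val this
  -- a point moved by `t`
  obtain ⟨P, hP⟩ : ∃ P : Ω, (t : G) • P ≠ P := by
    by_contra h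
    push Not at h
    apply ht1
    apply FaithfulSMul.eq_of_smul_eq_smul (α := Ω)
    intro c
    rw [h, one_smul]
  obtain ⟨g, -, hg1, hg2⟩ := R.two_trans (Set.mem_univ P) (Set.mem_univ ((t : G) • P)) hP.symm
  refine ⟨t, g⁻¹ * t * g, hp, hp2, hn, hq, hd, R, hc, hU, hH, t.2, ht1, ht2, ?_, ?_, ?_, ?_⟩
  · rw [mul_smul, mul_smul, hg1, ← hg2, inv_smul_smul]
  · rw [mul_smul, mul_smul, hg2, ← mul_smul (t : G), ht2, one_smul, ← hg1, inv_smul_smul]
  · calc g⁻¹ * t * g * (g⁻¹ * t * g) = g⁻¹ * ((t : G) * t) * g := by group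
      _ = 1 := by rw [ht2]; group
  · rw [isConj_iff]
    exact ⟨g⁻¹, by group⟩

/-- a simple group acts faithfully on the cosets of a proper subgroup -/
theorem faithful_of_simple [IsSimpleGroup G] {B : Subgroup G} (hB : B ≠ ⊤) :
    FaithfulSMul G (G ⧸ B) := by
  have h1 : B.normalCore = ⊥ := by
    rcases IsSimpleGroup.eq_bot_or_eq_top_of_normal B.normalCore inferInstance with h | h
    · exact h
    · exfalso
      apply hB
      rw [eq_top_iff, ← h]
      exact Subgroup.normalCore_le B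
  refine ⟨fun {g g'} h => ?_⟩
  have h2 : g⁻¹ * g' ∈ B.normalCore := by
    intro k
    have h3 := h (QuotientGroup.mk k⁻¹)
    have h4 : (QuotientGroup.mk (g * k⁻¹) : G ⧸ B) = QuotientGroup.mk (g' * k⁻¹) := h3
    rw [QuotientGroup.eq] at h4
    have e : (g * k⁻¹)⁻¹ * (g' * k⁻¹) = k * (g⁻¹ * g') * k⁻¹ := by group
    rwa [e] at h4
  rw [h1, Subgroup.mem_bot] at h2
  exact inv_mul_eq_one.mp h2

end Cfsg.Agent.ONan.FromBN
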