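import Mathlib
import Cfsg.Agent.LieRecognition.HigmanSinger

/-!
# Coordinates on an abelian group on which an abelian group acts regularly by conjugation
-/

set_option autoImplicit false
set_option linter.style.haveILetI false

namespace Cfsg.Agent.ONan.FieldOfTorus

open Cfsg.Agent.LieRecognition.HigmanSinger

/-- `H` acts by conjugation on the abelian group `Q`, regularly modulo the kernel on the non-identity
elements: `Q` is the additive group of a field on which `H` acts by multiplications. -/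
theorem exists_coord {G : Type*} [Group G] (Q H : Subgroup G) [Finite Q]
    (hQ : ∀ x ∈ Q, ∀ y ∈ Q, x * y = y * x) (hH : ∀ x ∈ H, ∀ y ∈ H, x * y = y * x)
    (hHQ : ∀ h ∈ H, ∀ x ∈ Q, h * x * h⁻¹ ∈ Q)
    (s : G) (hs : s ∈ Q) (hs1 : s ≠ 1)
    (htr : ∀ x ∈ Q, x ≠ 1 → ∃ h ∈ H, h * s * h⁻¹ = x)
    (hfree : ∀ h ∈ H, h * s = s * h → ∀ x ∈ Q, h * x = x * h)
    (k : Type*) [Field k] [Fintype k] (hk : Fintype.card k = Nat.card Q) :
    ∃ (T : k → G) (χ : G → k), (∀ a b, T (a + b) = T a * T b) ∧ (∀ a b, T a = T b → a = b) ∧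
      (∀ a, T a ∈ Q) ∧ (∀ x ∈ Q, ∃ a, T a = x) ∧ (∀ h ∈ H, χ h ≠ 0) ∧
      (∀ h ∈ H, ∀ h' ∈ H, χ (h * h') = χ h * χ h') ∧ (∀ r, r ≠ 0 → ∃ h ∈ H, χ h = r) ∧
      (∀ h ∈ H, ∀ a, h * T a * h⁻¹ = T (χ h * a)) := by
  classical
  letI cg : CommGroup Q :=
    { (inferInstance : Group Q) with
      mul_comm := fun a b => Subtype.ext (hQ a.1 a.2 b.1 b.2) }
  let E := Additive Q
  letI acg : AddCommGroup E := @Additive.addCommGroup _ cg
  let val : E → G := fun x => Subtype.val (p := fun w => w ∈ Q) (Additive.toMul x)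
  have hvQ : ∀ x : E, val x ∈ Q := fun x =>
    Subtype.property (p := fun w => w ∈ Q) (Additive.toMul x)
  have hval : ∀ x y : E, val x = val y → x = y := by
    intro x y h
    apply Additive.toMul.injective
    exact Subtype.ext h
  have hadd : ∀ x y : E, val (x + y) = val x * val y := fun x y => rfl
  letI actE : DistribMulAction H E :=
    { smul := fun h x => Additive.ofMul ⟨(h : G) * val x * (h : G)⁻¹, hHQ h h.2 _ (hvQ x)⟩
      one_smul := fun x => by
        apply hval
        change ((1 : H) : G) * val x * ((1 : H) : G)⁻¹ = val x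
        simp
      mul_smul := fun a b x => by
        apply hval
        change ((a * b : H) : G) * val x * ((a * b : H) : G)⁻¹ =
          (a : G) * ((b : G) * val x * (b : G)⁻¹) * (a : G)⁻¹
        rw [Subgroup.coe_mul]
        group
      smul_zero := fun a => by
        apply hval
        change (a : G) * 1 * (a : G)⁻¹ = 1
        simp
      smul_add := fun a x y => by
        apply hval
        change (a : G) * (val x * val y) * (a : G)⁻¹ =
          ((a : G) * val x * (a : G)⁻¹) * ((a : G) * val y * (a : G)⁻¹)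
        group }
  have hact : ∀ (h : H) (x : E), val (h • x) = h * val x * (h : G)⁻¹ := fun h x => rfl
  let K : Subgroup (Equiv.Perm E) := (MulAction.toPermHom H E).range
  let κ : H → K := fun h => ⟨MulAction.toPermHom H E h, h, rfl⟩
  have hκs : ∀ a : K, ∃ h, κ h = a := by
    rintro ⟨_, h, rfl⟩
    exact ⟨h, rfl⟩
  letI actK : DistribMulAction K E :=
    { smul := fun a x => a.1 x
      one_smul := fun x => rfl
      mul_smul := fun a b x => rfl
      smul_zero := fun a => by
        obtain ⟨h, rfl⟩ := hκs a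
        exact smul_zero h
      smul_add := fun a x y => by
        obtain ⟨h, rfl⟩ := hκs a
        exact smul_add h x y }
  have hκ : ∀ (h : H) (x : E), κ h • x = h • x := fun h x => rfl
  have hcomm : ∀ a b : K, a * b = b * a := by
    intro a b
    obtain ⟨h, rfl⟩ := hκs a
    obtain ⟨h', rfl⟩ := hκs b
    apply Subtype.ext
    change MulAction.toPermHom H E h * MulAction.toPermHom H E h' =
      MulAction.toPermHom H E h' * MulAction.toPermHom H E h
    rw [← map_mul, ← map_mul]
    congr 1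
    exact Subtype.ext (hH h h.2 h' h'.2)
  let e0 : E := Additive.ofMul ⟨s, hs⟩
  have he0 : e0 ≠ 0 := by
    intro h
    exact hs1 (congrArg val h)
  have hne : ∀ x : E, x ≠ 0 → val x ≠ 1 := fun x hx h => hx (hval x 0 h)
  have hreg : ∀ x : E, x ≠ 0 → ∃ a : K, a • e0 = x := by
    intro x hx
    obtain ⟨h, hh, hhx⟩ := htr (val x) (hvQ x) (hne x hx)
    exact ⟨κ ⟨h, hh⟩, hval _ _ hhx⟩
  have hinj : ∀ a b : K, a • e0 = b • e0 → a = b := by
    intro a b hab
    obtain ⟨h, rfl⟩ := hκs a
    obtain ⟨h', rfl⟩ := hκs b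
    rw [hκ, hκ] at hab
    have h1 : (h : G) * s * (h : G)⁻¹ = h' * s * (h' : G)⁻¹ := congrArg val hab
    have h2 : ((h' : G)⁻¹ * h) * s = s * ((h' : G)⁻¹ * h) := by
      calc ((h' : G)⁻¹ * h) * s = (h' : G)⁻¹ * (h * s * (h : G)⁻¹) * h := by group
        _ = _ := by rw [h1]; group
    have h3 := hfree _ (H.mul_mem (H.inv_mem h'.2) h.2) h2
    have h4 : ∀ x : E, h • x = h' • x := by
      intro x
      apply hval
      rw [hact, hact]
      calc (h : G) * val x * (h : G)⁻¹ = h' * (((h' : G)⁻¹ * h) * val x) * (h : G)⁻¹ := by group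
        _ = _ := by rw [h3 _ (hvQ x)]; group
    apply Subtype.ext
    apply Equiv.ext
    exact h4
  letI fld : Field E := rfield e0 he0 hcomm hreg hinj
  have hmul : ∀ (a : K) (y : E), (a • e0) * y = a • y := fun a y => rmul_smul e0 he0 hreg hinj a y
  haveI hfinE : Finite E := inferInstanceAs (Finite Q)
  letI : Fintype E := Fintype.ofFinite E
  have hcard : Fintype.card k = Fintype.card E := by
    rw [hk, ← Nat.card_eq_fintype_card]
    rfl
  let eq : k ≃+* E := FiniteField.ringEquivOfCardEq hcard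
  let χ : G → k := fun g => if hg : g ∈ H then eq.symm ((⟨g, hg⟩ : H) • e0) else 0
  have hχ : ∀ (g : G) (hg : g ∈ H), eq (χ g) = (⟨g, hg⟩ : H) • e0 := by
    intro g hg
    have : χ g = eq.symm ((⟨g, hg⟩ : H) • e0) := dif_pos hg
    rw [this, RingEquiv.apply_symm_apply]
  have hχm : ∀ (g : G) (hg : g ∈ H) (a : k), eq (χ g * a) = (⟨g, hg⟩ : H) • eq a := by
    intro g hg a
    rw [map_mul, hχ g hg, ← hκ, hmul, hκ]
  refine ⟨fun a => val (eq a), χ, ?_, ?_, ?_, ?_, ?_, ?_, ?_, ?_⟩
  · intro a b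
    show val (eq (a + b)) = _
    rw [map_add, hadd]
  · intro a b hab
    exact eq.injective (hval _ _ hab)
  · intro a
    exact hvQ _
  · intro x hx
    refine ⟨eq.symm (Additive.ofMul ⟨x, hx⟩), ?_⟩
    show val (eq (eq.symm _)) = x
    rw [RingEquiv.apply_symm_apply]
    rfl
  · intro h hh h0
    have h1 := hχ h hh
    rw [h0, map_zero] at h1
    exact he0 ((smul_eq_zero_iff_eq _).mp h1.symm)
  · intro h hh h' hh'
    apply eq.injective
    rw [hχ _ (H.mul_mem hh hh'), hχm h hh, hχ h' hh', smul_smul]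
    rfl
  · intro r hr
    have hr' : eq r ≠ 0 := by
      intro h
      exact hr ((map_eq_zero_iff eq eq.injective).mp h)
    obtain ⟨a, ha⟩ := hreg _ hr'
    obtain ⟨h, rfl⟩ := hκs a
    refine ⟨h, h.2, eq.injective ?_⟩
    rw [hχ _ h.2, ← ha]
    rfl
  · intro h hh a
    show _ = val (eq (χ h * a))
    rw [hχm h hh]
    rfl

end Cfsg.Agent.ONan.FieldOfTorus
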