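import Mathlib
import Cfsg.Agent.ONan.Stage
import Cfsg.Agent.ONan.RankOne
import Cfsg.Agent.ONan.SL2Hom
import Cfsg.Agent.ONan.FieldOfTorus

/-!
# The centraliser of the involution `t` in a group of odd unitary type

From `StageData` we get a homomorphism from `SL₂(k)`, `|k| = q`, to the centraliser of `t`.
-/

set_option autoImplicit false
set_option linter.style.haveILetI false

namespace Cfsg.Agent.ONan.Frame

open Cfsg.Agent.ONan.Stage Cfsg.Agent.ONan.RankOne Cfsg.Agent.ONan.SL2Hom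

section stage

variable {G Ω : Type*} [Group G] [MulAction G Ω] {p n q d : ℕ} {inf zero : Ω} {U H : Subgroup G}
  {t w : G}

theorem q_odd (S : StageData p n q d inf zero U H t w) : Odd q := by
  rw [S.hq]
  exact (S.hp.odd_of_ne_two S.hp2).pow

theorem q_ge (S : StageData p n q d inf zero U H t w) : 3 ≤ q := by
  have h1 : 3 ≤ p := by
    have := S.hp.two_le
    have := S.hp2
    omega
  rw [S.hq]
  calc 3 ≤ p := h1
    _ = p ^ 1 := (pow_one p).symm
    _ ≤ p ^ n := Nat.pow_le_pow_right S.hp.pos S.hn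

theorem H_comm (S : StageData p n q d inf zero U H t w) :
    ∀ x ∈ H, ∀ y ∈ H, x * y = y * x := by
  intro x hx y hy
  obtain ⟨g, hg⟩ := S.H_cyc.exists_generator
  obtain ⟨i, hi⟩ := Subgroup.mem_zpowers_iff.mp (hg ⟨x, hx⟩)
  obtain ⟨j, hj⟩ := Subgroup.mem_zpowers_iff.mp (hg ⟨y, hy⟩)
  have h : (⟨x, hx⟩ : H) * ⟨y, hy⟩ = ⟨y, hy⟩ * ⟨x, hx⟩ := by
    rw [← hi, ← hj, ← zpow_add, ← zpow_add, add_comm]
  exact congrArg Subtype.val h

theorem H_inf (S : StageData p n q d inf zero U H t w) {h : G} (hh : h ∈ H) : h • inf = inf :=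
  ((S.mem_H h).mp hh).1

theorem H_zero (S : StageData p n q d inf zero U H t w) {h : G} (hh : h ∈ H) : h • zero = zero :=
  ((S.mem_H h).mp hh).2

theorem w_h (S : StageData p n q d inf zero U H t w) {h : G} (hh : h ∈ H) :
    w * h = (h ^ q)⁻¹ * w := by
  have h1 := S.w_pow h hh
  have h2 : w * h * w = (h ^ q)⁻¹ := eq_inv_of_mul_eq_one_left h1
  rw [← h2, mul_assoc, S.w_sq, mul_one]

theorem h_w (S : StageData p n q d inf zero U H t w) {h : G} (hh : h ∈ H) :
    h * w = w * (h ^ q)⁻¹ := by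
  have h1 := S.w_pow h hh
  have h2 : w * h * w = (h ^ q)⁻¹ := eq_inv_of_mul_eq_one_left h1
  rw [← h2, mul_assoc w h w, ← mul_assoc w w, S.w_sq, one_mul]

theorem t_pow (S : StageData p n q d inf zero U H t w) : t ^ q = t := by
  obtain ⟨a, ha⟩ := q_odd S
  rw [ha, pow_succ, pow_mul, pow_two, S.t_sq, one_pow, one_mul]

theorem t_inv (S : StageData p n q d inf zero U H t w) : t⁻¹ = t :=
  inv_eq_of_mul_eq_one_right S.t_sq

theorem w_inv (S : StageData p n q d inf zero U H t w) : w⁻¹ = w :=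
  inv_eq_of_mul_eq_one_right S.w_sq

theorem w_w (S : StageData p n q d inf zero U H t w) (P : Ω) : w • w • P = P := by
  rw [← mul_smul, S.w_sq, one_smul]

theorem t_t (S : StageData p n q d inf zero U H t w) (P : Ω) : t • t • P = P := by
  rw [← mul_smul, S.t_sq, one_smul]

theorem w_t (S : StageData p n q d inf zero U H t w) : w * t = t * w := by
  rw [w_h S S.t_mem, t_pow S, t_inv S]

theorem h_t (S : StageData p n q d inf zero U H t w) {h : G} (hh : h ∈ H) : h * t = t * h :=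
  H_comm S h hh t S.t_mem

theorem pow_eq_one (S : StageData p n q d inf zero U H t w) {h : G} (hh : h ∈ H) :
    h ^ (q ^ 2 - 1) = 1 := by
  have h1 : (⟨h, hh⟩ : H) ^ Nat.card H = 1 := pow_card_eq_one'
  have h2 : h ^ Nat.card H = 1 := congrArg Subtype.val h1
  rw [← S.H_card, mul_comm, pow_mul, h2, one_pow]

/-- rank one data of the whole group -/
theorem r1 (S : StageData p n q d inf zero U H t w) :
    R1 (⊤ : Subgroup G) Set.univ inf zero U H where
  ne := S.ne
  a_mem := trivial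
  b_mem := trivial
  inv := fun _ _ _ _ => trivial
  Q_le := le_top
  D_le := le_top
  Q_fix := S.U_inf
  norm := fun g _ hg u hu => S.U_norm g hg u hu
  trans := fun c _ hc => S.U_trans zero c S.ne.symm hc
  free := fun u hu h => S.U_free zero S.ne.symm u hu h
  D_a := fun _ hx => H_inf S hx
  D_b := fun _ hx => H_zero S hx
  mem_D := fun g _ h1 h2 => (S.mem_H g).mpr ⟨h1, h2⟩
  comm := H_comm S
  moves := ⟨w, trivial, by rw [S.w_inf]; exact S.ne.symm⟩

end stage

/-- `StageData` with coordinates on the centraliser of `t` in `U`. -/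
structure TFrame {G Ω k : Type*} [Group G] [MulAction G Ω] [Field k] (p n q d : ℕ) (inf zero : Ω)
    (U H : Subgroup G) (t w : G) (T : k → G) (χ : G → k) : Prop where
  S : StageData p n q d inf zero U H t w
  T_add : ∀ a b, T (a + b) = T a * T b
  T_inj : ∀ a b, T a = T b → a = b
  T_mem : ∀ a, T a ∈ U
  T_t : ∀ a, T a * t = t * T a
  T_surj : ∀ u ∈ U, u * t = t * u → ∃ a, T a = u
  χ_ne : ∀ h ∈ H, χ h ≠ 0
  χ_mul : ∀ h ∈ H, ∀ h' ∈ H, χ (h * h') = χ h * χ h'
  χ_surj : ∀ r, r ≠ 0 → ∃ h ∈ H, χ h = r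
  conj : ∀ h ∈ H, ∀ a, h * T a * h⁻¹ = T (χ h * a)
  frob : ∀ a : k, a ^ q = a
  two_ne : (2 : k) ≠ 0

theorem exists_frame {G Ω : Type*} [Group G] [Finite G] [MulAction G Ω] {p n q d : ℕ}
    {inf zero : Ω} {U H : Subgroup G} {t w : G} (S : StageData p n q d inf zero U H t w)
    (k : Type*) [Field k] [Fintype k] (hk : Fintype.card k = q) :
    ∃ (T : k → G) (χ : G → k), TFrame p n q d inf zero U H t w T χ := by
  have hq3 := q_ge S
  -- a non-identity element of `Q`
  obtain ⟨⟨s, hs⟩, hs1⟩ : ∃ s : (U ⊓ Subgroup.centralizer {t} : Subgroup G), s ≠ 1 := by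
    haveI : Nontrivial (U ⊓ Subgroup.centralizer {t} : Subgroup G) := by
      apply Finite.one_lt_card_iff_nontrivial.mp
      rw [S.Q_card]
      omega
    exact exists_ne 1
  have hmem : ∀ {x : G}, x ∈ (U ⊓ Subgroup.centralizer {t} : Subgroup G) ↔ x ∈ U ∧ x * t = t * x := by
    intro x
    rw [Subgroup.mem_inf, Subgroup.mem_centralizer_singleton_iff]
  have hs1' : s ≠ 1 := fun h => hs1 (Subtype.ext h)
  have hsU := hmem.mp hs
  obtain ⟨T, χ, h1, h2, h3, h4, h5, h6, h7, h8⟩ := FieldOfTorus.exists_coord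
    (U ⊓ Subgroup.centralizer {t} : Subgroup G) H
    (fun x hx y hy => S.T_comm x (hmem.mp hx).1 (hmem.mp hx).2 y (hmem.mp hy).1)
    (H_comm S) (by
      intro h hh x hx
      obtain ⟨hx1, hx2⟩ := hmem.mp hx
      refine hmem.mpr ⟨S.U_norm h (H_inf S hh) x hx1, ?_⟩
      have h3 := h_t S hh
      have h4 : h⁻¹ * t = t * h⁻¹ := h_t S (H.inv_mem hh)
      rw [mul_assoc, h4, ← mul_assoc, mul_assoc h x t, hx2, ← mul_assoc, h3]
      group) s hs hs1' (by
      intro x hx hx1
      obtain ⟨hxU, hxt⟩ := hmem.mp hx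
      exact S.H_trans s hsU.1 hsU.2 hs1' x hxU hxt hx1) (by
      intro h hh hhs x hx
      have h1 := S.K_of h hh s hsU.1 hsU.2 hs1' hhs
      exact (S.K_cent h hh h1 x (hmem.mp hx).2).symm) k (by rw [hk, S.Q_card])
  refine ⟨T, χ, S, h1, h2, fun a => (hmem.mp (h3 a)).1, fun a => (hmem.mp (h3 a)).2,
    fun u hu hut => h4 u (hmem.mpr ⟨hu, hut⟩), h5, h6, h7, h8, ?_, ?_⟩
  · intro a
    rw [← hk]
    exact FiniteField.pow_card a
  · intro h20
    have hchar : ringChar k = 2 := by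
      have h21 : ringChar k ∣ 2 := (ringChar.spec k 2).mp (by exact_mod_cast h20)
      rcases (Nat.dvd_prime Nat.prime_two).mp h21 with h | h
      · exact absurd h (CharP.ringChar_ne_one)
      · exact h
    haveI : Fact (Nat.Prime 2) := ⟨Nat.prime_two⟩
    haveI : CharP k 2 := hchar ▸ ringChar.charP k
    obtain ⟨m, _, hm⟩ := FiniteField.card k 2
    have hodd := q_odd S
    rw [← hk, hm] at hodd
    exact (Nat.not_even_iff_odd.mpr hodd) ((Nat.even_pow' m.ne_zero).mpr even_two)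

section frame

variable {G Ω k : Type*} [Group G] [MulAction G Ω] [Field k] {p n q d : ℕ} {inf zero : Ω}
  {U H : Subgroup G} {t w : G} {T : k → G} {χ : G → k}

theorem TFrame.T_zero (F : TFrame p n q d inf zero U H t w T χ) : T 0 = 1 := by
  have h := F.T_add 0 0
  rw [add_zero] at h
  exact (mul_eq_left.mp h.symm)

theorem TFrame.T_neg (F : TFrame p n q d inf zero U H t w T χ) (a : k) : T (-a) = (T a)⁻¹ := by
  apply eq_inv_of_mul_eq_one_left
  rw [← F.T_add, neg_add_cancel, F.T_zero]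

theorem TFrame.T_inf (F : TFrame p n q d inf zero U H t w T χ) (a : k) : T a • inf = inf :=
  F.S.U_inf _ (F.T_mem a)

theorem TFrame.T_smul_ne (F : TFrame p n q d inf zero U H t w T χ) (a : k) : T a • zero ≠ inf :=
  (r1 F.S).smul_ne (F.T_mem a) F.S.ne.symm

theorem TFrame.T_smul_inj (F : TFrame p n q d inf zero U H t w T χ) {a b : k}
    (h : T a • zero = T b • zero) : a = b := by
  have h1 : T (-b + a) • zero = zero := by
    rw [F.T_add, F.T_neg, mul_smul, h, inv_smul_smul]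
  have h2 := F.S.U_free zero F.S.ne.symm _ (F.T_mem _) h1
  rw [← F.T_zero] at h2
  have h3 := F.T_inj _ _ h2
  linear_combination h3

theorem TFrame.t_T (F : TFrame p n q d inf zero U H t w T χ) (a : k) : t • T a • zero = T a • zero := by
  rw [← mul_smul, ← F.T_t, mul_smul, H_zero F.S F.S.t_mem]

theorem TFrame.fix_t (F : TFrame p n q d inf zero U H t w T χ) {P : Ω} (hP : P ≠ inf)
    (ht : t • P = P) : ∃ a, T a • zero = P := by
  obtain ⟨u, hu, rfl⟩ := F.S.U_trans zero P F.S.ne.symm hP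
  have h1 : t * u * t⁻¹ ∈ U := F.S.U_norm t (H_inf F.S F.S.t_mem) u hu
  have h2 : (u⁻¹ * (t * u * t⁻¹)) • zero = zero := by
    rw [mul_smul, mul_smul, mul_smul, t_inv F.S, H_zero F.S F.S.t_mem, ht, inv_smul_smul]
  have h3 := F.S.U_free zero F.S.ne.symm _ (U.mul_mem (U.inv_mem hu) h1) h2
  have h4 : u = t * u * t⁻¹ := inv_mul_eq_one.mp h3
  have h5 : u * t = t * u := by
    calc u * t = t * u * t⁻¹ * t := by rw [← h4]
      _ = t * u := by group
  obtain ⟨a, ha⟩ := F.T_surj u hu h5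
  exact ⟨a, by rw [ha]⟩

theorem TFrame.h_T (F : TFrame p n q d inf zero U H t w T χ) {h : G} (hh : h ∈ H) (a : k) :
    h * T a = T (χ h * a) * h := by
  rw [← F.conj h hh a]
  group

theorem TFrame.h_smul (F : TFrame p n q d inf zero U H t w T χ) {h : G} (hh : h ∈ H) (a : k) :
    h • T a • zero = T (χ h * a) • zero := by
  rw [← mul_smul, F.h_T hh, mul_smul, H_zero F.S hh]

theorem TFrame.χ_one (F : TFrame p n q d inf zero U H t w T χ) : χ 1 = 1 := by
  have h1 := F.χ_mul 1 H.one_mem 1 H.one_mem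
  rw [one_mul] at h1
  have h2 := F.χ_ne 1 H.one_mem
  exact mul_left_cancel₀ h2 (by rw [← h1, mul_one])

theorem TFrame.χ_inv (F : TFrame p n q d inf zero U H t w T χ) {h : G} (hh : h ∈ H) :
    χ h⁻¹ = (χ h)⁻¹ := by
  apply eq_inv_of_mul_eq_one_left
  rw [← F.χ_mul _ (H.inv_mem hh) _ hh, inv_mul_cancel, F.χ_one]

theorem TFrame.χ_pow (F : TFrame p n q d inf zero U H t w T χ) {h : G} (hh : h ∈ H) (j : ℕ) :
    χ (h ^ j) = χ h ^ j := by
  induction j with
  | zero => rw [pow_zero, pow_zero, F.χ_one]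
  | succ j ih => rw [pow_succ, pow_succ, F.χ_mul _ (H.pow_mem hh j) _ hh, ih]

theorem TFrame.χ_pow_q (F : TFrame p n q d inf zero U H t w T χ) {h : G} (hh : h ∈ H) :
    χ ((h ^ q)⁻¹) = (χ h)⁻¹ := by
  rw [F.χ_inv (H.pow_mem hh q), F.χ_pow hh, F.frob]

/-- the elements of the kernel of `χ` -/
theorem TFrame.pow_of_χ (F : TFrame p n q d inf zero U H t w T χ) {h : G} (hh : h ∈ H)
    (h1 : χ h = 1) : h ^ (q + 1) = 1 := by
  have hT1 : T 1 ≠ 1 := by
    rw [← F.T_zero]
    intro h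
    exact one_ne_zero (F.T_inj _ _ h)
  refine F.S.K_of h hh (T 1) (F.T_mem 1) (F.T_t 1) hT1 ?_
  rw [F.h_T hh, h1, one_mul]

theorem TFrame.χ_of_pow (F : TFrame p n q d inf zero U H t w T χ) {h : G} (hh : h ∈ H)
    (h1 : h ^ (q + 1) = 1) : χ h = 1 := by
  have h2 := F.S.K_cent h hh h1 (T 1) (F.T_t 1)
  rw [F.h_T hh] at h2
  have h3 := F.T_inj _ _ (mul_right_cancel h2)
  rw [mul_one] at h3
  exact h3.symm

theorem TFrame.exists_c (F : TFrame p n q d inf zero U H t w T χ) :
    ∃ c : k, c ≠ 0 ∧ ∀ a, a ≠ 0 → w • T a • zero = T (c / a) • zero := by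
  have key : ∀ a, a ≠ 0 → ∃ b, b ≠ 0 ∧ w • T a • zero = T b • zero := by
    intro a ha
    have h1 : w • T a • zero ≠ inf := by
      intro h
      have h2 : T a • zero = T 0 • zero := by
        have h4 := w_w F.S (T a • zero)
        rw [h, F.S.w_inf] at h4
        rw [F.T_zero, one_smul, ← h4]
      exact ha (F.T_smul_inj h2)
    have h2 : t • w • T a • zero = w • T a • zero := by
      rw [← mul_smul, ← w_t F.S, mul_smul, F.t_T]
    obtain ⟨b, hb⟩ := F.fix_t h1 h2
    refine ⟨b, ?_, hb.symm⟩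
    rintro rfl
    rw [F.T_zero, one_smul] at hb
    have h3 : T a • zero = inf := by
      have h4 := w_w F.S (T a • zero)
      rw [← hb, F.S.w_zero] at h4
      exact h4.symm
    exact F.T_smul_ne a h3
  obtain ⟨c, hc, h1⟩ := key 1 one_ne_zero
  refine ⟨c, hc, fun a ha => ?_⟩
  obtain ⟨h, hh, rfl⟩ := F.χ_surj a ha
  have h2 : T (χ h) • zero = h • T 1 • zero := by rw [F.h_smul hh, mul_one]
  rw [h2, ← mul_smul, w_h F.S hh, mul_smul, h1, F.h_smul (H.inv_mem (H.pow_mem hh q)), F.χ_pow_q hh]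
  congr 2
  field_simp

/-- the elements `w T_s w` -/
theorem TFrame.exists_hs (F : TFrame p n q d inf zero U H t w T χ) {c : k} (hc : c ≠ 0)
    (hw : ∀ a, a ≠ 0 → w • T a • zero = T (c / a) • zero) (s : k) (hs : s ≠ 0) :
    ∃ h ∈ H, χ h = -(c / s ^ 2) ∧ w * T s * w = T (c / s) * h * w * T (c / s) := by
  have hcs : c / s ≠ 0 := div_ne_zero hc hs
  let h : G := T (-(c / s)) * (w * T s * w) * T (-(c / s)) * w
  have hh : h ∈ H := by
    rw [F.S.mem_H]
    constructor
    · show (T (-(c / s)) * (w * T s * w) * T (-(c / s)) * w) • inf = inf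
      rw [mul_smul, mul_smul, mul_smul, mul_smul, mul_smul, F.S.w_inf, hw _ (neg_ne_zero.mpr hcs)]
      have e1 : c / -(c / s) = -s := by field_simp
      rw [e1, ← mul_smul (T s), ← F.T_add, add_neg_cancel, F.T_zero, one_smul, F.S.w_zero, F.T_inf]
    · show (T (-(c / s)) * (w * T s * w) * T (-(c / s)) * w) • zero = zero
      rw [mul_smul, mul_smul, mul_smul, mul_smul, mul_smul, F.S.w_zero, F.T_inf, F.S.w_inf,
        hw _ hs, ← mul_smul (T _), ← F.T_add, neg_add_cancel, F.T_zero, one_smul]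
  have hrel : w * T s * w = T (c / s) * h * w * T (c / s) := by
    show w * T s * w = T (c / s) * (T (-(c / s)) * (w * T s * w) * T (-(c / s)) * w) * w * T (c / s)
    rw [F.T_neg]
    calc w * T s * w = T (c / s) * (T (c / s))⁻¹ * (w * T s * w) * (T (c / s))⁻¹ * T (c / s) := by
          group
      _ = T (c / s) * (T (c / s))⁻¹ * (w * T s * w) * (T (c / s))⁻¹ * (w * w) * T (c / s) := by
          rw [F.S.w_sq, mul_one]
      _ = _ := by group
  refine ⟨h, hh, ?_, hrel⟩
  -- apply the relation to `zero`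
  have h1 : (w * T s * w) • zero = zero := by
    rw [mul_smul, mul_smul, F.S.w_zero, F.T_inf, F.S.w_inf]
  rw [hrel, mul_smul, mul_smul, mul_smul, hw _ hcs, F.h_smul hh, ← mul_smul, ← F.T_add] at h1
  have h2 : T (c / s + χ h * (c / (c / s))) • zero = T 0 • zero := by
    rw [h1, F.T_zero, one_smul]
  have h3 := F.T_smul_inj h2
  have e2 : c / (c / s) = s := by field_simp
  rw [e2] at h3
  have h4 : χ h * s = -(c / s) := by linear_combination h3
  have h5 : χ h = -(c / s) / s := by rw [← h4]; field_simp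
  rw [h5]
  field_simp

/-- the element of `H` in the relation is unique -/
theorem TFrame.hs_unique (_F : TFrame p n q d inf zero U H t w T χ) {a : k} {x y : G}
    (h : T a * x * w * T a = T a * y * w * T a) : x = y := by
  have h1 : T a * x * w = T a * y * w := mul_right_cancel h
  exact mul_left_cancel (mul_right_cancel h1)

end frame

/-- `TFrame` with a torus and the relations of `SL₂`. -/
structure SFrame {G Ω k : Type*} [Group G] [MulAction G Ω] [Field k] (p n q d : ℕ) (inf zero : Ω)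
    (U H : Subgroup G) (t w : G) (T : k → G) (χ : G → k) (ν : k → G) (η : G) (c : k) : Prop where
  F : TFrame p n q d inf zero U H t w T χ
  w_T : ∀ a, a ≠ 0 → w • T a • zero = T (c / a) • zero
  ν_χ : ∀ h ∈ H, ν (χ h) = h ^ (q + 1)
  η_mem : η ∈ H
  χ_η : χ η = -c
  η_pow : η ^ (q - 1) = t
  ν_neg : ν (-1) = t
  rel : Rel T ν (η * w) c

section exists_sframe

variable {G Ω k : Type*} [Group G] [MulAction G Ω] [Field k] {p n q d : ℕ} {inf zero : Ω}
  {U H : Subgroup G} {t w : G} {T : k → G} {χ : G → k}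

theorem TFrame.exists_sframe (F : TFrame p n q d inf zero U H t w T χ) :
    ∃ (ν : k → G) (η : G) (c : k), SFrame p n q d inf zero U H t w T χ ν η c := by
  classical
  obtain ⟨c, hc, hw⟩ := F.exists_c
  have hq3 := q_ge F.S
  have hcomm := H_comm F.S
  choose! g hgH hgχ using F.χ_surj
  let ν : k → G := fun r => g r ^ (q + 1)
  -- commuting powers
  have hmulpow : ∀ x ∈ H, ∀ y ∈ H, ∀ j : ℕ, (x * y) ^ j = x ^ j * y ^ j := fun x hx y hy j =>
    (show Commute x y from hcomm x hx y hy).mul_pow j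
  have hνχ : ∀ h ∈ H, ν (χ h) = h ^ (q + 1) := by
    intro h hh
    have h0 := F.χ_ne h hh
    have h1 : χ (h⁻¹ * g (χ h)) = 1 := by
      rw [F.χ_mul _ (H.inv_mem hh) _ (hgH _ h0), F.χ_inv hh, hgχ _ h0, inv_mul_cancel₀ h0]
    have h2 := F.pow_of_χ (H.mul_mem (H.inv_mem hh) (hgH _ h0)) h1
    rw [hmulpow _ (H.inv_mem hh) _ (hgH _ h0), inv_pow] at h2
    exact (inv_mul_eq_one.mp h2).symm
  have hνH : ∀ r, r ≠ 0 → ν r ∈ H := fun r hr => H.pow_mem (hgH r hr) _
  have hχν : ∀ r, r ≠ 0 → χ (ν r) = r ^ 2 := by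
    intro r hr
    show χ (g r ^ (q + 1)) = _
    rw [F.χ_pow (hgH r hr), hgχ r hr, pow_succ, F.frob, pow_two]
  have hνmul : ∀ r s, r ≠ 0 → s ≠ 0 → ν (r * s) = ν r * ν s := by
    intro r s hr hs
    have h1 : r * s = χ (g r * g s) := by rw [F.χ_mul _ (hgH r hr) _ (hgH s hs), hgχ r hr, hgχ s hs]
    rw [h1, hνχ _ (H.mul_mem (hgH r hr) (hgH s hs)), hmulpow _ (hgH r hr) _ (hgH s hs)]
  have hν1 : ν 1 = 1 := by
    have h := hνmul 1 1 one_ne_zero one_ne_zero
    rw [one_mul] at h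
    exact (mul_eq_left.mp h.symm)
  -- `w ν(r) = ν(r)⁻¹ w`
  have hwν : ∀ r, r ≠ 0 → w * ν r = (ν r)⁻¹ * w := by
    intro r hr
    rw [w_h F.S (hνH r hr)]
    congr 2
    show (g r ^ (q + 1)) ^ q = g r ^ (q + 1)
    have h1 := pow_eq_one F.S (hgH r hr)
    have e1 : (q + 1) * q = (q ^ 2 - 1) + (q + 1) := by
      have : 1 ≤ q ^ 2 := Nat.one_le_pow _ _ (by omega)
      zify [this]
      ring
    rw [← pow_mul, e1, pow_add, h1, one_mul]
  have hneg : (-1 : k) ≠ 0 := neg_ne_zero.mpr one_ne_zero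
  have hνneg : ν (-1) = t := by
    have h1 : ν (-1) * ν (-1) = 1 := by
      rw [← hνmul _ _ hneg hneg, neg_mul_neg, one_mul, hν1]
    rcases F.S.t_unique _ (hνH _ hneg) h1 with h | h
    · exfalso
      have h2 : g (-1) ^ (q + 1) = 1 := h
      have h3 := F.χ_of_pow (hgH _ hneg) h2
      rw [hgχ _ hneg] at h3
      apply F.two_ne
      linear_combination -h3
    · exact h
  -- the elements `h(s)`
  choose! hs hsH hsχ hsrel using fun s hs => F.exists_hs hc hw s hs
  have hinv : ∀ r : k, r ≠ 0 → ∀ s : k, s ≠ 0 → hs (s / r) = hs s * ν r := by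
    intro r hr s hs0
    have hg := hgH r hr
    have hsr : s / r ≠ 0 := div_ne_zero hs0 hr
    -- conjugate the relation by `g r`
    have e1 : g r * (w * T s * w) * (g r)⁻¹ = w * T (s / r) * w := by
      have a1 : g r * w = w * ((g r) ^ q)⁻¹ := h_w F.S hg
      have a2 : w * (g r)⁻¹ = (g r) ^ q * w := by
        rw [w_h F.S (H.inv_mem hg), inv_pow, inv_inv]
      have a3 : ((g r) ^ q)⁻¹ * T s = T (s / r) * ((g r) ^ q)⁻¹ := by
        rw [F.h_T (H.inv_mem (H.pow_mem hg q)), F.χ_pow_q hg, hgχ r hr, div_eq_inv_mul]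
      calc g r * (w * T s * w) * (g r)⁻¹ = (g r * w) * T s * (w * (g r)⁻¹) := by group
        _ = w * ((((g r) ^ q)⁻¹ * T s)) * ((g r) ^ q * w) := by rw [a1, a2]; group
        _ = _ := by rw [a3]; group
    have e2 : g r * (T (c / s) * hs s * w * T (c / s)) * (g r)⁻¹ =
        T (c / (s / r)) * (hs s * ν r) * w * T (c / (s / r)) := by
      have a1 : g r * T (c / s) = T (c / (s / r)) * g r := by
        rw [F.h_T hg, hgχ r hr]
        congr 2
        field_simp
      have a2 : T (c / s) * (g r)⁻¹ = (g r)⁻¹ * T (c / (s / r)) := by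
        rw [F.h_T (H.inv_mem hg), F.χ_inv hg, hgχ r hr]
        congr 2
        field_simp
      have a3 : w * (g r)⁻¹ = (g r) ^ q * w := by
        rw [w_h F.S (H.inv_mem hg), inv_pow, inv_inv]
      have a4 : g r * hs s * (g r) ^ q = hs s * (g r) ^ (q + 1) := by
        rw [hcomm _ hg _ (hsH s hs0), pow_succ']
        group
      calc g r * (T (c / s) * hs s * w * T (c / s)) * (g r)⁻¹
          = (g r * T (c / s)) * hs s * w * (T (c / s) * (g r)⁻¹) := by group
        _ = T (c / (s / r)) * (g r * hs s) * (w * (g r)⁻¹) * T (c / (s / r)) := by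
            rw [a1, a2]; group
        _ = T (c / (s / r)) * (g r * hs s * (g r) ^ q) * w * T (c / (s / r)) := by
            rw [a3]; group
        _ = _ := by rw [a4]
    have e3 := hsrel (s / r) hsr
    rw [← e1, hsrel s hs0, e2] at e3
    exact (F.hs_unique e3).symm
  have hhs : ∀ s, s ≠ 0 → hs s = hs 1 * ν s⁻¹ := by
    intro s hs0
    have h1 := hinv s⁻¹ (inv_ne_zero hs0) 1 one_ne_zero
    rw [one_div, inv_inv] at h1
    exact h1
  have hη : hs 1 ∈ H := hsH 1 one_ne_zero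
  have hχη : χ (hs 1) = -c := by
    rw [hsχ 1 one_ne_zero]
    simp
  have hηpow : hs 1 ^ (q - 1) = t := by
    have a1 : (w * T 1 * w)⁻¹ = w * T (-1) * w := by
      rw [F.T_neg, mul_inv_rev, mul_inv_rev, w_inv F.S, mul_assoc]
    rw [hsrel 1 one_ne_zero, hsrel (-1) hneg] at a1
    have a2 : (T (c / 1) * hs 1 * w * T (c / 1))⁻¹ =
        T (c / -1) * hs 1 ^ q * w * T (c / -1) := by
      have a3 : T (c / -1) = (T (c / 1))⁻¹ := by rw [← F.T_neg, div_one, div_neg, div_one]
      have a4 : w * (hs 1)⁻¹ = hs 1 ^ q * w := by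
        rw [w_h F.S (H.inv_mem hη), inv_pow, inv_inv]
      rw [a3, mul_inv_rev, mul_inv_rev, mul_inv_rev, w_inv F.S]
      calc (T (c / 1))⁻¹ * (w * ((hs 1)⁻¹ * (T (c / 1))⁻¹)) =
          (T (c / 1))⁻¹ * (w * (hs 1)⁻¹) * (T (c / 1))⁻¹ := by group
        _ = _ := by rw [a4]; group
    rw [a2] at a1
    have a5 := F.hs_unique a1
    have a6 := hinv (-1) hneg 1 one_ne_zero
    rw [one_div, inv_neg, inv_one, hνneg] at a6
    rw [a6] at a5
    have a7 : hs 1 ^ q = hs 1 * hs 1 ^ (q - 1) := by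
      rw [← pow_succ']
      congr 1
      omega
    rw [a7] at a5
    exact mul_left_cancel a5
  refine ⟨ν, hs 1, c, F, hw, hνχ, hη, hχη, hηpow, hνneg, hc, F.T_add, hνmul, ?_, ?_, ?_, ?_⟩
  · intro r s hr
    rw [F.h_T (hνH r hr), hχν r hr]
  · intro r hr
    have h1 : ν r⁻¹ = (ν r)⁻¹ := by
      apply eq_inv_of_mul_eq_one_left
      rw [← hνmul _ _ (inv_ne_zero hr) hr, inv_mul_cancel₀ hr, hν1]
    have h2 := hcomm _ hη _ (H.inv_mem (hνH r hr))
    rw [mul_assoc, hwν r hr, h1, ← mul_assoc, h2, mul_assoc]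
  · rw [hνneg]
    have h1 : w * hs 1 = (hs 1 ^ q)⁻¹ * w := w_h F.S hη
    calc hs 1 * w * (hs 1 * w) = hs 1 * (w * hs 1) * w := by group
      _ = hs 1 * (hs 1 ^ q)⁻¹ * (w * w) := by rw [h1]; group
      _ = hs 1 * (hs 1 * hs 1 ^ (q - 1))⁻¹ := by
          rw [F.S.w_sq, mul_one, ← pow_succ']
          congr 3
          omega
      _ = t := by
          rw [hηpow, mul_inv_rev, t_inv F.S, ← mul_assoc, h_t F.S hη]
          group
  · intro a ha
    have hca : -(a / c) ≠ 0 := neg_ne_zero.mpr (div_ne_zero ha hc)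
    have a1 : T a * hs 1 = hs 1 * T (-(a / c)) := by
      rw [F.h_T hη, hχη]
      congr 2
      field_simp
    have a2 : w * hs 1 = (hs 1 ^ q)⁻¹ * w := w_h F.S hη
    have a3 : hs 1 * (hs 1 ^ q)⁻¹ = t := by
      have : hs 1 ^ q = hs 1 * hs 1 ^ (q - 1) := by
        rw [← pow_succ']
        congr 1
        omega
      rw [this, hηpow, mul_inv_rev, t_inv F.S, ← mul_assoc, h_t F.S hη]
      group
    have a4 := hsrel _ hca
    have e1 : c / -(a / c) = -(c ^ 2 / a) := by field_simp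
    rw [e1, hhs _ hca] at a4
    have e2 : (-(a / c))⁻¹ = -(c / a) := by field_simp
    rw [e2] at a4
    have a5 : t * T (-(c ^ 2 / a)) = T (-(c ^ 2 / a)) * t := (F.T_t _).symm
    have a6 : t * (hs 1 * ν (-(c / a))) = ν (c / a) * hs 1 := by
      have h1 : ν (c / a) = t * ν (-(c / a)) := by
        rw [← hνneg, ← hνmul _ _ hneg (neg_ne_zero.mpr (div_ne_zero hc ha)), neg_mul_neg, one_mul]
      rw [h1, mul_assoc, hcomm _ (hνH _ (neg_ne_zero.mpr (div_ne_zero hc ha))) _ hη]
    have a7 : T (-(c ^ 2 / a)) * ν (c / a) = ν (c / a) * T (-a) := by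
      have hca' : c / a ≠ 0 := div_ne_zero hc ha
      rw [F.h_T (hνH _ hca'), hχν _ hca']
      congr 2
      field_simp
    calc hs 1 * w * T a * (hs 1 * w) = hs 1 * w * (T a * hs 1) * w := by group
      _ = hs 1 * (w * hs 1) * T (-(a / c)) * w := by rw [a1]; group
      _ = hs 1 * (hs 1 ^ q)⁻¹ * (w * T (-(a / c)) * w) := by rw [a2]; group
      _ = t * T (-(c ^ 2 / a)) * (hs 1 * ν (-(c / a))) * w * T (-(c ^ 2 / a)) := by
          rw [a3, a4]; group
      _ = T (-(c ^ 2 / a)) * (t * (hs 1 * ν (-(c / a)))) * w * T (-(c ^ 2 / a)) := by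
          rw [a5]; group
      _ = (T (-(c ^ 2 / a)) * ν (c / a)) * hs 1 * w * T (-(c ^ 2 / a)) := by rw [a6]; group
      _ = _ := by rw [a7]; group

end exists_sframe

end Cfsg.Agent.ONan.Frame
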