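import Mathlib
import Cfsg.Agent.ONan.Frame

/-!
# The action of `SL₂(k)` on the points not fixed by `t`
-/

set_option autoImplicit false

namespace Cfsg.Agent.ONan.FrameGeom

open Cfsg.Agent.ONan.Stage Cfsg.Agent.ONan.RankOne Cfsg.Agent.ONan.SL2Hom Cfsg.Agent.ONan.Frame
open Matrix (SpecialLinearGroup)

variable {G Ω k : Type*} [Group G] [MulAction G Ω] [Field k] {p n q d : ℕ} {inf zero : Ω}
  {U H : Subgroup G} {t w : G} {T : k → G} {χ : G → k} {ν : k → G} {η : G} {c : k}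

theorem ν_mem (M : SFrame p n q d inf zero U H t w T χ ν η c) {r : k} (hr : r ≠ 0) : ν r ∈ H := by
  obtain ⟨h, hh, rfl⟩ := M.F.χ_surj r hr
  rw [M.ν_χ h hh]
  exact H.pow_mem hh _

theorem χ_ν (M : SFrame p n q d inf zero U H t w T χ ν η c) {r : k} (hr : r ≠ 0) :
    χ (ν r) = r ^ 2 := by
  obtain ⟨h, hh, rfl⟩ := M.F.χ_surj r hr
  rw [M.ν_χ h hh, M.F.χ_pow hh, pow_succ, M.F.frob, pow_two]

theorem ν_inj_one (M : SFrame p n q d inf zero U H t w T χ ν η c) {r : k} (hr : r ≠ 0)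
    (h1 : ν r = 1) : r = 1 := by
  obtain ⟨h, hh, rfl⟩ := M.F.χ_surj r hr
  rw [M.ν_χ h hh] at h1
  exact M.F.χ_of_pow hh h1

/-- the elements of `SL₂(k)` commute with `t` -/
theorem hom_t (M : SFrame p n q d inf zero U H t w T χ ν η c) (g : SpecialLinearGroup (Fin 2) k) :
    M.rel.hom g * t = t * M.rel.hom g := by
  have hT : ∀ a, Commute (T a) t := M.F.T_t
  have hν : ∀ r, r ≠ 0 → Commute (ν r) t := fun r hr => h_t M.F.S (ν_mem M hr)
  have hm : Commute (η * w) t :=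
    (show Commute η t from h_t M.F.S M.η_mem).mul_left (show Commute w t from w_t M.F.S)
  show Commute (M.rel.hom g) t
  rcases decomp M.rel.c_ne g with ⟨r, hr, x, rfl⟩ | ⟨r, hr, x, y, rfl⟩
  · rw [map_mul, M.rel.hom_nM, M.rel.hom_tM]
    exact (hν r hr).mul_left (hT x)
  · rw [map_mul, map_mul, map_mul, M.rel.hom_nM, M.rel.hom_tM, M.rel.hom_mM, M.rel.hom_tM]
    exact (hT x).mul_left ((hν r hr).mul_left (hm.mul_left (hT y)))

theorem hom_inj (M : SFrame p n q d inf zero U H t w T χ ν η c)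
    {g : SpecialLinearGroup (Fin 2) k} (h : M.rel.hom g = 1) : g = 1 := by
  have hd := det_eq g
  by_cases h0 : g.1 1 0 = 0
  · have h1 : M.rel.hom g = ν (g.1 0 0) * T (g.1 0 1 / g.1 0 0) := Phi_of_eq h0
    rw [h0, mul_zero, sub_zero] at hd
    have h00 : g.1 0 0 ≠ 0 := left_ne_zero_of_mul_eq_one hd
    have h11 : g.1 1 1 = (g.1 0 0)⁻¹ := eq_inv_of_mul_eq_one_right hd
    rw [h] at h1
    have h2 : (1 : G) • zero = (ν (g.1 0 0) * T (g.1 0 1 / g.1 0 0)) • zero := by rw [← h1]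
    rw [one_smul, mul_smul, M.F.h_smul (ν_mem M h00)] at h2
    have h3 : T 0 • zero = T (χ (ν (g.1 0 0)) * (g.1 0 1 / g.1 0 0)) • zero := by
      rw [M.F.T_zero, one_smul]
      exact h2
    have h4 := M.F.T_smul_inj h3
    rw [χ_ν M h00] at h4
    have h01 : g.1 0 1 = 0 := by
      rcases mul_eq_zero.mp h4.symm with h5 | h5
      · exact absurd h5 (pow_ne_zero 2 h00)
      · exact (div_eq_zero_iff.mp h5).resolve_right h00
    rw [h01, zero_div, M.F.T_zero, mul_one] at h1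
    have h5 := ν_inj_one M h00 h1.symm
    refine ext' h5 h01 h0 ?_
    rw [h11, h5, inv_one]
    rfl
  · exfalso
    have h1 : M.rel.hom g = T (g.1 0 0 / g.1 1 0) * ν (1 / (c * g.1 1 0)) * (η * w) *
      T (g.1 1 1 / g.1 1 0) := Phi_of_ne h0
    have hr : 1 / (c * g.1 1 0) ≠ 0 := one_div_ne_zero (mul_ne_zero M.rel.c_ne h0)
    have h2 : M.rel.hom g • inf = inf := by rw [h, one_smul]
    rw [h1, mul_smul, mul_smul, mul_smul, mul_smul, M.F.T_inf, M.F.S.w_inf,
      H_zero M.F.S M.η_mem, H_zero M.F.S (ν_mem M hr)] at h2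
    exact M.F.T_smul_ne _ h2

theorem hom_injective (M : SFrame p n q d inf zero U H t w T χ ν η c)
    {g g' : SpecialLinearGroup (Fin 2) k} (h : M.rel.hom g = M.rel.hom g') : g = g' := by
  have h1 : M.rel.hom (g⁻¹ * g') = 1 := by rw [map_mul, map_inv, h, inv_mul_cancel]
  exact inv_mul_eq_one.mp (hom_inj M h1)

theorem hom_neg_one (M : SFrame p n q d inf zero U H t w T χ ν η c)
    {g : SpecialLinearGroup (Fin 2) k} (h00 : g.1 0 0 = -1) (h01 : g.1 0 1 = 0) (h10 : g.1 1 0 = 0) :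
    M.rel.hom g = t := by
  have h1 : M.rel.hom g = ν (g.1 0 0) * T (g.1 0 1 / g.1 0 0) := Phi_of_eq h10
  rw [h1, h00, h01, zero_div, M.F.T_zero, mul_one, M.ν_neg]

/-- conjugation by elements of `H` -/
theorem h_hom (M : SFrame p n q d inf zero U H t w T χ ν η c) {h : G} (hh : h ∈ H)
    (g : SpecialLinearGroup (Fin 2) k) :
    h * M.rel.hom g * h⁻¹ = M.rel.hom (dconj (χ h) (M.F.χ_ne h hh) g) := by
  apply M.rel.dconj_hom
  · exact M.F.conj h hh
  · intro r hr
    rw [H_comm M.F.S h hh _ (ν_mem M hr)]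
    group
  · have h1 : w * h⁻¹ = h ^ q * w := by
      rw [w_h M.F.S (H.inv_mem hh), inv_pow, inv_inv]
    rw [M.ν_χ h hh, pow_succ']
    calc h * (η * w) * h⁻¹ = h * η * (w * h⁻¹) := by group
      _ = (h * η) * h ^ q * w := by rw [h1]; group
      _ = h * (η * h ^ q) * w := by group
      _ = h * h ^ q * (η * w) := by
          rw [H_comm M.F.S η M.η_mem _ (H.pow_mem hh q)]
          group

/-- the conjugate by `w` -/
def wconj (c : k) (hc : c ≠ 0) (g : SpecialLinearGroup (Fin 2) k) :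
    SpecialLinearGroup (Fin 2) k :=
  mk (g.1 1 1) (c * g.1 1 0) (c⁻¹ * g.1 0 1) (g.1 0 0) (by
    have := det_eq g
    field_simp
    linear_combination this)

theorem w_hom (M : SFrame p n q d inf zero U H t w T χ ν η c) (g : SpecialLinearGroup (Fin 2) k) :
    w * M.rel.hom g * w⁻¹ = M.rel.hom (wconj c M.rel.c_ne g) := by
  have hη' : η⁻¹ ∈ H := H.inv_mem M.η_mem
  have hc := M.rel.c_ne
  have h1 : w * M.rel.hom g * w⁻¹ =
      η⁻¹ * M.rel.hom (mM c M.rel.c_ne * g * (mM c M.rel.c_ne)⁻¹) * η⁻¹⁻¹ := by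
    rw [map_mul, map_mul, map_inv, M.rel.hom_mM]
    group
  rw [h1, h_hom M hη']
  congr 1
  have e : χ η⁻¹ = (-c)⁻¹ := by rw [M.F.χ_inv M.η_mem, M.χ_η]
  have hi : (mM c M.rel.c_ne)⁻¹ = mk 0 c (-c⁻¹) 0 (by field_simp; ring) := by
    apply inv_eq_of_mul_eq_one_right
    apply ext'
    · rw [mul_apply']; show 0 * 0 + -c * -c⁻¹ = (1 : k); field_simp; ring
    · rw [mul_apply']; show 0 * c + -c * 0 = (0 : k); ring
    · rw [mul_apply']; show c⁻¹ * 0 + 0 * _ = (0 : k); ring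
    · rw [mul_apply']; show c⁻¹ * c + 0 * 0 = (1 : k); field_simp; ring
  apply ext'
  · show (mM c M.rel.c_ne * g * (mM c M.rel.c_ne)⁻¹).1 0 0 = g.1 1 1
    rw [hi]
    simp only [mul_apply', mM_00, mM_01, mk_00, mk_10]
    field_simp
    ring
  · show χ η⁻¹ * (mM c M.rel.c_ne * g * (mM c M.rel.c_ne)⁻¹).1 0 1 = c * g.1 1 0
    rw [hi, e]
    simp only [mul_apply', mM_00, mM_01, mk_01, mk_11]
    field_simp
    ring
  · show (χ η⁻¹)⁻¹ * (mM c M.rel.c_ne * g * (mM c M.rel.c_ne)⁻¹).1 1 0 = c⁻¹ * g.1 0 1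
    rw [hi, e]
    simp only [mul_apply', mM_10, mM_11, mk_00, mk_10]
    field_simp
    ring
  · show (mM c M.rel.c_ne * g * (mM c M.rel.c_ne)⁻¹).1 1 1 = g.1 0 0
    rw [hi]
    simp only [mul_apply', mM_10, mM_11, mk_01, mk_11]
    field_simp
    ring

/-- a fixed point of `w` -/
theorem exists_fix_w (S : StageData p n q d inf zero U H t w) : ∃ ω : Ω, w • ω = ω := by
  obtain ⟨g, hg⟩ := isConj_iff.mp S.w_conj
  refine ⟨g • inf, ?_⟩
  rw [← hg, ← mul_smul]
  have h1 : g * t * g⁻¹ * g = g * t := by group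
  rw [h1, mul_smul, H_inf S S.t_mem]

theorem exists_g0 (S : StageData p n q d inf zero U H t w) {ω : Ω} (hω : w • ω = ω) :
    ∃ g : G, g • inf = ω ∧ g • zero = t • ω ∧ g * w * g⁻¹ = t := by
  have hne : t • ω ≠ ω := fun h => S.no_common ω h hω
  obtain ⟨g, -, h1, h2⟩ := (r1 S).two_trans (c := ω) (d := t • ω) trivial trivial hne.symm
  have h3 : (g⁻¹ * t * g) • inf = zero := by
    rw [mul_smul, mul_smul, h1, ← h2, inv_smul_smul]
  have h4 : IsConj t (g⁻¹ * t * g) := isConj_iff.mpr ⟨g⁻¹, by group⟩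
  obtain ⟨h, hh, h5⟩ := S.w_class _ h4 h3
  refine ⟨g * h, by rw [mul_smul, H_inf S hh, h1], by rw [mul_smul, H_zero S hh, h2], ?_⟩
  calc g * h * w * (g * h)⁻¹ = g * (h * w * h⁻¹) * g⁻¹ := by group
    _ = g * (g⁻¹ * t * g) * g⁻¹ := by rw [h5]
    _ = t := by group

/-- the stabiliser of `ω` in the centraliser of `t` -/
theorem stab_ω (S : StageData p n q d inf zero U H t w) {ω : Ω} {g0 : G} (h1 : g0 • inf = ω)
    (h2 : g0 • zero = t • ω) (h3 : g0 * w * g0⁻¹ = t) {x : G} (hxt : x * t = t * x)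
    (hx : x • ω = ω) : ∃ y ∈ H, y ^ (q + 1) = 1 ∧ y * w = w * y ∧ x = g0 * y * g0⁻¹ := by
  have hH : g0⁻¹ * x * g0 ∈ H := by
    rw [S.mem_H]
    constructor
    · rw [mul_smul, mul_smul, h1, hx, ← h1, inv_smul_smul]
    · rw [mul_smul, mul_smul, h2, ← mul_smul x, hxt, mul_smul, hx, ← h2, inv_smul_smul]
  have hw : (g0⁻¹ * x * g0) * w = w * (g0⁻¹ * x * g0) := by
    have h4 : w = g0⁻¹ * t * g0 := by rw [← h3]; group
    rw [h4]
    calc g0⁻¹ * x * g0 * (g0⁻¹ * t * g0) = g0⁻¹ * (x * t) * g0 := by group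
      _ = _ := by rw [hxt]; group
  refine ⟨_, hH, ?_, hw, by group⟩
  have h5 := S.w_pow _ hH
  rw [← hw, mul_assoc (g0⁻¹ * x * g0) w w, S.w_sq, mul_one] at h5
  rw [pow_succ']
  exact h5

/-- the stabiliser of `ω` in the centraliser of `t` commutes with `w` -/
theorem stab_comm (S : StageData p n q d inf zero U H t w) {ω : Ω} (hω : w • ω = ω) {x y : G}
    (hxt : x * t = t * x) (hx : x • ω = ω) (hyt : y * t = t * y) (hy : y • ω = ω) :
    x * y = y * x := by
  obtain ⟨g0, h1, h2, h3⟩ := exists_g0 S hω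
  obtain ⟨x1, hx1, -, -, rfl⟩ := stab_ω S h1 h2 h3 hxt hx
  obtain ⟨y1, hy1, -, -, rfl⟩ := stab_ω S h1 h2 h3 hyt hy
  calc g0 * x1 * g0⁻¹ * (g0 * y1 * g0⁻¹) = g0 * (x1 * y1) * g0⁻¹ := by group
    _ = g0 * (y1 * x1) * g0⁻¹ := by rw [H_comm S x1 hx1 y1 hy1]
    _ = _ := by group

/-- `SL₂(k)` acts semiregularly on the orbit of `ω`. -/
theorem hom_ω (M : SFrame p n q d inf zero U H t w T χ ν η c) [Finite k] {ω : Ω}
    (hω : w • ω = ω) {g : SpecialLinearGroup (Fin 2) k} (hg : M.rel.hom g • ω = ω) : g = 1 := by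
  have S := M.F.S
  have hd := det_eq g
  have hc := M.rel.c_ne
  have htω : t • ω ≠ ω := fun h => S.no_common ω h hω
  obtain ⟨g0, h1, h2, h3⟩ := exists_g0 S hω
  have hxt := hom_t M g
  -- `g` commutes with `w`
  have hcomm := stab_comm S hω hxt hg (w_t S) hω
  have hfix : wconj c M.rel.c_ne g = g := by
    apply hom_injective M
    rw [← w_hom M, ← hcomm]
    group
  have e11 : g.1 1 1 = g.1 0 0 := congrArg (fun z : SpecialLinearGroup (Fin 2) k => z.1 0 0) hfix
  have e01 : c * g.1 1 0 = g.1 0 1 := congrArg (fun z : SpecialLinearGroup (Fin 2) k => z.1 0 1) hfix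
  rw [e11, ← e01] at hd
  obtain ⟨x1, hx1, hx1K, hx1w, hx1g⟩ := stab_ω S h1 h2 h3 hxt hg
  -- square of `x1`
  have hsq : x1 * x1 = 1 → g = 1 := by
    intro hxx
    have h4 : M.rel.hom (g * g) = 1 := by
      rw [map_mul, hx1g]
      calc g0 * x1 * g0⁻¹ * (g0 * x1 * g0⁻¹) = g0 * (x1 * x1) * g0⁻¹ := by group
        _ = 1 := by rw [hxx]; group
    have h5 := hom_inj M h4
    have h6 : g.1 1 0 * g.1 0 0 + g.1 1 1 * g.1 1 0 = 0 := by
      rw [← mul_apply', h5]
      rfl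
    rw [e11] at h6
    have h7 : 2 * (g.1 1 0 * g.1 0 0) = 0 := by linear_combination h6
    have h8 : g.1 0 0 * g.1 0 0 + g.1 0 1 * g.1 1 0 = 1 := by
      rw [← mul_apply', h5]
      rfl
    rcases mul_eq_zero.mp ((mul_eq_zero.mp h7).resolve_left M.F.two_ne) with h9 | h9
    · -- `g = ± 1`
      have h01 : g.1 0 1 = 0 := by rw [← e01, h9, mul_zero]
      have hd' : g.1 0 0 * g.1 0 0 = 1 := by
        linear_combination hd + c * g.1 1 0 * h9
      rcases mul_self_eq_one_iff.mp hd' with h10 | h10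
      · exact ext' h10 h01 h9 (by rw [e11, h10]; rfl)
      · exfalso
        apply htω
        rw [hom_neg_one M h10 h01 h9] at hg
        exact hg
    · -- `g` has order four, so its square is `-1`
      exfalso
      rw [h9] at hd h8
      have h10 : (1 : k) + 1 = 0 := by
        linear_combination (-1 : k) * hd - h8 - g.1 1 0 * e01
      apply M.F.two_ne
      rw [← h10]
      norm_num
  by_contra hne
  have hxx : x1 * x1 ≠ 1 := fun h => hne (hsq h)
  -- an element inverting `g`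
  obtain ⟨u, v, huv⟩ : ∃ u v : k, -u ^ 2 + c * v ^ 2 = 1 := by
    have : Fintype k := Fintype.ofFinite k
    have h2k : ringChar k ≠ 2 := by
      intro h
      apply M.F.two_ne
      have := (ringChar.spec k 2).mpr (by rw [h])
      exact_mod_cast this
    obtain ⟨a, b, hab⟩ := FiniteField.exists_root_sum_quadratic
      (f := -(Polynomial.X : Polynomial k) ^ 2)
      (g := Polynomial.C c * Polynomial.X ^ 2 - 1) (by
        rw [Polynomial.degree_neg, Polynomial.degree_X_pow]; rfl) (by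
        rw [Polynomial.degree_sub_eq_left_of_degree_lt, Polynomial.degree_C_mul_X_pow 2 hc]
        · rfl
        · rw [Polynomial.degree_C_mul_X_pow 2 hc, Polynomial.degree_one]
          exact Nat.cast_pos.mpr two_pos) (by
        have := FiniteField.odd_card_of_char_ne_two h2k
        exact Nat.odd_iff.mp (Nat.odd_iff.mpr this))
    refine ⟨a, b, ?_⟩
    simp only [Polynomial.eval_neg, Polynomial.eval_pow, Polynomial.eval_X, Polynomial.eval_sub,
      Polynomial.eval_mul, Polynomial.eval_C, Polynomial.eval_one] at hab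
    linear_combination hab
  have hm : ∃ m : SpecialLinearGroup (Fin 2) k, m * g * m⁻¹ = g⁻¹ := by
    refine ⟨mk u (-(c * v)) v (-u) (by linear_combination huv), ?_⟩
    rw [mul_inv_eq_iff_eq_mul, eq_inv_mul_iff_mul_eq, ← mul_assoc]
    apply ext'
    · simp only [mul_apply', mk_00, mk_01, mk_10, mk_11]
      rw [← e01]
      linear_combination u * hd
    · simp only [mul_apply', mk_00, mk_01, mk_10, mk_11]
      rw [e11, ← e01]
      linear_combination (-(c * v)) * hd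
    · simp only [mul_apply', mk_00, mk_01, mk_10, mk_11]
      rw [e11]
      linear_combination v * hd
    · simp only [mul_apply', mk_00, mk_01, mk_10, mk_11]
      rw [e11, ← e01]
      linear_combination (-u) * hd
  obtain ⟨m, hm⟩ := hm
  have h4 : M.rel.hom m * M.rel.hom g * (M.rel.hom m)⁻¹ = (M.rel.hom g)⁻¹ := by
    rw [← map_mul, ← map_inv, ← map_mul, hm, map_inv]
  rw [hx1g] at h4
  -- `g' x1 g'⁻¹ = x1⁻¹`
  have h5 : (g0⁻¹ * M.rel.hom m * g0) * x1 = x1⁻¹ * (g0⁻¹ * M.rel.hom m * g0) := by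
    calc (g0⁻¹ * M.rel.hom m * g0) * x1
        = g0⁻¹ * (M.rel.hom m * (g0 * x1 * g0⁻¹) * (M.rel.hom m)⁻¹) * M.rel.hom m * g0 := by group
      _ = g0⁻¹ * (g0 * x1 * g0⁻¹)⁻¹ * M.rel.hom m * g0 := by rw [h4]
      _ = _ := by group
  have hfixP : ∀ P : Ω, x1 • P = P → x1 • (g0⁻¹ * M.rel.hom m * g0) • P =
      (g0⁻¹ * M.rel.hom m * g0) • P := by
    intro P hP
    have h6 : (g0⁻¹ * M.rel.hom m * g0) • P = x1⁻¹ • (g0⁻¹ * M.rel.hom m * g0) • P := by
      rw [← mul_smul x1⁻¹, ← h5, mul_smul _ x1, hP]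
    calc x1 • (g0⁻¹ * M.rel.hom m * g0) • P
        = x1 • x1⁻¹ • (g0⁻¹ * M.rel.hom m * g0) • P := by rw [← h6]
      _ = _ := smul_inv_smul _ _
  have hT1 : x1 • T 1 • zero = T 1 • zero := by
    rw [M.F.h_smul hx1, M.F.χ_of_pow hx1 hx1K, one_mul]
  have h6 := (r1 S).commute_of_third hx1 (c₀ := T 1 • zero) trivial (M.F.T_smul_ne 1) (by
    intro h
    have h7 : T 1 • zero = T 0 • zero := by rw [h, M.F.T_zero, one_smul]
    exact one_ne_zero (M.F.T_smul_inj h7)) hT1 (g := g0⁻¹ * M.rel.hom m * g0) trivial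
    (hfixP inf (H_inf S hx1)) (hfixP zero (H_zero S hx1))
  rw [h5] at h6
  have h7 := mul_right_cancel h6
  exact hxx (inv_eq_iff_mul_eq_one.mp h7)

end Cfsg.Agent.ONan.FrameGeom
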