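import Cfsg.Prelude.Def_Classical
import Cfsg.Agent.ONan.Coord
import Cfsg.Agent.LieClassical.SUBasic
import Cfsg.Agent.LieClassical.HermBasic
import Cfsg.Agent.S0280

/-!
# Identification of a group acting by the unitary formulas with `PSU₃(q)` (for S1148)

`G` acts faithfully on the points `inf`, `pt v y` and is generated by `U` and `w`, which act by the
formulas of the unitary group. We identify the points with the isotropic points of the Hermitian form
`(1/e) (x₀ y₁^q - x₁ y₀^q) - 2 x₂ y₂^q`, by `inf ↦ (1,0,0)`, `pt v y ↦ (y,1,v)`.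
-/

set_option autoImplicit false

namespace Cfsg.Agent.ONan.Identify

open Matrix Cfsg.Agent.ONan.Coord Cfsg.Agent.LieClassical

variable {F : Type*} [Field F]

/-- The change of coordinates from the standard Hermitian form to the one above. -/
def Tm (e i z : F) : Matrix (Fin 3) (Fin 3) F :=
  !![1, -(2 * e)⁻¹, 0; i, i * (2 * e)⁻¹, 0; 0, 0, z]

theorem det_Tm {e i z : F} (he : e ≠ 0) (h2 : (2 : F) ≠ 0) : (Tm e i z).det = z * i * e⁻¹ := by
  rw [Tm, Matrix.det_fin_three]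
  simp
  field_simp
  ring

/-- The Hermitian form in the new coordinates. -/
def fm (q : ℕ) (e : F) (u v : Fin 3 → F) : F :=
  e⁻¹ * (u 0 * v 1 ^ q - u 1 * v 0 ^ q) - 2 * (u 2 * v 2 ^ q)

theorem two_pow_q [Fintype F] {q : ℕ} (hF : Fintype.card F = q ^ 2) : (2 : F) ^ q = 2 := by
  have h := HermBasic.add_pow_q hF (1 : F) 1
  rw [one_pow] at h
  norm_num at h
  exact h

theorem Tm_mulVec (e i z : F) (u : Fin 3 → F) :
    Tm e i z *ᵥ u = ![u 0 - (2 * e)⁻¹ * u 1, i * u 0 + i * (2 * e)⁻¹ * u 1, z * u 2] := by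
  funext k
  fin_cases k
  · simp [Tm, Matrix.mulVec, dotProduct, Fin.sum_univ_three]
    ring
  · simp [Tm, Matrix.mulVec, dotProduct, Fin.sum_univ_three]
  · simp [Tm, Matrix.mulVec, dotProduct, Fin.sum_univ_three]

theorem herm_Tm [Fintype F] {q : ℕ} (hF : Fintype.card F = q ^ 2) {e i z : F} (he : e ^ q = -e)
    (he0 : e ≠ 0) (h2 : (2 : F) ≠ 0) (hi : i * i ^ q = -1) (hz : z * z ^ q = -2)
    (u v : Fin 3 → F) :
    Cfsg.hermForm 3 F q (Tm e i z *ᵥ u) (Tm e i z *ᵥ v) = fm q e u v := by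
  have h2q : (2 : F) ^ q = 2 := two_pow_q hF
  have hinv : ((2 * e)⁻¹ : F) ^ q = -(2 * e)⁻¹ := by
    rw [inv_pow, mul_pow, h2q, he]
    field_simp
  have hb : (2 * e)⁻¹ + (2 * e)⁻¹ = e⁻¹ := by field_simp; norm_num
  rw [Tm_mulVec, Tm_mulVec]
  simp only [SUBasic.hermForm_apply, fm, Fin.sum_univ_three]
  simp only [Matrix.cons_val_zero, Matrix.cons_val_one, Matrix.cons_val]
  generalize (2 * e)⁻¹ = b at hinv hb ⊢
  rw [HermBasic.sub_pow_q hF, HermBasic.add_pow_q hF]
  simp only [mul_pow, hinv]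
  rw [← hb]
  linear_combination (u 0 + b * u 1) * (v 0 ^ q - b * v 1 ^ q) * hi + u 2 * v 2 ^ q * hz

section Vec

variable {G Ω : Type*} [Group G] [MulAction G Ω] {q : ℕ} {e : F} {inf : Ω} {pt : F → F → Ω}
  {U : Subgroup G} {w : G}

open Classical in
/-- The isotropic vector representing a point. -/
noncomputable def vec (D : UnitaryAct q e inf pt U w) (P : Ω) : Fin 3 → F :=
  if h : P = inf then ![1, 0, 0]
  else ![(D.pt_surj P h).choose_spec.choose, 1, (D.pt_surj P h).choose]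

theorem vec_inf (D : UnitaryAct q e inf pt U w) : vec D inf = ![1, 0, 0] := by
  rw [vec, dif_pos rfl]

theorem vec_pt (D : UnitaryAct q e inf pt U w) {v y : F} (h : IsPt q e v y) :
    vec D (pt v y) = ![y, 1, v] := by
  rw [vec, dif_neg (D.pt_ne v y h)]
  have hs := (D.pt_surj (pt v y) (D.pt_ne v y h)).choose_spec.choose_spec
  obtain ⟨h1, h2⟩ := D.pt_inj _ _ _ _ hs.1 h hs.2
  funext k
  fin_cases k
  · exact h2
  · rfl
  · exact h1

theorem isPt_zero (hq : q ≠ 0) : IsPt q e 0 0 := by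
  simp [IsPt, hq]

theorem cases_pt (D : UnitaryAct q e inf pt U w) (P : Ω) :
    P = inf ∨ ∃ v y, IsPt q e v y ∧ P = pt v y := by
  by_cases h : P = inf
  · exact Or.inl h
  · obtain ⟨v, y, h1, h2⟩ := D.pt_surj P h
    exact Or.inr ⟨v, y, h1, h2.symm⟩

/-- Proportional representatives belong to the same point. -/
theorem eq_of_vec_smul (D : UnitaryAct q e inf pt U w) {P Q : Ω} {c : F}
    (h : vec D P = c • vec D Q) : P = Q := by
  rcases cases_pt D P with rfl | ⟨v, y, hP, rfl⟩ <;> rcases cases_pt D Q with rfl | ⟨v', y', hQ, rfl⟩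
  · rfl
  · rw [vec_inf, vec_pt D hQ] at h
    have h1 := congrFun h 1
    have h0 := congrFun h 0
    simp at h1 h0
    rw [← h1] at h0
    simp at h0
  · rw [vec_inf, vec_pt D hP] at h
    have h1 := congrFun h 1
    simp at h1
  · rw [vec_pt D hP, vec_pt D hQ] at h
    have h1 := congrFun h 1
    have h0 := congrFun h 0
    have h2 := congrFun h 2
    simp at h1 h0 h2
    rw [← h1] at h0 h2
    rw [h0, h2, one_mul, one_mul]

end Vec

/-- The determinant one matrix of an element of `U`. -/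
def uM (q : ℕ) (e a A : F) : Matrix (Fin 3) (Fin 3) F :=
  !![1, A, 2 * e * a ^ q; 0, 1, 0; 0, a, 1]

theorem det_uM (q : ℕ) (e a A : F) : (uM q e a A).det = 1 := by
  rw [uM, Matrix.det_fin_three]
  simp

theorem uM_mulVec (q : ℕ) (e a A : F) (x : Fin 3 → F) :
    uM q e a A *ᵥ x = ![x 0 + A * x 1 + 2 * e * a ^ q * x 2, x 1, a * x 1 + x 2] := by
  funext k
  fin_cases k <;> simp [uM, Matrix.mulVec, dotProduct, Fin.sum_univ_three]

theorem fm_uM [Fintype F] {q : ℕ} (hF : Fintype.card F = q ^ 2) {e a A : F} (he : e ^ q = -e)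
    (he0 : e ≠ 0) (h : IsPt q e a A) (u v : Fin 3 → F) :
    fm q e (uM q e a A *ᵥ u) (uM q e a A *ᵥ v) = fm q e u v := by
  rw [uM_mulVec, uM_mulVec]
  simp only [fm, Matrix.cons_val_zero, Matrix.cons_val_one, Matrix.cons_val]
  simp only [HermBasic.add_pow_q hF, mul_pow, HermBasic.pow_q_pow_q hF, he, two_pow_q hF]
  have h' : A = A ^ q + 2 * e * (a * a ^ q) := by
    have := h
    rw [IsPt, pow_succ'] at this
    linear_combination this
  have hA : A - A ^ q - 2 * e * (a * a ^ q) = 0 := by linear_combination h'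
  field_simp
  linear_combination (u 1 * v 1 ^ q) * hA

/-- The determinant one matrix of `w`. -/
def wM (e : F) : Matrix (Fin 3) (Fin 3) F :=
  !![0, -e, 0; -e⁻¹, 0, 0; 0, 0, -1]

theorem det_wM {e : F} (he0 : e ≠ 0) : (wM e).det = 1 := by
  rw [wM, Matrix.det_fin_three]
  simp [he0]

theorem wM_mulVec (e : F) (x : Fin 3 → F) :
    wM e *ᵥ x = ![-e * x 1, -e⁻¹ * x 0, - x 2] := by
  funext k
  fin_cases k <;> simp [wM, Matrix.mulVec, dotProduct, Fin.sum_univ_three]

theorem fm_wM [Fintype F] {q : ℕ} (hF : Fintype.card F = q ^ 2) {e : F} (he : e ^ q = -e)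
    (he0 : e ≠ 0) (u v : Fin 3 → F) :
    fm q e (wM e *ᵥ u) (wM e *ᵥ v) = fm q e u v := by
  rw [wM_mulVec, wM_mulVec]
  simp only [fm, Matrix.cons_val_zero, Matrix.cons_val_one, Matrix.cons_val]
  simp only [mul_pow, HermBasic.neg_pow_q hF, he, inv_pow]
  field_simp
  ring

/-! ### The abstract identification -/

/-- A group related to a central quotient. -/
theorem nonempty_mulEquiv_of_rel {S G : Type*} [Group S] [Group G] [Finite S] [Finite G]
    (N : Subgroup S) [N.Normal] (R : Subgroup (S × G)) (ha : ∀ g, ∃ s, (s, g) ∈ R)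
    (hb : ∀ s, (s, (1 : G)) ∈ R → s ∈ N) (hc : ∀ s g, (s, g) ∈ R → s ∈ N → g = 1)
    (hcard : Nat.card G = Nat.card (S ⧸ N)) : Nonempty (G ≃* S ⧸ N) := by
  classical
  choose f hf using ha
  let φ : G →* S ⧸ N := MonoidHom.mk' (fun g => (f g : S ⧸ N)) (by
    intro g h
    rw [← QuotientGroup.mk_mul, QuotientGroup.eq]
    apply hb
    have h1 := R.mul_mem (R.inv_mem (hf (g * h))) (R.mul_mem (hf g) (hf h))
    have h2 : (f (g * h), g * h)⁻¹ * ((f g, g) * (f h, h)) =
        ((f (g * h))⁻¹ * (f g * f h), (1 : G)) := by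
      ext <;> simp
    rwa [h2] at h1)
  have hinj : Function.Injective φ := by
    rw [injective_iff_map_eq_one]
    intro g hg
    exact hc (f g) g (hf g) ((QuotientGroup.eq_one_iff _).1 hg)
  have hbij : Function.Bijective φ := by
    have := Fintype.ofFinite G
    have := Fintype.ofFinite (S ⧸ N)
    rw [Fintype.bijective_iff_injective_and_card]
    refine ⟨hinj, ?_⟩
    rw [← Nat.card_eq_fintype_card, ← Nat.card_eq_fintype_card, hcard]
  exact ⟨MulEquiv.ofBijective φ hbij⟩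

/-- The matrix of an element of `SU`. -/
abbrev mat {F : Type*} [Field F] {q : ℕ} (s : Cfsg.SU 3 F q) : Matrix (Fin 3) (Fin 3) F :=
  ((s : Matrix.SpecialLinearGroup (Fin 3) F) : Matrix (Fin 3) (Fin 3) F)

theorem mat_mul {q : ℕ} (s s' : Cfsg.SU 3 F q) : mat (s * s') = mat s * mat s' := rfl

theorem mat_one {q : ℕ} : mat (1 : Cfsg.SU 3 F q) = 1 := rfl

theorem mat_inv_mul {q : ℕ} (s : Cfsg.SU 3 F q) : mat s⁻¹ * mat s = 1 := by
  rw [← mat_mul, inv_mul_cancel, mat_one]

section Rel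

variable {G Ω : Type*} [Group G] [MulAction G Ω] {q : ℕ} {e : F} {inf : Ω} {pt : F → F → Ω}
  {U : Subgroup G} {w : G}

/-- Pairs of elements acting compatibly on the points. -/
def relR (D : UnitaryAct q e inf pt U w) (T : Matrix (Fin 3) (Fin 3) F) :
    Subgroup (Cfsg.SU 3 F q × G) where
  carrier := {x | ∀ P, ∃ c : F, c ≠ 0 ∧
    mat x.1 *ᵥ (T *ᵥ vec D P) = c • (T *ᵥ vec D (x.2 • P))}
  one_mem' := by
    intro P
    refine ⟨1, one_ne_zero, ?_⟩
    rw [Prod.fst_one, Prod.snd_one, mat_one, Matrix.one_mulVec, one_smul, one_smul]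
  mul_mem' := by
    intro x y hx hy P
    obtain ⟨c, hc, h1⟩ := hy P
    obtain ⟨c', hc', h2⟩ := hx (y.2 • P)
    refine ⟨c * c', mul_ne_zero hc hc', ?_⟩
    rw [Prod.fst_mul, Prod.snd_mul, mat_mul, ← Matrix.mulVec_mulVec, h1, Matrix.mulVec_smul, h2,
      mul_smul c c', mul_smul x.2 y.2]
  inv_mem' := by
    intro x hx P
    obtain ⟨c, hc, h⟩ := hx (x.2⁻¹ • P)
    refine ⟨c⁻¹, inv_ne_zero hc, ?_⟩
    rw [smul_inv_smul] at h
    have h3 := congrArg (fun v => mat x.1⁻¹ *ᵥ v) h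
    simp only [Matrix.mulVec_mulVec, Matrix.mulVec_smul] at h3
    rw [← Matrix.mul_assoc, mat_inv_mul, Matrix.one_mul] at h3
    rw [Prod.fst_inv, Prod.snd_inv, Matrix.mulVec_mulVec, h3, smul_smul, inv_mul_cancel₀ hc,
      one_smul]

theorem mem_relR (D : UnitaryAct q e inf pt U w) (T : Matrix (Fin 3) (Fin 3) F)
    (s : Cfsg.SU 3 F q) (g : G) :
    (s, g) ∈ relR D T ↔ ∀ P, ∃ c : F, c ≠ 0 ∧
      mat s *ᵥ (T *ᵥ vec D P) = c • (T *ᵥ vec D (g • P)) := Iff.rfl

/-- Lifting matrices that preserve the form `fm`. -/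
theorem exists_lift [Fintype F] (hF : Fintype.card F = q ^ 2) (he : e ^ q = -e) (he0 : e ≠ 0)
    (h2 : (2 : F) ≠ 0) {i z : F} (hi : i * i ^ q = -1) (hz : z * z ^ q = -2)
    {T' : Matrix (Fin 3) (Fin 3) F} (hT : Tm e i z * T' = 1) {M : Matrix (Fin 3) (Fin 3) F}
    (hM : M.det = 1) (hfm : ∀ u v, fm q e (M *ᵥ u) (M *ᵥ v) = fm q e u v) :
    ∃ s : Cfsg.SU 3 F q, mat s * Tm e i z = Tm e i z * M := by
  have hT' : T' * Tm e i z = 1 := mul_eq_one_comm.1 hT
  have hd : (Tm e i z * M * T').det = 1 := by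
    rw [Matrix.det_mul, Matrix.det_mul, hM, mul_one, ← Matrix.det_mul, hT, Matrix.det_one]
  refine ⟨⟨⟨Tm e i z * M * T', hd⟩, (SUBasic.mem_SU_iff _).2 ?_⟩, ?_⟩
  · intro u v
    change Cfsg.hermForm 3 F q ((Tm e i z * M * T') *ᵥ u) ((Tm e i z * M * T') *ᵥ v) = _
    rw [← Matrix.mulVec_mulVec, ← Matrix.mulVec_mulVec, ← Matrix.mulVec_mulVec,
      ← Matrix.mulVec_mulVec, herm_Tm hF he he0 h2 hi hz, hfm, ← herm_Tm hF he he0 h2 hi hz,
      Matrix.mulVec_mulVec, Matrix.mulVec_mulVec, hT, Matrix.one_mulVec, Matrix.one_mulVec]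
  · change Tm e i z * M * T' * Tm e i z = _
    rw [Matrix.mul_assoc, hT', Matrix.mul_one]

theorem uM_vec (D : UnitaryAct q e inf pt U w) {u : G} {a A : F}
    (hui : u • inf = inf)
    (hu : ∀ v y, IsPt q e v y → u • pt v y = pt (a + v) (A + y + 2 * e * a ^ q * v))
    (hpt : ∀ v y, IsPt q e v y → IsPt q e (a + v) (A + y + 2 * e * a ^ q * v)) (P : Ω) :
    uM q e a A *ᵥ vec D P = vec D (u • P) := by
  rcases cases_pt D P with rfl | ⟨v, y, hP, rfl⟩
  · rw [hui, vec_inf, uM_mulVec]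
    funext k
    fin_cases k <;> simp
  · rw [hu v y hP, vec_pt D hP, vec_pt D (hpt v y hP), uM_mulVec]
    funext k
    fin_cases k
    · simp
      ring
    · simp
    · simp

theorem isPt_add [Fintype F] (hF : Fintype.card F = q ^ 2) (he : e ^ q = -e) {a A v y : F}
    (hA : IsPt q e a A) (hv : IsPt q e v y) :
    IsPt q e (a + v) (A + y + 2 * e * a ^ q * v) := by
  simp only [IsPt, pow_succ'] at hA hv ⊢
  simp only [HermBasic.add_pow_q hF, mul_pow, HermBasic.pow_q_pow_q hF, he, two_pow_q hF]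
  linear_combination hA + hv

theorem isPt_inv [Fintype F] (hF : Fintype.card F = q ^ 2) (he : e ^ q = -e) {v y : F}
    (hv : IsPt q e v y) (hy : y ≠ 0) : IsPt q e (e * v / y) (e ^ 2 / y) := by
  have hyq : y ^ q ≠ 0 := fun h => hy ((HermBasic.pow_q_eq_zero hF).1 h)
  simp only [IsPt, pow_succ'] at hv ⊢
  simp only [div_pow, mul_pow, he, pow_zero, mul_one]
  field_simp
  linear_combination (-e^2) * hv

theorem wM_vec [Fintype F] (hF : Fintype.card F = q ^ 2) (he0 : e ≠ 0) (h2 : (2 : F) ≠ 0)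
    (he : e ^ q = -e) (D : UnitaryAct q e inf pt U w) (P : Ω) :
    ∃ c : F, c ≠ 0 ∧ wM e *ᵥ vec D P = c • vec D (w • P) := by
  have hq0 : q ≠ 0 := (HermBasic.q_pos hF).ne'
  rcases cases_pt D P with rfl | ⟨v, y, hP, rfl⟩
  · refine ⟨-e⁻¹, neg_ne_zero.2 (inv_ne_zero he0), ?_⟩
    rw [D.w_inf, vec_inf, vec_pt D (isPt_zero hq0), wM_mulVec]
    funext k
    fin_cases k <;> simp
  · by_cases hy : y = 0
    · subst hy
      have hv : v = 0 := by
        have h := hP
        rw [IsPt, zero_pow hq0, sub_zero, eq_comm, mul_eq_zero, mul_eq_zero] at h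
        rcases h with (h | h) | h
        · exact absurd h h2
        · exact absurd h he0
        · exact (pow_eq_zero_iff (Nat.succ_ne_zero q)).1 h
      subst hv
      refine ⟨-e, neg_ne_zero.2 he0, ?_⟩
      rw [D.w_zero, vec_inf, vec_pt D (isPt_zero hq0), wM_mulVec]
      funext k
      fin_cases k <;> simp
    · refine ⟨-(y / e), neg_ne_zero.2 (div_ne_zero hy he0), ?_⟩
      rw [D.w_act v y hP hy, vec_pt D hP, vec_pt D (isPt_inv hF he hP hy), wM_mulVec]
      funext k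
      fin_cases k
      · simp
        field_simp
      · simp
        field_simp
      · simp
        field_simp

theorem isPt_e_one (he : e ^ q = -e) : IsPt q e 1 e := by
  rw [IsPt, he, one_pow]
  ring

theorem isPt_e_neg_one (hodd : Odd q) (he : e ^ q = -e) : IsPt q e (-1) e := by
  rw [IsPt, he, hodd.add_one.neg_one_pow]
  ring

/-- Elements of `SU` fixing all the points are scalar. -/
theorem scalar_of_fix (hq0 : q ≠ 0) (hodd : Odd q) (he : e ^ q = -e) (he0 : e ≠ 0)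
    (h2 : (2 : F) ≠ 0) (D : UnitaryAct q e inf pt U w) {M : Matrix (Fin 3) (Fin 3) F}
    (h : ∀ P, ∃ c : F, M *ᵥ vec D P = c • vec D P) : ∃ c : F, M = c • (1 : Matrix _ _ F) := by
  obtain ⟨c0, h0⟩ := h inf
  obtain ⟨c1, h1⟩ := h (pt 0 0)
  obtain ⟨c2, h2'⟩ := h (pt 1 e)
  obtain ⟨c3, h3⟩ := h (pt (-1) e)
  rw [vec_inf] at h0
  rw [vec_pt D (isPt_zero hq0)] at h1
  rw [vec_pt D (isPt_e_one he)] at h2'
  rw [vec_pt D (isPt_e_neg_one hodd he)] at h3
  have e00 := congrFun h0 0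
  have e01 := congrFun h0 1
  have e02 := congrFun h0 2
  have e10 := congrFun h1 0
  have e11 := congrFun h1 1
  have e12 := congrFun h1 2
  have e20 := congrFun h2' 0
  have e21 := congrFun h2' 1
  have e22 := congrFun h2' 2
  have e30 := congrFun h3 0
  have e31 := congrFun h3 1
  have e32 := congrFun h3 2
  simp [Matrix.mulVec, dotProduct, Fin.sum_univ_three] at e00 e01 e02 e10 e11 e12 e20 e21 e22 e30 e31 e32
  rw [e02, e12] at e22 e32
  rw [e01] at e21 e31
  rw [e10] at e20 e30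
  have hc : M 2 2 = c2 := by linear_combination e22
  have hc3 : c3 = c2 := by linear_combination hc + e32
  rw [hc3] at e31 e30
  have h12 : M 1 2 = 0 := by
    have : (2 : F) * M 1 2 = 0 := by linear_combination e21 - e31
    exact (mul_eq_zero.1 this).resolve_left h2
  have h11 : M 1 1 = c2 := by linear_combination e21 - h12
  have h02 : M 0 2 = 0 := by
    have : (2 : F) * M 0 2 = 0 := by linear_combination e20 - e30
    exact (mul_eq_zero.1 this).resolve_left h2
  have h00 : M 0 0 = c2 := by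
    have : (M 0 0 - c2) * e = 0 := by linear_combination e20 - h02
    exact sub_eq_zero.1 ((mul_eq_zero.1 this).resolve_right he0)
  refine ⟨c2, ?_⟩
  ext i j
  fin_cases i <;> fin_cases j <;> simp [e01, e02, e10, e12, hc, h12, h11, h02, h00]

/-- `G` is the projective special unitary group. -/
theorem nonempty_mulEquiv_of_act [Finite G] [FaithfulSMul G Ω] [Fintype F]
    (hF : Fintype.card F = q ^ 2) (hodd : Odd q) (he : e ^ q = -e) (he0 : e ≠ 0)
    (h2 : (2 : F) ≠ 0) (D : UnitaryAct q e inf pt U w)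
    (hgen : Subgroup.closure ((U : Set G) ∪ {w}) = ⊤)
    (hcard : Nat.card G = Nat.card (Cfsg.PSU 3 F q)) : Nonempty (G ≃* Cfsg.PSU 3 F q) := by
  have hq0 : q ≠ 0 := (HermBasic.q_pos hF).ne'
  have h2q : (2 : F) ^ q = 2 := two_pow_q hF
  obtain ⟨i, hi⟩ := HermBasic.exists_norm_eq hF (c := (-1 : F))
    (by rw [HermBasic.neg_pow_q hF, one_pow])
  obtain ⟨z, hz⟩ := HermBasic.exists_norm_eq hF (c := (-2 : F))
    (by rw [HermBasic.neg_pow_q hF, h2q])
  have hi0 : i ≠ 0 := by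
    rintro rfl
    rw [zero_mul] at hi
    exact one_ne_zero (neg_eq_zero.1 hi.symm)
  have hz0 : z ≠ 0 := by
    rintro rfl
    rw [zero_mul] at hz
    exact h2 (neg_eq_zero.1 hz.symm)
  have hdet : IsUnit (Tm e i z).det := by
    rw [det_Tm he0 h2]
    exact (mul_ne_zero (mul_ne_zero hz0 hi0) (inv_ne_zero he0)).isUnit
  have hT : Tm e i z * (Tm e i z)⁻¹ = 1 := Matrix.mul_nonsing_inv _ hdet
  have hT' : (Tm e i z)⁻¹ * Tm e i z = 1 := Matrix.nonsing_inv_mul _ hdet
  have hTinj : ∀ x y, Tm e i z *ᵥ x = Tm e i z *ᵥ y → x = y := by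
    intro x y h
    have h' := congrArg (fun v => (Tm e i z)⁻¹ *ᵥ v) h
    simpa only [Matrix.mulVec_mulVec, hT', Matrix.one_mulVec] using h'
  refine nonempty_mulEquiv_of_rel _ (relR D (Tm e i z)) ?_ ?_ ?_ hcard
  · -- surjectivity
    have hle : (⊤ : Subgroup G) ≤ (relR D (Tm e i z)).map (MonoidHom.snd _ _) := by
      rw [← hgen, Subgroup.closure_le]
      rintro g (hg | hg)
      · obtain ⟨a, A, hA, hu⟩ := D.U_act g hg
        obtain ⟨s, hs⟩ := exists_lift hF he he0 h2 hi hz hT (det_uM q e a A)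
          (fm_uM hF he he0 hA)
        refine ⟨(s, g), ?_, rfl⟩
        rw [SetLike.mem_coe, mem_relR]
        intro P
        refine ⟨1, one_ne_zero, ?_⟩
        rw [Matrix.mulVec_mulVec, hs, ← Matrix.mulVec_mulVec,
          uM_vec D (D.U_inf g hg) hu (fun v y h => isPt_add hF he hA h), one_smul]
      · rw [Set.mem_singleton_iff] at hg
        subst hg
        obtain ⟨s, hs⟩ := exists_lift hF he he0 h2 hi hz hT (det_wM he0) (fm_wM hF he he0)
        refine ⟨(s, g), ?_, rfl⟩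
        rw [SetLike.mem_coe, mem_relR]
        intro P
        obtain ⟨c, hc, h⟩ := wM_vec hF he0 h2 he D P
        refine ⟨c, hc, ?_⟩
        rw [Matrix.mulVec_mulVec, hs, ← Matrix.mulVec_mulVec, h, Matrix.mulVec_smul]
    intro g
    obtain ⟨⟨s, g'⟩, hs, hg⟩ := hle (Subgroup.mem_top g)
    change g' = g at hg
    subst hg
    exact ⟨s, hs⟩
  · -- elements fixing the points are central
    intro s hs
    rw [mem_relR] at hs
    obtain ⟨c, hc⟩ := scalar_of_fix (M := (Tm e i z)⁻¹ * mat s * Tm e i z) hq0 hodd he he0 h2 D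
      (fun P => by
        obtain ⟨c, -, h⟩ := hs P
        refine ⟨c, ?_⟩
        rw [one_smul, Matrix.mulVec_mulVec] at h
        rw [Matrix.mul_assoc, ← Matrix.mulVec_mulVec, h, Matrix.mulVec_smul,
          Matrix.mulVec_mulVec, hT', Matrix.one_mulVec])
    have hsc : mat s = c • (1 : Matrix (Fin 3) (Fin 3) F) := by
      have h1 : Tm e i z * ((Tm e i z)⁻¹ * mat s * Tm e i z) * (Tm e i z)⁻¹ = mat s := by
        rw [Matrix.mul_assoc, Matrix.mul_assoc, hT, Matrix.mul_one, ← Matrix.mul_assoc, hT,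
          Matrix.one_mul]
      rw [← h1, hc, Matrix.mul_smul, Matrix.mul_one, Matrix.smul_mul, hT]
    rw [Subgroup.mem_center_iff]
    intro B
    apply Subtype.ext
    apply Subtype.ext
    change mat B * mat s = mat s * mat B
    rw [hsc, Matrix.mul_smul, Matrix.mul_one, Matrix.smul_mul, Matrix.one_mul]
  · -- faithfulness
    intro s g hs hsZ
    rw [mem_relR] at hs
    obtain ⟨c, hcn, hcq, rfl⟩ := (SUBasic.mem_center_SU_iff hF le_rfl s).1 hsZ
    have hc0 : c ≠ 0 := by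
      rintro rfl
      rw [zero_pow three_ne_zero] at hcn
      exact zero_ne_one hcn
    refine FaithfulSMul.eq_of_smul_eq_smul (α := Ω) fun P => ?_
    rw [one_smul]
    obtain ⟨c', hc', h⟩ := hs P
    have hm : mat (SUBasic.suScalar q c hcn hcq) = c • (1 : Matrix (Fin 3) (Fin 3) F) := by
      rw [mat, SUBasic.coe_suScalar, Matrix.smul_one_eq_diagonal]
    rw [hm, Matrix.smul_mulVec, Matrix.one_mulVec, ← Matrix.mulVec_smul, ← Matrix.mulVec_smul] at h
    have h' := hTinj _ _ h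
    refine (eq_of_vec_smul D (c := c⁻¹ * c') ?_).symm
    rw [mul_smul, ← h', smul_smul, inv_mul_cancel₀ hc0, one_smul]

end Rel

theorem nonempty_mulEquiv_PSU {G Ω F : Type*} [Group G] [Finite G] [MulAction G Ω]
    [FaithfulSMul G Ω] [Field F] [Fintype F] {p n q : ℕ} (hp : p.Prime) (hp2 : p ≠ 2) (hn : 1 ≤ n)
    (hq : q = p ^ n) (hF : Fintype.card F = q ^ 2) {e : F} (he : e ^ q = -e) (he0 : e ≠ 0)
    {inf : Ω} {pt : F → F → Ω} {U : Subgroup G} {w : G}
    (D : UnitaryAct q e inf pt U w) (hgen : Subgroup.closure ((U : Set G) ∪ {w}) = ⊤)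
    (hG : Nat.gcd 3 (q + 1) * Nat.card G = q ^ 3 * (q ^ 3 + 1) * (q ^ 2 - 1)) :
    Nonempty (G ≃* Cfsg.PSU 3 F q) := by
  have hodd : Odd q := by
    rw [hq]
    exact (hp.odd_of_ne_two hp2).pow
  have h2 : (2 : F) ≠ 0 := by
    intro h
    obtain ⟨r, k, hr, hchar, hk, hk0⟩ := HermBasic.exists_prime_pow hF
    have h3 : r ∣ 2 := (CharP.cast_eq_zero_iff F r 2).1 (by exact_mod_cast h)
    have h4 : r = 2 := (Nat.prime_dvd_prime_iff_eq hr Nat.prime_two).1 h3
    rw [hk, h4] at hodd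
    exact (Nat.not_odd_iff_even.2 ((even_two).pow_of_ne_zero hk0.ne')) hodd
  refine nonempty_mulEquiv_of_act hF hodd he he0 h2 D hgen ?_
  have h := Cfsg.Agent.S0280.result hF 3 (by norm_num)
  have hprod : (∏ i ∈ Finset.range 3, (if Even i then q ^ (i + 1) + 1 else q ^ (i + 1) - 1)) =
      (q + 1) * (q ^ 2 - 1) * (q ^ 3 + 1) := by
    rw [Finset.prod_range_succ, Finset.prod_range_succ, Finset.prod_range_succ,
      Finset.prod_range_zero]
    norm_num
  rw [hprod] at h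
  norm_num at h
  have hg0 : 0 < Nat.gcd 3 (q + 1) := Nat.gcd_pos_of_pos_left _ (by norm_num)
  have h5 : Nat.gcd 3 (q + 1) * (q + 1) * Nat.card G =
      Nat.gcd 3 (q + 1) * (q + 1) * Nat.card (Cfsg.PSU 3 F q) := by
    have h6 : Nat.gcd 3 (q + 1) * (q + 1) * Nat.card G =
        (q + 1) * (Nat.gcd 3 (q + 1) * Nat.card G) := by ring
    rw [h6, hG]
    have h7 : Nat.gcd 3 (q + 1) * (q + 1) * Nat.card (Cfsg.PSU 3 F q) =
      Nat.gcd 3 (q + 1) * ((q + 1) * Nat.card (Cfsg.PSU 3 F q)) := by ring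
    rw [h7, h]
    ring
  exact Nat.eq_of_mul_eq_mul_left (Nat.mul_pos hg0 (Nat.succ_pos q)) h5

end Cfsg.Agent.ONan.Identify
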