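import Mathlib
import Cfsg.Agent.ONan.Coord
import Cfsg.Agent.ONan.Stage
import Cfsg.Agent.ONan.FrameGeom
import Cfsg.Agent.ONan.PairCoord

/-!
# From `StageData` to `CoordData`
-/

set_option autoImplicit false

namespace Cfsg.Agent.ONan.MakeCoord

open Cfsg.Agent.ONan.Stage Cfsg.Agent.ONan.RankOne Cfsg.Agent.ONan.SL2Hom Cfsg.Agent.ONan.Frame
open Cfsg.Agent.ONan.FrameGeom Cfsg.Agent.ONan.PairCoord Cfsg.Agent.ONan.Coord
open Matrix (SpecialLinearGroup)

section isPt

variable {k F : Type*} [Field k] [Field F] {q : ℕ} {ι : k →+* F} {e : F} {c : k}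

theorem isPt_zero (E : Emb q ι e c) (a : k) : IsPt q e 0 (ι a) := by
  show ι a - ι a ^ q = 2 * e * 0 ^ (q + 1)
  rw [E.frobι, sub_self, zero_pow (Nat.succ_ne_zero q), mul_zero]

theorem isPt_vec (E : Emb q ι e c) (m : SpecialLinearGroup (Fin 2) k) :
    IsPt q e (1 / be ι e m) (al ι e m / be ι e m) := by
  have h1 := E.form m
  have h2 := E.be_ne m
  have h3 : be ι e m ^ q ≠ 0 := pow_ne_zero q h2
  show al ι e m / be ι e m - (al ι e m / be ι e m) ^ q = 2 * e * (1 / be ι e m) ^ (q + 1)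
  rw [div_pow, one_div, inv_pow, pow_succ, ← h1]
  field_simp

theorem isPt_cases (E : Emb q ι e c) {v y : F} (h : IsPt q e v y) :
    (v = 0 ∧ ∃ a, y = ι a) ∨ ∃ m, v = 1 / be ι e m ∧ y = al ι e m / be ι e m := by
  have h : y - y ^ q = 2 * e * v ^ (q + 1) := h
  by_cases hv : v = 0
  · left
    refine ⟨hv, ?_⟩
    rw [hv, zero_pow (Nat.succ_ne_zero q), mul_zero] at h
    obtain ⟨a, ha⟩ := E.fix y (sub_eq_zero.mp h).symm
    exact ⟨a, ha.symm⟩
  · right
    have hvq : v ^ q ≠ 0 := pow_ne_zero q hv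
    have h1 : (y / v) * (1 / v) ^ q - (y / v) ^ q * (1 / v) = 2 * e := by
      rw [pow_succ] at h
      rw [div_pow, div_pow, one_pow]
      field_simp
      linear_combination h
    obtain ⟨m, hm1, hm2⟩ := E.surj h1
    refine ⟨m, ?_, ?_⟩
    · rw [hm2, one_div_one_div]
    · rw [hm1, hm2]
      field_simp

theorem vec_eq (E : Emb q ι e c) {m m' : SpecialLinearGroup (Fin 2) k}
    (h1 : 1 / be ι e m = 1 / be ι e m') (h2 : al ι e m / be ι e m = al ι e m' / be ι e m') :
    m = m' := by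
  have hb := E.be_ne m
  have hb' := E.be_ne m'
  have h3 : be ι e m = be ι e m' := by
    rw [one_div, one_div] at h1
    exact inv_injective h1
  rw [h3] at h2
  exact E.inj ((div_left_inj' hb').mp h2) h3

end isPt

section pt

variable {G Ω k F : Type*} [Group G] [MulAction G Ω] [Field k] [Field F]

open Classical in
/-- the points -/
noncomputable def pt (hom : SpecialLinearGroup (Fin 2) k →* G) (ι : k →+* F) (e : F) (T : k → G)
    (zero ω : Ω) (v y : F) : Ω :=
  if v = 0 then (if h : ∃ a, ι a = y then T h.choose • zero else zero)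
  else if h : ∃ m, v = 1 / be ι e m ∧ y = al ι e m / be ι e m then hom h.choose • ω else zero

variable {hom : SpecialLinearGroup (Fin 2) k →* G} {ι : k →+* F} {e : F} {T : k → G}
    {zero ω : Ω} {q : ℕ} {c : k}

theorem pt_zero (a : k) : pt hom ι e T zero ω 0 (ι a) = T a • zero := by
  have h : ∃ b, ι b = ι a := ⟨a, rfl⟩
  have h1 : pt hom ι e T zero ω 0 (ι a) = T h.choose • zero := by
    unfold pt
    rw [if_pos rfl, dif_pos h]
  rw [h1]
  congr 2
  exact ι.injective h.choose_spec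

theorem pt_vec (E : Emb q ι e c) (m : SpecialLinearGroup (Fin 2) k) :
    pt hom ι e T zero ω (1 / be ι e m) (al ι e m / be ι e m) = hom m • ω := by
  have h : ∃ m', 1 / be ι e m = 1 / be ι e m' ∧
      al ι e m / be ι e m = al ι e m' / be ι e m' := ⟨m, rfl, rfl⟩
  have h1 : pt hom ι e T zero ω (1 / be ι e m) (al ι e m / be ι e m) = hom h.choose • ω := by
    unfold pt
    rw [if_neg (one_div_ne_zero (E.be_ne m)), dif_pos h]
  rw [h1]
  congr 2
  exact (vec_eq E h.choose_spec.1 h.choose_spec.2).symm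

end pt

section main

variable {G Ω k F : Type*} [Group G] [MulAction G Ω] [Field k] [Field F] {p n q d : ℕ}
  {inf zero ω : Ω} {U H : Subgroup G} {t w : G} {T : k → G} {χ : G → k} {ν : k → G} {η : G} {c : k}
  {ι : k →+* F} {e : F}

theorem ω_move (M : SFrame p n q d inf zero U H t w T χ ν η c) (hω : w • ω = ω)
    (m : SpecialLinearGroup (Fin 2) k) : t • M.rel.hom m • ω ≠ M.rel.hom m • ω := by
  intro h
  rw [← mul_smul, ← hom_t M, mul_smul] at h
  exact M.F.S.no_common ω (smul_left_cancel _ h) hω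

theorem hom_ω_inj [Finite k] (M : SFrame p n q d inf zero U H t w T χ ν η c) (hω : w • ω = ω)
    {m m' : SpecialLinearGroup (Fin 2) k} (h : M.rel.hom m • ω = M.rel.hom m' • ω) : m = m' := by
  have h1 : M.rel.hom (m'⁻¹ * m) • ω = ω := by
    rw [map_mul, map_inv, mul_smul, h, inv_smul_smul]
  exact (inv_mul_eq_one.mp (hom_ω M hω h1)).symm

theorem hom_ω_ne_inf (M : SFrame p n q d inf zero U H t w T χ ν η c) (hω : w • ω = ω)
    (m : SpecialLinearGroup (Fin 2) k) : M.rel.hom m • ω ≠ inf := by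
  intro h
  apply ω_move M hω m
  rw [h, H_inf M.F.S M.F.S.t_mem]

/-- the points -/
noncomputable abbrev P (M : SFrame p n q d inf zero U H t w T χ ν η c) (ι : k →+* F) (e : F)
    (ω : Ω) : F → F → Ω := pt M.rel.hom ι e T zero ω

theorem P_ne (M : SFrame p n q d inf zero U H t w T χ ν η c) (E : Emb q ι e c) (hω : w • ω = ω)
    (v y : F) (h : IsPt q e v y) : P M ι e ω v y ≠ inf := by
  rcases isPt_cases E h with ⟨rfl, a, rfl⟩ | ⟨m, rfl, rfl⟩
  · rw [P, pt_zero]
    exact M.F.T_smul_ne a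
  · rw [P, pt_vec E]
    exact hom_ω_ne_inf M hω m

theorem P_inj [Finite k] (M : SFrame p n q d inf zero U H t w T χ ν η c) (E : Emb q ι e c)
    (hω : w • ω = ω) (v y v' y' : F) (h : IsPt q e v y) (h' : IsPt q e v' y')
    (hP : P M ι e ω v y = P M ι e ω v' y') : v = v' ∧ y = y' := by
  rcases isPt_cases E h with ⟨rfl, a, rfl⟩ | ⟨m, rfl, rfl⟩ <;>
    rcases isPt_cases E h' with ⟨rfl, a', rfl⟩ | ⟨m', rfl, rfl⟩
  · rw [P, pt_zero, pt_zero] at hP
    exact ⟨rfl, by rw [M.F.T_smul_inj hP]⟩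
  · rw [P, pt_zero, pt_vec E] at hP
    exact absurd (by rw [← hP, M.F.t_T]) (ω_move M hω m')
  · rw [P, pt_zero, pt_vec E] at hP
    exact absurd (by rw [hP, M.F.t_T]) (ω_move M hω m)
  · rw [P, pt_vec E, pt_vec E] at hP
    rw [hom_ω_inj M hω hP]
    exact ⟨rfl, rfl⟩

theorem P_surj [Finite G] [Finite k] [Finite F] (M : SFrame p n q d inf zero U H t w T χ ν η c)
    (E : Emb q ι e c) (hω : w • ω = ω) (hF : Nat.card F = q ^ 2) (hk : Nat.card k = q)
    (X : Ω) (hX : X ≠ inf) : ∃ v y, IsPt q e v y ∧ P M ι e ω v y = X := by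
  have S := M.F.S
  have hpt : ∀ (v : F) (s : k), IsPt q e v (e * v ^ (q + 1) + ι s) := by
    intro v s
    show e * v ^ (q + 1) + ι s - (e * v ^ (q + 1) + ι s) ^ q = 2 * e * v ^ (q + 1)
    rw [E.frob_add, mul_pow, E.norm_mem, E.e_q, E.frobι]
    ring
  let f : F × k → {X : Ω // X ≠ inf} := fun z =>
    ⟨P M ι e ω z.1 (e * z.1 ^ (q + 1) + ι z.2), P_ne M E hω _ _ (hpt _ _)⟩
  have hf : Function.Injective f := by
    rintro ⟨v, s⟩ ⟨v', s'⟩ h
    obtain ⟨h1, h2⟩ := P_inj M E hω _ _ _ _ (hpt v s) (hpt v' s') (congrArg Subtype.val h)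
    subst h1
    have h3 : s = s' := ι.injective (add_left_cancel h2)
    rw [h3]
  let φ : U → {X : Ω // X ≠ inf} := fun u => ⟨(u : G) • zero, (r1 S).smul_ne u.2 S.ne.symm⟩
  have hφ : Function.Bijective φ := by
    constructor
    · rintro ⟨u, hu⟩ ⟨v, hv⟩ h
      have h1 : u • zero = v • zero := congrArg Subtype.val h
      have h2 : (v⁻¹ * u) • zero = zero := by rw [mul_smul, h1, inv_smul_smul]
      have h3 := S.U_free zero S.ne.symm _ (U.mul_mem (U.inv_mem hv) hu) h2
      exact Subtype.ext (inv_mul_eq_one.mp h3).symm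
    · rintro ⟨X, hX⟩
      obtain ⟨u, hu, h⟩ := S.U_trans zero X S.ne.symm hX
      exact ⟨⟨u, hu⟩, Subtype.ext h⟩
  have hfin : Finite {X : Ω // X ≠ inf} := Finite.of_surjective φ hφ.2
  have hcard : Nat.card (F × k) = Nat.card {X : Ω // X ≠ inf} := by
    rw [← Nat.card_eq_of_bijective φ hφ, S.U_card, Nat.card_prod, hF, hk]
    ring
  have hbij := (Nat.bijective_iff_injective_and_card f).mpr ⟨hf, hcard⟩
  obtain ⟨⟨v, s⟩, h⟩ := hbij.2 ⟨X, hX⟩
  exact ⟨v, _, hpt v s, congrArg Subtype.val h⟩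

/-- every point moved by `t` is the image of `ω` under an element of `SL₂(k)` -/
theorem exists_hom_ω [Finite G] [Finite k] [Finite F]
    (M : SFrame p n q d inf zero U H t w T χ ν η c)
    (E : Emb q ι e c) (hω : w • ω = ω) (hF : Nat.card F = q ^ 2) (hk : Nat.card k = q)
    (X : Ω) (hX : t • X ≠ X) : ∃ m, M.rel.hom m • ω = X := by
  have hX' : X ≠ inf := by
    rintro rfl
    exact hX (H_inf M.F.S M.F.S.t_mem)
  obtain ⟨v, y, h, rfl⟩ := P_surj M E hω hF hk X hX'
  rcases isPt_cases E h with ⟨rfl, a, rfl⟩ | ⟨m, rfl, rfl⟩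
  · exfalso
    apply hX
    rw [P, pt_zero, M.F.t_T]
  · exact ⟨m, by rw [P, pt_vec E]⟩

/-- `h` acts on the vectors as `l * diag(χ h, 1)` -/
def Good (M : SFrame p n q d inf zero U H t w T χ ν η c) (ι : k →+* F) (e : F) (ω : Ω) (h : G)
    (l : F) : Prop :=
  ∃ m, h • ω = M.rel.hom m • ω ∧ al ι e m = l * ι (χ h) * e ∧ be ι e m = l

theorem Good.act {M : SFrame p n q d inf zero U H t w T χ ν η c} {h : G} {l : F} (hh : h ∈ H)
    (hg : Good M ι e ω h l) (m : SpecialLinearGroup (Fin 2) k) :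
    ∃ m', h • M.rel.hom m • ω = M.rel.hom m' • ω ∧ al ι e m' = l * ι (χ h) * al ι e m ∧
      be ι e m' = l * be ι e m := by
  obtain ⟨m0, h1, h2, h3⟩ := hg
  have hχ := M.F.χ_ne h hh
  refine ⟨dconj (χ h) hχ m * m0, ?_, ?_, ?_⟩
  · rw [map_mul, ← h_hom M hh, mul_smul, ← h1, mul_smul, mul_smul, inv_smul_smul]
  · rw [al_mul, h2, h3]
    show ι (m.1 0 0) * (l * ι (χ h) * e) + ι (χ h * m.1 0 1) * l =
      l * ι (χ h) * (ι (m.1 0 0) * e + ι (m.1 0 1))
    rw [map_mul]
    ring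
  · rw [be_mul, h2, h3]
    show ι ((χ h)⁻¹ * m.1 1 0) * (l * ι (χ h) * e) + ι (m.1 1 1) * l =
      l * (ι (m.1 1 0) * e + ι (m.1 1 1))
    have h4 : ι (χ h) ≠ 0 := (map_ne_zero ι).mpr hχ
    rw [map_mul, map_inv₀]
    field_simp

theorem Good.mul {M : SFrame p n q d inf zero U H t w T χ ν η c} {h h' : G} {l l' : F}
    (hh : h ∈ H) (hh' : h' ∈ H) (hg : Good M ι e ω h l) (hg' : Good M ι e ω h' l') :
    Good M ι e ω (h * h') (l * l') := by
  obtain ⟨m0, h1, h2, h3⟩ := hg'
  obtain ⟨m, h4, h5, h6⟩ := hg.act hh m0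
  refine ⟨m, ?_, ?_, ?_⟩
  · rw [mul_smul, h1, h4]
  · rw [h5, h2, M.F.χ_mul h hh h' hh', map_mul]
    ring
  · rw [h6, h3]

theorem Good.unique [Finite k] {M : SFrame p n q d inf zero U H t w T χ ν η c}
    (hω : w • ω = ω) {h : G} {l l' : F} (hg : Good M ι e ω h l) (hg' : Good M ι e ω h l') :
    l = l' := by
  obtain ⟨m, h1, -, h3⟩ := hg
  obtain ⟨m', h1', -, h3'⟩ := hg'
  rw [h1] at h1'
  rw [← h3, ← h3', hom_ω_inj M hω h1']

theorem Good.norm {M : SFrame p n q d inf zero U H t w T χ ν η c} (E : Emb q ι e c) {h : G}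
    {l : F} (hg : Good M ι e ω h l) : l ^ (q + 1) * ι (χ h) = 1 := by
  obtain ⟨m, -, h2, h3⟩ := hg
  have h4 := E.form m
  rw [h2, h3, mul_pow, mul_pow, E.frobι, E.e_q] at h4
  have h5 : (2 * e) * (l ^ (q + 1) * ι (χ h) - 1) = 0 := by
    rw [pow_succ]
    linear_combination h4
  exact sub_eq_zero.mp ((mul_eq_zero.mp h5).resolve_left (mul_ne_zero E.two_ne' E.e_ne))

/-- the elements of the kernel of `χ` are good -/
theorem good_K [Finite G] [Finite k] [Finite F] (M : SFrame p n q d inf zero U H t w T χ ν η c)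
    (E : Emb q ι e c) (hω : w • ω = ω) (hF : Nat.card F = q ^ 2) (hk : Nat.card k = q) {h : G}
    (hh : h ∈ H) (h1 : h ^ (q + 1) = 1) :
    ∃ m : SpecialLinearGroup (Fin 2) k, m.1 1 1 = m.1 0 0 ∧ m.1 0 1 = c * m.1 1 0 ∧
      h • ω = M.rel.hom m • ω := by
  have S := M.F.S
  have hht := h_t S hh
  have hX : t • h • ω ≠ h • ω := by
    intro h2
    rw [← mul_smul, ← hht, mul_smul] at h2
    exact S.no_common ω (smul_left_cancel _ h2) hω
  obtain ⟨m, hm⟩ := exists_hom_ω M E hω hF hk _ hX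
  -- `h⁻¹ m` fixes `ω`, so commutes with `w`
  have h3 : (h⁻¹ * M.rel.hom m) • ω = ω := by rw [mul_smul, hm, inv_smul_smul]
  have h4 : (h⁻¹ * M.rel.hom m) * t = t * (h⁻¹ * M.rel.hom m) := by
    have h5 : Commute h⁻¹ t := h_t S (H.inv_mem hh)
    have h6 : Commute (M.rel.hom m) t := hom_t M m
    exact h5.mul_left h6
  have h5 := stab_comm S hω h4 h3 (w_t S) hω
  have h6 : Commute h w := by
    show h * w = w * h
    rw [w_h S hh]
    have h7 : h = (h ^ q)⁻¹ := by
      apply eq_inv_of_mul_eq_one_left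
      rw [← pow_succ']
      exact h1
    rw [← h7]
  have h7 : M.rel.hom m * w = w * M.rel.hom m := by
    have h8 : Commute (h * (h⁻¹ * M.rel.hom m)) w := h6.mul_left h5
    rwa [mul_inv_cancel_left] at h8
  have h8 : wconj c M.rel.c_ne m = m := by
    apply hom_injective M
    rw [← w_hom M, ← h7]
    group
  exact ⟨m, congrArg (fun z : SpecialLinearGroup (Fin 2) k => z.1 0 0) h8,
    (congrArg (fun z : SpecialLinearGroup (Fin 2) k => z.1 0 1) h8).symm, hm.symm⟩

theorem good_of_K [Finite G] [Finite k] [Finite F]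
    (M : SFrame p n q d inf zero U H t w T χ ν η c)
    (E : Emb q ι e c) (hω : w • ω = ω) (hF : Nat.card F = q ^ 2) (hk : Nat.card k = q) {h : G}
    (hh : h ∈ H) (h1 : h ^ (q + 1) = 1) : ∃ l, Good M ι e ω h l := by
  obtain ⟨m, h2, h3, h4⟩ := good_K M E hω hF hk hh h1
  refine ⟨be ι e m, m, h4, ?_, rfl⟩
  rw [M.F.χ_of_pow hh h1, map_one, mul_one]
  unfold al be
  rw [h2, h3, map_mul, ← E.e_sq]
  ring

theorem good_ν (M : SFrame p n q d inf zero U H t w T χ ν η c) {r : k} (hr : r ≠ 0) :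
    Good M ι e ω (ν r) (ι r⁻¹) := by
  refine ⟨nM r hr, by rw [M.rel.hom_nM], ?_, ?_⟩
  · rw [χ_ν M hr]
    show ι r * e + ι 0 = ι r⁻¹ * ι (r ^ 2) * e
    rw [← map_mul, map_zero, add_zero]
    congr 2
    field_simp
  · show ι 0 * e + ι r⁻¹ = ι r⁻¹
    rw [map_zero, zero_mul, zero_add]

theorem good_η (M : SFrame p n q d inf zero U H t w T χ ν η c) (E : Emb q ι e c)
    (hω : w • ω = ω) : Good M ι e ω η e⁻¹ := by
  have he := E.e_ne
  have hc := M.rel.c_ne
  refine ⟨mM c M.rel.c_ne, by rw [M.rel.hom_mM, mul_smul, hω], ?_, ?_⟩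
  · rw [M.χ_η]
    show ι 0 * e + ι (-c) = e⁻¹ * ι (-c) * e
    rw [map_zero, zero_mul, zero_add]
    field_simp
  · show ι c⁻¹ * e + ι 0 = e⁻¹
    rw [map_zero, add_zero, map_inv₀, ← E.e_sq]
    field_simp

/-- `c` is not a square in `k` -/
theorem c_nonsq (M : SFrame p n q d inf zero U H t w T χ ν η c) (s : k) : s ^ 2 ≠ c := by
  intro h
  have hs : s ≠ 0 := by
    rintro rfl
    exact M.rel.c_ne (by rw [← h]; ring)
  apply M.F.S.no_common (T s • zero) (M.F.t_T s)
  rw [M.w_T s hs, ← h]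
  congr 2
  field_simp

/-- in a finite field of odd order the quotient of two non-squares is a square -/
theorem sq_or [Finite k] (h2 : (2 : k) ≠ 0) {a b : k} (ha : a ≠ 0) (hb : b ≠ 0)
    (hna : ¬ IsSquare a) (hnb : ¬ IsSquare b) : ∃ r, r ≠ 0 ∧ a = b * r ^ 2 := by
  have : Fintype k := Fintype.ofFinite k
  have h2k : ringChar k ≠ 2 := by
    intro h
    apply h2
    have := (ringChar.spec k 2).mpr (by rw [h])
    exact_mod_cast this
  have h3 : IsSquare (a / b) := by
    have hab : a / b ≠ 0 := div_ne_zero ha hb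
    rw [FiniteField.isSquare_iff h2k hab, div_pow]
    have h4 := (FiniteField.pow_dichotomy h2k ha).resolve_left
      (fun h => hna ((FiniteField.isSquare_iff h2k ha).mpr h))
    have h5 := (FiniteField.pow_dichotomy h2k hb).resolve_left
      (fun h => hnb ((FiniteField.isSquare_iff h2k hb).mpr h))
    rw [h4, h5, div_self (neg_ne_zero.mpr one_ne_zero)]
  obtain ⟨r, hr⟩ := h3
  have hr' : a = b * r ^ 2 := by
    rw [pow_two, ← hr]
    field_simp
  refine ⟨r, ?_, hr'⟩
  rintro rfl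
  apply ha
  rw [hr']
  ring

theorem good_all [Finite G] [Finite k] [Finite F]
    (M : SFrame p n q d inf zero U H t w T χ ν η c)
    (E : Emb q ι e c) (hω : w • ω = ω) (hF : Nat.card F = q ^ 2) (hk : Nat.card k = q) {h : G}
    (hh : h ∈ H) : ∃ l, Good M ι e ω h l := by
  have S := M.F.S
  have hc := M.rel.c_ne
  have hχ := M.F.χ_ne h hh
  have hcsq : ¬ IsSquare c := by
    rintro ⟨s, hs⟩
    exact c_nonsq M s (by rw [hs, pow_two])
  by_cases hm1 : IsSquare (-1 : k)
  · -- `q ≡ 1 (mod 4)`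
    have hnc : ¬ IsSquare (-c) := by
      intro h1
      apply hcsq
      have h2 := hm1.mul h1
      rwa [neg_mul_neg, one_mul] at h2
    by_cases hs : IsSquare (χ h)
    · obtain ⟨r, hr⟩ := hs
      have hr0 : r ≠ 0 := by
        rintro rfl
        exact hχ (by rw [hr, mul_zero])
      have hνH := ν_mem M hr0
      have hk' : (ν r)⁻¹ * h ∈ H := H.mul_mem (H.inv_mem hνH) hh
      have hχ' : χ ((ν r)⁻¹ * h) = 1 := by
        rw [M.F.χ_mul _ (H.inv_mem hνH) _ hh, M.F.χ_inv hνH, χ_ν M hr0, hr]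
        field_simp
      obtain ⟨l, hl⟩ := good_of_K M E hω hF hk hk' (M.F.pow_of_χ hk' hχ')
      have h1 := (good_ν (ι := ι) (e := e) (ω := ω) M hr0).mul hνH hk' hl
      rw [mul_inv_cancel_left] at h1
      exact ⟨_, h1⟩
    · obtain ⟨r, hr0, hr⟩ := sq_or M.F.two_ne hχ (neg_ne_zero.mpr hc) hs hnc
      have hνH := ν_mem M hr0
      have hη := M.η_mem
      have hx : η * ν r ∈ H := H.mul_mem hη hνH
      have hk' : (η * ν r)⁻¹ * h ∈ H := H.mul_mem (H.inv_mem hx) hh
      have hχ' : χ ((η * ν r)⁻¹ * h) = 1 := by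
        rw [M.F.χ_mul _ (H.inv_mem hx) _ hh, M.F.χ_inv hx, M.F.χ_mul _ hη _ hνH, χ_ν M hr0,
          M.χ_η, hr]
        have : -c ≠ 0 := neg_ne_zero.mpr hc
        field_simp
      obtain ⟨l, hl⟩ := good_of_K M E hω hF hk hk' (M.F.pow_of_χ hk' hχ')
      have h1 := (good_η M E hω).mul hη hνH (good_ν (ι := ι) (e := e) (ω := ω) M hr0)
      have h2 := h1.mul hx hk' hl
      rw [mul_inv_cancel_left] at h2
      exact ⟨_, h2⟩
  · -- `q ≡ 3 (mod 4)`
    have hq3 := q_ge S
    have hodd := q_odd S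
    obtain ⟨j, hj⟩ := hodd
    have hjodd : Odd j := by
      by_contra hj2
      rw [Nat.not_odd_iff_even] at hj2
      obtain ⟨i, hi⟩ := hj2
      apply hm1
      have : Fintype k := Fintype.ofFinite k
      rw [FiniteField.isSquare_neg_one_iff, ← Nat.card_eq_fintype_card, hk, hj, hi]
      omega
    -- the element `κ = η ^ j` has square `t`
    have hκH : η ^ j ∈ H := H.pow_mem M.η_mem j
    have hκ2 : η ^ j * η ^ j = t := by
      rw [← pow_add, ← M.η_pow]
      congr 1
      omega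
    have hκK : (η ^ j) ^ (q + 1) = 1 := by
      obtain ⟨i, hi⟩ := hjodd
      have e1 : q + 1 = 2 * (2 * (i + 1)) := by omega
      rw [e1, pow_mul, pow_two, hκ2, pow_mul, pow_two, S.t_sq, one_pow]
    obtain ⟨m, hm1', hm2, hm3⟩ := good_K M E hω hF hk hκH hκK
    have hχκ : χ (η ^ j) = 1 := M.F.χ_of_pow hκH hκK
    -- `δ ^ 2 = -1`
    have hgκ : Good M ι e ω (η ^ j) (be ι e m) := by
      refine ⟨m, hm3, ?_, rfl⟩
      rw [hχκ, map_one, mul_one]
      unfold al be
      rw [hm1', hm2, map_mul, ← E.e_sq]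
      ring
    have hgt : Good M ι e ω t (-1) := by
      have hneg : (-1 : k) ≠ 0 := neg_ne_zero.mpr one_ne_zero
      have h1 := good_ν (ι := ι) (e := e) (ω := ω) M hneg
      rw [M.ν_neg, inv_neg, inv_one, map_neg, map_one] at h1
      exact h1
    have hδ : be ι e m * be ι e m = -1 := by
      have h1 := hgκ.mul hκH hκH hgκ
      rw [hκ2] at h1
      exact h1.unique hω hgt
    have hy : m.1 1 0 ≠ 0 := by
      intro h1
      unfold be at hδ
      rw [h1, map_zero, zero_mul, zero_add, ← map_mul, ← map_one ι, ← map_neg] at hδ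
      exact hm1 ⟨_, (ι.injective hδ).symm⟩
    -- `h` commutes with `κ`
    have hX : t • h • ω ≠ h • ω := by
      intro h2
      rw [← mul_smul, ← h_t S hh, mul_smul] at h2
      exact S.no_common ω (smul_left_cancel _ h2) hω
    obtain ⟨m', hm'⟩ := exists_hom_ω M E hω hF hk _ hX
    have e1 : (h * η ^ j) • ω = M.rel.hom (dconj (χ h) hχ m * m') • ω := by
      rw [mul_smul, hm3, map_mul, ← h_hom M hh, mul_smul, hm', mul_smul, mul_smul, inv_smul_smul]
    have e2 : (η ^ j * h) • ω = M.rel.hom (m' * m) • ω := by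
      have h3 := h_hom M hκH m'
      have h4 : dconj (χ (η ^ j)) (M.F.χ_ne _ hκH) m' = m' := by
        apply ext'
        · rfl
        · show χ (η ^ j) * m'.1 0 1 = m'.1 0 1
          rw [hχκ, one_mul]
        · show (χ (η ^ j))⁻¹ * m'.1 1 0 = m'.1 1 0
          rw [hχκ, inv_one, one_mul]
        · rfl
      rw [h4] at h3
      have h5 : η ^ j * M.rel.hom m' = M.rel.hom m' * η ^ j := by
        calc η ^ j * M.rel.hom m' = η ^ j * M.rel.hom m' * (η ^ j)⁻¹ * η ^ j := by group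
          _ = _ := by rw [h3]
      rw [mul_smul, ← hm', ← mul_smul, h5, mul_smul, hm3, map_mul, mul_smul]
    have e3 : dconj (χ h) hχ m * m' = m' * m := by
      apply hom_ω_inj M hω
      rw [← e1, ← e2, H_comm S h hh _ hκH]
    have e4 := congrArg (be ι e) e3
    rw [be_mul, be_mul] at e4
    have e5 : al ι e m = be ι e m * e := by
      unfold al be
      rw [hm1', hm2, map_mul, ← E.e_sq]
      ring
    rw [e5] at e4
    have e6 : ι ((dconj (χ h) hχ m).1 1 0) = (ι (χ h))⁻¹ * ι (m.1 1 0) := by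
      show ι ((χ h)⁻¹ * m.1 1 0) = _
      rw [map_mul, map_inv₀]
    have e7 : ι ((dconj (χ h) hχ m).1 1 1) = ι (m.1 0 0) := by
      show ι (m.1 1 1) = _
      rw [hm1']
    rw [e6, e7] at e4
    have hιχ : ι (χ h) ≠ 0 := (map_ne_zero ι).mpr hχ
    have hιy : ι (m.1 1 0) ≠ 0 := (map_ne_zero ι).mpr hy
    refine ⟨be ι e m', m', hm'.symm, ?_, rfl⟩
    -- `ι y * α = ι y * (χ e β)`
    have e8 : ι (m.1 1 0) * al ι e m' = ι (m.1 1 0) * (be ι e m' * ι (χ h) * e) := by
      have e9 : be ι e m = ι (m.1 1 0) * e + ι (m.1 0 0) := by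
        unfold be
        rw [hm1']
      have e10 : (ι (χ h))⁻¹ * ι (m.1 1 0) * al ι e m' + ι (m.1 0 0) * be ι e m' =
          be ι e m * (ι (m'.1 1 0) * e + ι (m'.1 1 1)) := by
        linear_combination e4
      have e11 : ι (m'.1 1 0) * e + ι (m'.1 1 1) = be ι e m' := rfl
      rw [e11, e9] at e10
      field_simp at e10
      linear_combination e10
    exact mul_left_cancel₀ hιy e8

/-- the quadratic extension -/
theorem exists_emb {F : Type*} [Field F] [Fintype F] [Finite k]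
    (M : SFrame p n q d inf zero U H t w T χ ν η c) (hF : Fintype.card F = q ^ 2) (ι : k →+* F)
    (hfix : ∀ x : F, x ^ q = x → ∃ a, ι a = x)
    (hadd : ∀ x y : F, (x + y) ^ q = x ^ q + y ^ q) (h2q : ∀ x : F, (x ^ q) ^ q = x) :
    ∃ e : F, Emb q ι e c := by
  have S := M.F.S
  have hq3 := q_ge S
  have hodd := q_odd S
  have h2 : (2 : F) ≠ 0 := by
    rw [← map_ofNat ι 2]
    intro h
    exact M.F.two_ne ((map_eq_zero ι).mp h)
  have h2F : ringChar F ≠ 2 := by
    intro h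
    apply h2
    have := (ringChar.spec F 2).mpr (by rw [h])
    exact_mod_cast this
  have hιc : ι c ≠ 0 := (map_ne_zero ι).mpr M.rel.c_ne
  have hsq : IsSquare (ι c) := by
    rw [FiniteField.isSquare_iff h2F hιc, hF]
    obtain ⟨j, hj⟩ := hodd
    have e1 : q ^ 2 / 2 = (q - 1) * (j + 1) := by
      have e2 : q ^ 2 = 2 * ((q - 1) * (j + 1)) + 1 := by
        have e3 : q - 1 = 2 * j := by omega
        rw [e3, hj]
        ring
      omega
    rw [e1, pow_mul]
    have e4 : c ^ (q - 1) = 1 := by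
      have e5 := M.F.frob c
      have e6 : c ^ q = c ^ (q - 1) * c := by
        rw [← pow_succ]
        congr 1
        omega
      rw [e6] at e5
      exact mul_right_cancel₀ M.rel.c_ne (by rw [e5, one_mul])
    rw [← map_pow, e4, map_one, one_pow]
  obtain ⟨e, he⟩ := hsq
  have he0 : e ≠ 0 := by
    rintro rfl
    exact hιc (by rw [he, mul_zero])
  have h3 : e ^ q * e ^ q = e * e := by
    rw [← mul_pow, ← he, ← map_pow, M.F.frob]
  have h4 : e ^ q = -e := by
    rcases mul_self_eq_mul_self_iff.mp h3 with h | h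
    · exfalso
      obtain ⟨s, rfl⟩ := hfix e h
      apply c_nonsq M s
      apply ι.injective
      rw [he, pow_two, map_mul]
    · exact h
  exact ⟨e, M.F.frob, hfix, hadd, h2q, he.symm, h4, he0, M.F.two_ne, hodd⟩

end main

open Classical in
theorem exists_coordData {G Ω F : Type*} [Group G] [Finite G] [MulAction G Ω] [FaithfulSMul G Ω]
    [Field F] [Fintype F] {p n q d : ℕ} (hF : Fintype.card F = q ^ 2) {inf zero : Ω}
    {U H : Subgroup G} {t w : G} (S : StageData p n q d inf zero U H t w) :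
    ∃ (e : F) (Λ : Subgroup Fˣ) (pt : F → F → Ω), e ^ q = -e ∧ e ≠ 0 ∧ pt 0 0 = zero ∧
      CoordData q e Λ inf pt U H w t := by
  obtain ⟨k, _, _, ι, hk, hfix, hadd, h2q⟩ := exists_subfield S.hp S.hn S.hq hF
  obtain ⟨T, χ, T0⟩ := exists_frame S k hk
  obtain ⟨ν, η, c, M⟩ := T0.exists_sframe
  obtain ⟨e, E⟩ := exists_emb M hF ι hfix hadd h2q
  obtain ⟨ω, hω⟩ := exists_fix_w S
  have hF' : Nat.card F = q ^ 2 := by rw [Nat.card_eq_fintype_card, hF]
  have hk' : Nat.card k = q := by rw [Nat.card_eq_fintype_card, hk]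
  have hq3 := q_ge S
  have he := E.e_ne
  -- the multipliers
  choose! l hl using fun (h : G) (hh : h ∈ H) => good_all M E hω hF' hk' hh
  have hl0 : ∀ h ∈ H, l h ≠ 0 := by
    intro h hh h0
    have h1 := (hl h hh).norm E
    rw [h0, zero_pow (Nat.succ_ne_zero q), zero_mul] at h1
    exact zero_ne_one h1
  have hlm : ∀ h ∈ H, ∀ h' ∈ H, l (h * h') = l h * l h' := fun h hh h' hh' =>
    (hl _ (H.mul_mem hh hh')).unique hω ((hl h hh).mul hh hh' (hl h' hh'))
  have hlψ : ∀ h (hh : h ∈ H), ((l h ^ q)⁻¹) ^ q = (l h)⁻¹ := by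
    intro h hh
    rw [inv_pow, E.frob2]
  have hlψ' : ∀ h (hh : h ∈ H), ((l h ^ q)⁻¹) ^ (q + 1) = ι (χ h) := by
    intro h hh
    have h1 := (hl h hh).norm E
    rw [pow_succ, hlψ h hh]
    have h2 := pow_ne_zero q (hl0 h hh)
    have h3 := hl0 h hh
    rw [pow_succ] at h1
    field_simp
    linear_combination -h1
  let ψ : H →* Fˣ := MonoidHom.mk' (fun h => Units.mk0 ((l (h : G) ^ q)⁻¹)
    (inv_ne_zero (pow_ne_zero q (hl0 h h.2)))) (by
      intro h h'
      apply Units.ext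
      show (l ((h * h' : H) : G) ^ q)⁻¹ = (l (h : G) ^ q)⁻¹ * (l (h' : G) ^ q)⁻¹
      rw [Subgroup.coe_mul, hlm h h.2 h' h'.2, mul_pow, mul_inv])
  have hψ : ∀ h : H, ((ψ h : Fˣ) : F) = (l (h : G) ^ q)⁻¹ := fun h => rfl
  -- the action of `H`
  have hact : ∀ h (hh : h ∈ H), ∀ v y, IsPt q e v y → h • P M ι e ω v y =
      P M ι e ω (((l h ^ q)⁻¹) ^ q * v) (((l h ^ q)⁻¹) ^ (q + 1) * y) := by
    intro h hh v y hvy
    rw [hlψ h hh, hlψ' h hh]
    rcases isPt_cases E hvy with ⟨rfl, a, rfl⟩ | ⟨m, rfl, rfl⟩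
    · rw [mul_zero, ← map_mul, P, pt_zero, pt_zero, M.F.h_smul hh]
    · obtain ⟨m', h1, h2, h3⟩ := (hl h hh).act hh m
      have h4 : (l h)⁻¹ * (1 / be ι e m) = 1 / be ι e m' := by
        rw [h3]
        have := hl0 h hh
        have := E.be_ne m
        field_simp
      have h5 : ι (χ h) * (al ι e m / be ι e m) = al ι e m' / be ι e m' := by
        rw [h2, h3]
        have := hl0 h hh
        have := E.be_ne m
        field_simp
      rw [h4, h5, P, pt_vec E, pt_vec E, h1]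
  -- injectivity
  have hψinj : Function.Injective ψ := by
    rw [injective_iff_map_eq_one]
    rintro ⟨h, hh⟩ h1
    have h2 : (l h ^ q)⁻¹ = 1 := by
      have := congrArg (fun u : Fˣ => (u : F)) h1
      exact this
    have h3 : ∀ X : Ω, h • X = (1 : G) • X := by
      intro X
      rw [one_smul]
      by_cases hX : X = inf
      · rw [hX, H_inf S hh]
      · obtain ⟨v, y, hvy, rfl⟩ := P_surj M E hω hF' hk' X hX
        rw [hact h hh v y hvy, h2, one_pow, one_pow, one_mul, one_mul]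
    exact Subtype.ext (FaithfulSMul.eq_of_smul_eq_smul h3)
  have hP0 : P M ι e ω 0 0 = zero := by
    have h1 := pt_zero (hom := M.rel.hom) (ι := ι) (e := e) (T := T) (zero := zero) (ω := ω) 0
    rw [map_zero, T0.T_zero, one_smul] at h1
    exact h1
  refine ⟨e, ψ.range, P M ι e ω, E.e_q, he, hP0, ?_⟩
  constructor
  · exact P_ne M E hω
  · exact P_inj M E hω
  · exact P_surj M E hω hF' hk'
  · exact S.U_inf
  · exact S.U_norm
  · exact S.U_trans
  · exact S.U_free
  · exact S.U_card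
  · intro g
    rw [hP0]
    exact S.mem_H g
  · intro h hh
    exact ⟨ψ ⟨h, hh⟩, ⟨⟨h, hh⟩, rfl⟩, hact h hh⟩
  · rintro _ ⟨⟨h, hh⟩, rfl⟩
    exact ⟨h, hh, hact h hh⟩
  · have h1 : Nat.card ψ.range = Nat.card H :=
      (Nat.card_congr (MonoidHom.ofInjective hψinj).toEquiv).symm
    have h2 : Nat.card ψ.range * ψ.range.index = Nat.card Fˣ := Subgroup.card_mul_index _
    have h3 : Nat.card Fˣ = q ^ 2 - 1 := by
      rw [Nat.card_eq_fintype_card, Fintype.card_units, hF]
    have h4 := S.H_card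
    have h5 : 0 < Nat.card H := Nat.card_pos
    rw [h1, h3, ← h4, mul_comm d] at h2
    rw [← S.hd]
    exact Nat.eq_of_mul_eq_mul_left h5 h2
  · exact S.t_mem
  · exact S.t_ne
  · exact S.t_sq
  · exact S.t_unique
  · intro v y hvy
    rcases isPt_cases E hvy with ⟨rfl, a, rfl⟩ | ⟨m, rfl, rfl⟩
    · rw [neg_zero, P, pt_zero, T0.t_T]
    · have hneg : (-1 : k) ≠ 0 := neg_ne_zero.mpr one_ne_zero
      have h1 : t • M.rel.hom m • ω = M.rel.hom (nM (-1) hneg * m) • ω := by
        rw [map_mul, M.rel.hom_nM, M.ν_neg, mul_smul]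
      have h2 : be ι e (nM (-1) hneg * m) = -be ι e m := by
        rw [be_mul, nM_10, nM_11, map_zero, inv_neg, inv_one, map_neg, map_one]
        ring
      have h3 : al ι e (nM (-1) hneg * m) = -al ι e m := by
        rw [al_mul, nM_00, nM_01, map_zero, map_neg, map_one]
        ring
      have h4 : -(1 / be ι e m) = 1 / be ι e (nM (-1) hneg * m) := by rw [h2, div_neg]
      have h5 : al ι e m / be ι e m = al ι e (nM (-1) hneg * m) / be ι e (nM (-1) hneg * m) := by
        rw [h2, h3, neg_div_neg_eq]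
      rw [h4, P, pt_vec E]
      rw [h5, pt_vec E, h1]
  · exact S.w_sq
  · rw [hP0, S.w_inf]
  · intro v y hvy hy
    rcases isPt_cases E hvy with ⟨rfl, a, rfl⟩ | ⟨m, rfl, rfl⟩
    · have ha : a ≠ 0 := by
        rintro rfl
        exact hy (map_zero ι)
      have h1 : e ^ 2 / ι a = ι (c / a) := by rw [map_div₀, ← E.e_sq, pow_two]
      rw [mul_zero, zero_div, h1, P, pt_zero, pt_zero, M.w_T a ha]
    · have h1 : w • M.rel.hom m • ω = M.rel.hom (wconj c M.rel.c_ne m) • ω := by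
        rw [← w_hom M, mul_smul, mul_smul, inv_smul_eq_iff.mpr hω.symm]
      have hb := E.be_ne m
      have ha := E.al_ne m
      have h2 : be ι e (wconj c M.rel.c_ne m) = al ι e m / e := by
        show ι (c⁻¹ * m.1 0 1) * e + ι (m.1 0 0) = (ι (m.1 0 0) * e + ι (m.1 0 1)) / e
        rw [map_mul, map_inv₀, ← E.e_sq]
        field_simp
        ring
      have h3 : al ι e (wconj c M.rel.c_ne m) = e * be ι e m := by
        show ι (m.1 1 1) * e + ι (c * m.1 1 0) = e * (ι (m.1 1 0) * e + ι (m.1 1 1))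
        rw [map_mul, ← E.e_sq]
        ring
      have h4 : e * (1 / be ι e m) / (al ι e m / be ι e m) =
          1 / be ι e (wconj c M.rel.c_ne m) := by
        rw [h2]
        field_simp
      have h5 : e ^ 2 / (al ι e m / be ι e m) =
          al ι e (wconj c M.rel.c_ne m) / be ι e (wconj c M.rel.c_ne m) := by
        rw [h2, h3]
        field_simp
      rw [h4, h5, P, pt_vec E, pt_vec E, h1]
  · exact S.w_conj
  · intro g hg1 hg2
    rw [hP0] at hg2
    exact S.w_class g hg1 hg2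
  · intro s hs
    obtain ⟨b, rfl⟩ := hfix s hs
    refine ⟨T b, T0.T_mem b, T0.T_t b, fun v y hvy => ?_⟩
    rcases isPt_cases E hvy with ⟨rfl, a, rfl⟩ | ⟨m, rfl, rfl⟩
    · rw [← map_add, P, pt_zero, pt_zero, ← mul_smul, ← T0.T_add, add_comm]
    · have h1 : T b • M.rel.hom m • ω = M.rel.hom (tM b * m) • ω := by
        rw [map_mul, M.rel.hom_tM, mul_smul]
      have h2 : be ι e (tM b * m) = be ι e m := by
        rw [be_mul, tM_10, tM_11, map_zero, map_one]
        ring
      have h3 : al ι e (tM b * m) = al ι e m + ι b * be ι e m := by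
        rw [al_mul, tM_00, tM_01, map_one]
        ring
      have hb := E.be_ne m
      have h4 : al ι e m / be ι e m + ι b = al ι e (tM b * m) / be ι e (tM b * m) := by
        rw [h2, h3]
        field_simp
      have h5 : 1 / be ι e m = 1 / be ι e (tM b * m) := by rw [h2]
      rw [h4, P, pt_vec E]
      nth_rewrite 1 [h5]
      rw [pt_vec E, h1]
  · exact S.T_comm

end Cfsg.Agent.ONan.MakeCoord
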