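import Cfsg.Agent.ONan.StructU4

/-!
# Odd unitary type: the structure of `U`
-/

set_option autoImplicit false

namespace Cfsg.Agent.ONan.StructU

open Cfsg.Agent.ONan.Coord Cfsg.Agent.ONan.StructU1 Cfsg.Agent.ONan.StructU2
  Cfsg.Agent.ONan.StructU3 Cfsg.Agent.ONan.StructU4

/-- in a finite cyclic group of order `m * n` the solutions of `x ^ m = 1` are `n`-th powers -/
theorem exists_pow_of_cyclic {A : Type*} [CommGroup A] [Finite A] [IsCyclic A] {m n : ℕ}
    (hm : 0 < m) (hA : Nat.card A = m * n) {x : A} (hx : x ^ m = 1) : ∃ y : A, y ^ n = x := by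
  obtain ⟨g, hg⟩ := IsCyclic.exists_generator (α := A)
  obtain ⟨k, hk⟩ := Subgroup.mem_zpowers_iff.1 (hg x)
  have ho : orderOf g = m * n := by
    rw [← hA, orderOf_eq_card_of_forall_mem_zpowers hg]
  have h1 : g ^ (k * m) = 1 := by
    rw [zpow_mul, hk, zpow_natCast, hx]
  have h2 : ((m * n : ℕ) : ℤ) ∣ k * m := by
    rw [← ho]
    exact orderOf_dvd_iff_zpow_eq_one.2 h1
  have h3 : (n : ℤ) ∣ k := by
    have hm' : (m : ℤ) ≠ 0 := by exact_mod_cast hm.ne'
    rw [Nat.cast_mul, mul_comm k] at h2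
    exact (mul_dvd_mul_iff_left hm').1 h2
  obtain ⟨j, hj⟩ := h3
  refine ⟨g ^ j, ?_⟩
  rw [← hk, hj, ← zpow_natCast, ← zpow_mul, mul_comm]

theorem unitaryAct_of_coordData {G Ω F : Type*} [Group G] [Finite G] [MulAction G Ω]
    [FaithfulSMul G Ω] [Field F] [Fintype F] {p n q : ℕ} (hp : p.Prime) (hp2 : p ≠ 2)
    (hn : 1 ≤ n) (hq : q = p ^ n) (hF : Fintype.card F = q ^ 2) {e : F} (he : e ^ q = -e)
    (he0 : e ≠ 0) {Λ : Subgroup Fˣ} {inf : Ω} {pt : F → F → Ω} {U H : Subgroup G} {w t : G}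
    (D : CoordData q e Λ inf pt U H w t) : UnitaryAct q e inf pt U w := by
  classical
  have : Fact p.Prime := ⟨hp⟩
  have hF' : Fintype.card F = p ^ (n * 2) := by rw [hF, hq, pow_mul]
  have : CharP F p := charP_of_card_eq_prime_pow hF'
  have : ExpChar F p := ExpChar.prime hp
  set σ : F →+* F := iterateFrobenius F p n with hσ
  have hσq : ∀ x, σ x = x ^ q := by
    intro x
    rw [hσ, iterateFrobenius_def, hq]
  have hσσ : ∀ x, σ (σ x) = x := by
    intro x
    rw [hσq, hσq, ← pow_mul, ← pow_two, ← hF, FiniteField.pow_card]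
  have hσe : σ e = -e := by rw [hσq, he]
  have two : (2 : F) ≠ 0 := by
    intro h
    have h2 : ((2 : ℕ) : F) = 0 := by exact_mod_cast h
    rw [CharP.cast_eq_zero_iff F p] at h2
    exact hp2 ((Nat.prime_dvd_prime_iff_eq hp Nat.prime_two).1 h2)
  have hqodd : Odd q := by
    rw [hq]
    exact (hp.odd_of_ne_two hp2).pow
  have hq0 : (q : F) = 0 := by
    rw [hq, Nat.cast_pow, CharP.cast_eq_zero, zero_pow (by omega)]
  have hq1 : 1 < q := by
    rw [hq]
    exact Nat.one_lt_pow (by omega) hp.one_lt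
  have hpt : ∀ v y : F, IsPt q e v y ↔ Pt σ e v y := by
    intro v y
    unfold IsPt Pt
    rw [hσq, hσq, pow_succ, mul_comm (v ^ q) v]
  have hψ : ∀ ψ : F, ψ ^ (q + 1) = ψ * σ ψ := by
    intro ψ
    rw [hσq, pow_succ, mul_comm]
  have C : Core σ e Λ inf pt U H w t := by
    refine
      { σσ := hσσ, σe := hσe, e0 := he0, two := two
        odd := by rw [D.U_card]; exact hqodd.pow
        pt_ne := fun v y h => D.pt_ne v y ((hpt v y).2 h)
        pt_inj := fun v y v' y' h h' => D.pt_inj v y v' y' ((hpt v y).2 h) ((hpt v' y').2 h')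
        pt_surj := ?_, U_inf := D.U_inf, U_norm := D.U_norm, U_trans := D.U_trans
        U_free := D.U_free, mem_H := D.mem_H, H_act := ?_, exists_H := ?_
        t_mem := D.t_mem, t_ne := D.t_ne, t_sq := D.t_sq, t_unique := D.t_unique
        t_act := fun v y h => D.t_act v y ((hpt v y).2 h)
        w_sq := D.w_sq, w_inf := D.w_inf
        w_act := fun v y h => D.w_act v y ((hpt v y).2 h)
        w_class := D.w_class, exists_T := ?_, T_comm := D.T_comm }
    · intro P hP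
      obtain ⟨v, y, h1, h2⟩ := D.pt_surj P hP
      exact ⟨v, y, (hpt v y).1 h1, h2⟩
    · intro h hh
      obtain ⟨ψ, h1, h2⟩ := D.H_act h hh
      refine ⟨ψ, h1, fun v y hvy => ?_⟩
      rw [← hψ, hσq]
      exact h2 v y ((hpt v y).2 hvy)
    · intro ψ hψΛ
      obtain ⟨h, h1, h2⟩ := D.exists_H ψ hψΛ
      refine ⟨h, h1, fun v y hvy => ?_⟩
      rw [← hψ, hσq]
      exact h2 v y ((hpt v y).2 hvy)
    · intro s hs
      obtain ⟨u, h1, h2, h3⟩ := D.exists_T s (by rw [← hσq, hs])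
      exact ⟨u, h1, h2, fun v y hvy => h3 v y ((hpt v y).2 hvy)⟩
  -- facts about `Λ`
  have hΛ : ∀ χ ∈ Λ, ∃ ψ ∈ Λ, (ψ : F) = σ (χ : Fˣ) := by
    intro χ hχ
    exact ⟨χ ^ q, pow_mem hχ q, by rw [hσq, Units.val_pow_eq_pow_val]⟩
  have hcardQ : Nat.card (Fˣ ⧸ Λ) = Nat.gcd 3 (q + 1) := by
    rw [← Subgroup.index_eq_card, D.Λ_index]
  have hfixΛ : ∀ r : Fˣ, σ (r : F) = r → r ∈ Λ := by
    intro r hr
    rw [hσq] at hr
    have h1 : r ^ (q - 1) = 1 := by
      have h2 : r ^ q = r := by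
        ext
        rw [Units.val_pow_eq_pow_val, hr]
      have h3 : r ^ (q - 1) * r = 1 * r := by
        rw [← pow_succ, Nat.sub_add_cancel hq1.le, h2, one_mul]
      exact mul_right_cancel h3
    have hcard : Nat.card Fˣ = (q - 1) * (q + 1) := by
      rw [Nat.card_eq_fintype_card, Fintype.card_units, hF]
      have := Nat.sq_sub_sq q 1
      rw [one_pow] at this
      rw [this, mul_comm]
    obtain ⟨y, hy⟩ := exists_pow_of_cyclic (by omega) hcard h1
    have hd : Λ.index ∣ q + 1 := by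
      rw [D.Λ_index]
      exact Nat.gcd_dvd_right _ _
    obtain ⟨c, hc⟩ := hd
    rw [← hy, hc, mul_comm, pow_mul]
    exact Subgroup.pow_index_mem Λ _
  obtain ⟨ρ, hρ⟩ := exists_rho C
  have hρ0 : ∀ a, a ≠ 0 → ρ a = 0 := by
    intro a ha
    by_cases h3 : (3 : F) = 0
    · have hp3 : p = 3 := by
        have h2 : ((3 : ℕ) : F) = 0 := by exact_mod_cast h3
        rw [CharP.cast_eq_zero_iff F p] at h2
        exact (Nat.prime_dvd_prime_iff_eq hp Nat.prime_three).1 h2
      have htop : Λ = ⊤ := by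
        rw [← Subgroup.index_eq_one, D.Λ_index, hq, hp3]
        obtain ⟨k, rfl⟩ : ∃ k, n = k + 1 := ⟨n - 1, by omega⟩
        have : Nat.Coprime 3 (3 ^ (k + 1) + 1) := by
          rw [pow_succ, mul_comm]
          simp
        exact this
      refine rho_zero_three C hρ hΛ htop (m := n * 3) ?_ ha
      rw [D.U_card, hq, hp3, pow_mul]
    · refine rho_zero_three_ne C hρ hΛ h3 ?_ ha
      rw [hcardQ]
      exact Nat.gcd_le_left _ (by norm_num)
  have hinv : ∀ u a A, Co σ e pt U u a A → Co σ e pt U u⁻¹ (-a) (- σ A) :=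
    fun u a A h => co_inv C hρ hρ0 h
  have hfix : ∀ r : F, r ≠ 0 → σ r = r → ∃ h ∈ H, ∀ v y, Pt σ e v y →
      h • pt v y = pt (σ r * v) (r * σ r * y) := by
    intro r hr hσr
    exact C.exists_H (Units.mk0 r hr) (hfixΛ (Units.mk0 r hr) hσr)
  have hmul := mul_formula C hinv hq0 hσq hfix
  refine
    { pt_ne := D.pt_ne, pt_inj := D.pt_inj, pt_surj := D.pt_surj, U_inf := D.U_inf
      U_act := ?_, w_inf := D.w_inf, w_zero := w_O C, w_act := D.w_act }
  intro u hu
  obtain ⟨a, A, h⟩ := co_ex C hu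
  refine ⟨a, A, (hpt a A).2 h.2.1, fun v y hvy => ?_⟩
  rw [hmul u a A h v y ((hpt v y).1 hvy), hσq]

end Cfsg.Agent.ONan.StructU
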