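import Cfsg.Agent.ONan.Coord

/-!
# Odd unitary type: the structure of `U`, part 1

A cleaned up version `Core` of `CoordData` and the determination of the inverses of the elements of `U`
in coordinates.
-/

set_option autoImplicit false

namespace Cfsg.Agent.ONan.StructU1

/-- admissible coordinates, with the involutory automorphism `σ` -/
def Pt {F : Type*} [Field F] (σ : F →+* F) (e v y : F) : Prop := y - σ y = 2 * e * (v * σ v)

/-- `CoordData`, restated with the automorphism `σ` of order 2 of `F`. -/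
structure Core {G Ω F : Type*} [Group G] [MulAction G Ω] [Field F] (σ : F →+* F) (e : F)
    (Λ : Subgroup Fˣ) (inf : Ω) (pt : F → F → Ω) (U H : Subgroup G) (w t : G) : Prop where
  σσ : ∀ x, σ (σ x) = x
  σe : σ e = -e
  e0 : e ≠ 0
  two : (2 : F) ≠ 0
  odd : Odd (Nat.card U)
  pt_ne : ∀ v y, Pt σ e v y → pt v y ≠ inf
  pt_inj : ∀ v y v' y', Pt σ e v y → Pt σ e v' y' → pt v y = pt v' y' → v = v' ∧ y = y'
  pt_surj : ∀ P, P ≠ inf → ∃ v y, Pt σ e v y ∧ pt v y = P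
  U_inf : ∀ u ∈ U, u • inf = inf
  U_norm : ∀ g : G, g • inf = inf → ∀ u ∈ U, g * u * g⁻¹ ∈ U
  U_trans : ∀ P Q, P ≠ inf → Q ≠ inf → ∃ u ∈ U, u • P = Q
  U_free : ∀ P, P ≠ inf → ∀ u ∈ U, u • P = P → u = 1
  mem_H : ∀ g : G, g ∈ H ↔ g • inf = inf ∧ g • pt 0 0 = pt 0 0
  H_act : ∀ h ∈ H, ∃ ψ ∈ Λ, ∀ v y, Pt σ e v y →
    h • pt v y = pt (σ (ψ : F) * v) ((ψ : F) * σ ψ * y)
  exists_H : ∀ ψ ∈ Λ, ∃ h ∈ H, ∀ v y, Pt σ e v y →
    h • pt v y = pt (σ (ψ : F) * v) ((ψ : F) * σ ψ * y)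
  t_mem : t ∈ H
  t_ne : t ≠ 1
  t_sq : t * t = 1
  t_unique : ∀ x ∈ H, x * x = 1 → x = 1 ∨ x = t
  t_act : ∀ v y, Pt σ e v y → t • pt v y = pt (-v) y
  w_sq : w * w = 1
  w_inf : w • inf = pt 0 0
  w_act : ∀ v y, Pt σ e v y → y ≠ 0 → w • pt v y = pt (e * v / y) (e ^ 2 / y)
  w_class : ∀ g, IsConj t g → g • inf = pt 0 0 → ∃ h ∈ H, g = h * w * h⁻¹
  exists_T : ∀ s : F, σ s = s → ∃ u ∈ U, u * t = t * u ∧
    ∀ v y, Pt σ e v y → u • pt v y = pt v (y + s)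
  T_comm : ∀ u ∈ U, u * t = t * u → ∀ u' ∈ U, u * u' = u' * u

section

variable {G Ω F : Type*} [Group G] [MulAction G Ω] [Field F] {σ : F →+* F} {e : F}
  {Λ : Subgroup Fˣ} {inf : Ω} {pt : F → F → Ω} {U H : Subgroup G} {w t : G}

variable (σ e pt U) in
/-- `u ∈ U` maps `(0,0)` to the point `(a, A)` -/
def Co (u : G) (a A : F) : Prop := u ∈ U ∧ Pt σ e a A ∧ u • pt 0 0 = pt a A

theorem pt00 : Pt σ e 0 0 := by simp [Pt]

theorem pt_fix_iff {s : F} : Pt σ e 0 s ↔ σ s = s := by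
  unfold Pt
  simp only [zero_mul, mul_zero, sub_eq_zero]
  exact eq_comm

theorem pt_add {v y s : F} (h : Pt σ e v y) (hs : σ s = s) : Pt σ e v (y + s) := by
  unfold Pt at h ⊢
  rw [map_add, hs, ← h]
  ring

theorem pt_sub {v y y' : F} (h : Pt σ e v y) (h' : Pt σ e v y') : σ (y' - y) = y' - y := by
  unfold Pt at h h'
  rw [map_sub]
  linear_combination h - h'

variable (D : Core σ e Λ inf pt U H w t)

include D

theorem t_inv : t⁻¹ = t := inv_eq_of_mul_eq_one_right D.t_sq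

theorem w_inv : w⁻¹ = w := inv_eq_of_mul_eq_one_right D.w_sq

theorem O_ne : pt 0 0 ≠ inf := D.pt_ne 0 0 pt00

theorem w_O : w • pt 0 0 = inf := by
  rw [← D.w_inf, smul_smul, D.w_sq, one_smul]

theorem t_inf : t • inf = inf := ((D.mem_H t).1 D.t_mem).1

theorem t_O : t • pt 0 0 = pt 0 0 := ((D.mem_H t).1 D.t_mem).2

theorem Uinv_inf {u : G} (hu : u ∈ U) : u⁻¹ • inf = inf := D.U_inf _ (inv_mem hu)

theorem smul_ne_inf {u : G} (hu : u ∈ U) {P : Ω} (hP : P ≠ inf) : u • P ≠ inf := by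
  intro h
  apply hP
  have : u⁻¹ • u • P = u⁻¹ • inf := by rw [h]
  rwa [inv_smul_smul, Uinv_inf D hu] at this

theorem co_ex {u : G} (hu : u ∈ U) : ∃ a A, Co σ e pt U u a A := by
  obtain ⟨a, A, h1, h2⟩ := D.pt_surj (u • pt 0 0) (smul_ne_inf D hu (O_ne D))
  exact ⟨a, A, hu, h1, h2.symm⟩

theorem co_surj {a A : F} (h : Pt σ e a A) : ∃ u, Co σ e pt U u a A := by
  obtain ⟨u, hu, h2⟩ := D.U_trans (pt 0 0) (pt a A) (O_ne D) (D.pt_ne _ _ h)
  exact ⟨u, hu, h, h2⟩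

theorem co_inj {u u' : G} {a A : F} (h : Co σ e pt U u a A) (h' : Co σ e pt U u' a A) :
    u = u' := by
  have h1 : (u'⁻¹ * u) • pt 0 0 = pt 0 0 := by
    rw [mul_smul, h.2.2, ← h'.2.2, inv_smul_smul]
  have h2 := D.U_free _ (O_ne D) _ (mul_mem (inv_mem h'.1) h.1) h1
  exact (inv_mul_eq_one.1 h2).symm

theorem co_fun {u : G} {a A a' A' : F} (h : Co σ e pt U u a A) (h' : Co σ e pt U u a' A') :
    a = a' ∧ A = A' :=
  D.pt_inj _ _ _ _ h.2.1 h'.2.1 (h.2.2.symm.trans h'.2.2)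

omit D in
theorem co_one : Co σ e pt U 1 0 0 := ⟨one_mem _, pt00, one_smul _ _⟩

theorem tconj_mem {u : G} (hu : u ∈ U) : t * u * t⁻¹ ∈ U := D.U_norm t (t_inf D) u hu

theorem co_tconj {u : G} {a A : F} (h : Co σ e pt U u a A) :
    Co σ e pt U (t * u * t⁻¹) (-a) A := by
  refine ⟨tconj_mem D h.1, ?_, ?_⟩
  · have := h.2.1
    unfold Pt at this ⊢
    rw [this, map_neg]
    ring
  · rw [t_inv D, mul_smul, mul_smul, t_O D, h.2.2, D.t_act _ _ h.2.1]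

theorem co_zero_of_comm {u : G} {a A : F} (h : Co σ e pt U u a A) (hc : u * t = t * u) :
    a = 0 := by
  have h1 := co_tconj D h
  have h2 : t * u * t⁻¹ = u := by rw [← hc, mul_inv_cancel_right]
  rw [h2] at h1
  have h3 := (co_fun D h h1).1
  have h4 : (2 : F) * a = 0 := by linear_combination h3
  exact (mul_eq_zero.1 h4).resolve_left D.two

/-- the elements of `U` with first coordinate 0 -/
theorem T_of_co {τ : G} {s : F} (h : Co σ e pt U τ 0 s) :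
    τ * t = t * τ ∧ (∀ v y, Pt σ e v y → τ • pt v y = pt v (y + s)) ∧
      ∀ u ∈ U, τ * u = u * τ := by
  have hs : σ s = s := pt_fix_iff.1 h.2.1
  obtain ⟨u, hu, hut, hact⟩ := D.exists_T s hs
  have h1 : Co σ e pt U u 0 s := by
    refine ⟨hu, h.2.1, ?_⟩
    rw [hact 0 0 pt00, zero_add]
  have h2 := co_inj D h h1
  subst h2
  exact ⟨hut, hact, D.T_comm _ hu hut⟩

theorem co_T_mul {τ u : G} {s a A : F} (h : Co σ e pt U τ 0 s) (hu : Co σ e pt U u a A) :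
    Co σ e pt U (τ * u) a (A + s) := by
  refine ⟨mul_mem h.1 hu.1, pt_add hu.2.1 (pt_fix_iff.1 h.2.1), ?_⟩
  rw [mul_smul, hu.2.2, (T_of_co D h).2.1 _ _ hu.2.1]

theorem co_T_inv {τ : G} {s : F} (h : Co σ e pt U τ 0 s) : Co σ e pt U τ⁻¹ 0 (-s) := by
  have hs : σ s = s := pt_fix_iff.1 h.2.1
  have h1 : Pt σ e 0 (-s) := pt_fix_iff.2 (by rw [map_neg, hs])
  obtain ⟨u, hu⟩ := co_surj D h1
  have h2 := co_T_mul D h hu
  rw [neg_add_cancel] at h2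
  have h3 := co_inj D h2 co_one
  rw [← eq_inv_of_mul_eq_one_right h3]
  exact hu

/-- `s = τ u` if `u`, `s` have the same first coordinate -/
theorem co_eq_T_mul {u s : G} {a A B : F} (hu : Co σ e pt U u a A) (hs : Co σ e pt U s a B) :
    ∃ τ, Co σ e pt U τ 0 (B - A) ∧ s = τ * u := by
  obtain ⟨τ, hτ⟩ := co_surj D (pt_fix_iff.2 (pt_sub hu.2.1 hs.2.1))
  refine ⟨τ, hτ, ?_⟩
  have h2 := co_T_mul D hτ hu
  rw [add_sub_cancel] at h2
  exact co_inj D hs h2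

theorem pow_card_U {b : G} (hb : b ∈ U) : b ^ (Nat.card U) = 1 := by
  have := pow_card_eq_one' (x := (⟨b, hb⟩ : U))
  have h2 := congrArg (Subtype.val) this
  simpa only [SubmonoidClass.coe_pow, OneMemClass.coe_one] using h2

/-- square roots of inverted elements -/
theorem exists_root {b : G} (hb : b ∈ U) (hbt : t * b * t⁻¹ = b⁻¹) :
    ∃ c ∈ U, t * c * t⁻¹ = c⁻¹ ∧ c * c = b := by
  obtain ⟨k, hk⟩ := D.odd
  refine ⟨b ^ (k + 1), pow_mem hb _, ?_, ?_⟩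
  · rw [← conj_pow, hbt, inv_pow]
  · rw [← pow_add]
    have : k + 1 + (k + 1) = Nat.card U + 1 := by omega
    rw [this, pow_succ, pow_card_U D hb, one_mul]

theorem exists_Sv {u : G} {a A : F} (h : Co σ e pt U u a A) :
    ∃ s B, Co σ e pt U s a B ∧ t * s * t⁻¹ = s⁻¹ := by
  have htt : t * t = 1 := D.t_sq
  set b : G := u * (t * u⁻¹ * t⁻¹) with hb
  have hbU : b ∈ U := mul_mem h.1 (tconj_mem D (inv_mem h.1))
  have hbt : t * b * t⁻¹ = b⁻¹ := by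
    rw [hb, t_inv D]
    simp only [mul_inv_rev, inv_inv, t_inv D]
    calc t * (u * (t * u⁻¹ * t)) * t = t * u * t * u⁻¹ * (t * t) := by group
      _ = t * (u * t) * u⁻¹ := by rw [htt]; group
  obtain ⟨c, hc, hct, hcc⟩ := exists_root D hbU hbt
  have hr : c⁻¹ * u ∈ U := mul_mem (inv_mem hc) h.1
  have hrt : (c⁻¹ * u) * t = t * (c⁻¹ * u) := by
    have h1 : t * c⁻¹ * t⁻¹ = c := by
      have := congrArg (·⁻¹) hct
      simpa [mul_assoc] using this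
    have h2 : c * (t * u * t⁻¹) = c⁻¹ * u := by
      have h3 : c * c * (t * u * t⁻¹) = u := by
        rw [hcc, hb]; group
      rw [mul_assoc] at h3
      exact eq_inv_mul_of_mul_eq h3
    have h4 : t * (c⁻¹ * u) * t⁻¹ = c⁻¹ * u := by
      calc t * (c⁻¹ * u) * t⁻¹ = (t * c⁻¹ * t⁻¹) * (t * u * t⁻¹) := by group
        _ = c⁻¹ * u := by rw [h1, h2]
    calc (c⁻¹ * u) * t = (t * (c⁻¹ * u) * t⁻¹) * t := by rw [h4]
      _ = t * (c⁻¹ * u) := by group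
  obtain ⟨r, R, hR⟩ := co_ex D hr
  have hr0 := co_zero_of_comm D hR hrt
  subst hr0
  have hR' := co_T_inv D hR
  have h5 := co_T_mul D hR' h
  have h6 : (c⁻¹ * u)⁻¹ * u = c := by
    have hcen := (T_of_co D hR).2.2 c hc
    calc (c⁻¹ * u)⁻¹ * u = (c⁻¹ * u)⁻¹ * (c * (c⁻¹ * u)) := by group
      _ = (c⁻¹ * u)⁻¹ * ((c⁻¹ * u) * c) := by rw [hcen]
      _ = c := by group
  rw [h6] at h5
  exact ⟨c, _, h5, hct⟩

theorem Sv_exists {a : F} : ∃ s B, Co σ e pt U s a B ∧ t * s * t⁻¹ = s⁻¹ := by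
  have : Pt σ e a (e * (a * σ a)) := by
    unfold Pt
    rw [map_mul, map_mul, D.σe, D.σσ]
    ring
  obtain ⟨u, hu⟩ := co_surj D this
  exact exists_Sv D hu

theorem co_Sv_inv {s : G} {a B : F} (h : Co σ e pt U s a B) (hs : t * s * t⁻¹ = s⁻¹) :
    Co σ e pt U s⁻¹ (-a) B := by
  rw [← hs]
  exact co_tconj D h

theorem Sv_unique {s s' : G} {a B B' : F} (h : Co σ e pt U s a B) (hs : t * s * t⁻¹ = s⁻¹)
    (h' : Co σ e pt U s' a B') (hs' : t * s' * t⁻¹ = s'⁻¹) : B = B' := by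
  obtain ⟨τ, hτ, he⟩ := co_eq_T_mul D h h'
  obtain ⟨h1, -, h3⟩ := T_of_co D hτ
  have h4 : t * s' * t⁻¹ = τ * s⁻¹ := by
    rw [he]
    calc t * (τ * s) * t⁻¹ = (t * τ) * t⁻¹ * (t * s * t⁻¹) := by group
      _ = τ * s⁻¹ := by rw [← h1, hs]; group
  rw [hs', he, mul_inv_rev] at h4
  have h5 : τ * s⁻¹ = s⁻¹ * τ := h3 _ (inv_mem h.1)
  rw [h5] at h4
  have h6 : τ⁻¹ = τ := mul_left_cancel h4
  have h7 := co_T_inv D hτ
  rw [h6] at h7
  have h8 := (co_fun D hτ h7).2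
  have h9 : (2 : F) * (B' - B) = 0 := by linear_combination h8
  have h10 := (mul_eq_zero.1 h9).resolve_left D.two
  exact (sub_eq_zero.1 h10).symm

/-- coordinates of inverses -/
theorem co_inv_aux {u s : G} {a A B : F} (h : Co σ e pt U u a A) (hsc : Co σ e pt U s a B)
    (hs : t * s * t⁻¹ = s⁻¹) : Co σ e pt U u⁻¹ (-a) (2 * B - A) := by
  obtain ⟨τ, hτ, he⟩ := co_eq_T_mul D hsc h
  have h1 := co_T_mul D (co_T_inv D hτ) (co_Sv_inv D hsc hs)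
  have h2 : u⁻¹ = τ⁻¹ * s⁻¹ := by
    rw [he, (T_of_co D hτ).2.2 s hsc.1, mul_inv_rev]
  rw [h2]
  convert h1 using 1
  ring

/-! ### the action of `H` -/

theorem pt_H {ψ v y : F} (h : Pt σ e v y) : Pt σ e (σ ψ * v) (ψ * σ ψ * y) := by
  unfold Pt at h ⊢
  simp only [map_mul, D.σσ]
  linear_combination (ψ * σ ψ) * h

theorem co_hconj {h : G} (hh : h ∈ H) {ψ : F}
    (hact : ∀ v y, Pt σ e v y → h • pt v y = pt (σ ψ * v) (ψ * σ ψ * y)) {u : G} {a A : F}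
    (hu : Co σ e pt U u a A) : Co σ e pt U (h * u * h⁻¹) (σ ψ * a) (ψ * σ ψ * A) := by
  obtain ⟨h1, h2⟩ := (D.mem_H h).1 hh
  refine ⟨D.U_norm h h1 u hu.1, pt_H D hu.2.1, ?_⟩
  have h3 : h⁻¹ • pt 0 0 = pt 0 0 := by
    rw [inv_smul_eq_iff, h2]
  rw [mul_smul, mul_smul, h3, hu.2.2, hact _ _ hu.2.1]

theorem h_comm_t {h : G} (hh : h ∈ H) : h * t * h⁻¹ = t := by
  have h1 : h * t * h⁻¹ ∈ H := mul_mem (mul_mem hh D.t_mem) (inv_mem hh)
  have h2 : (h * t * h⁻¹) * (h * t * h⁻¹) = 1 := by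
    calc (h * t * h⁻¹) * (h * t * h⁻¹) = h * (t * t) * h⁻¹ := by group
      _ = 1 := by rw [D.t_sq]; group
  rcases D.t_unique _ h1 h2 with h3 | h3
  · exact absurd (by simpa [mul_inv_eq_one] using h3) D.t_ne
  · exact h3

theorem Sv_hconj {h : G} (hh : h ∈ H) {s : G} (hs : t * s * t⁻¹ = s⁻¹) :
    t * (h * s * h⁻¹) * t⁻¹ = (h * s * h⁻¹)⁻¹ := by
  have h1 : h * t = t * h := by
    have := h_comm_t D hh
    calc h * t = (h * t * h⁻¹) * h := by group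
      _ = t * h := by rw [this]
  have h2 : h⁻¹ * t⁻¹ = t⁻¹ * h⁻¹ := by
    rw [← mul_inv_rev, ← mul_inv_rev, h1]
  calc t * (h * s * h⁻¹) * t⁻¹ = (t * h) * s * (h⁻¹ * t⁻¹) := by group
    _ = h * (t * s * t⁻¹) * h⁻¹ := by rw [← h1, h2]; group
    _ = (h * s * h⁻¹)⁻¹ := by rw [hs]; group

/-! ### the function `rr` -/

omit D in
variable (σ e) in
/-- the invariant of a point -/
noncomputable def rr (v y : F) : F := y / (v * σ v) - e

omit D in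
theorem rr_H {ψ v y : F} (hψ : ψ ≠ 0) (hv : v ≠ 0) (hσσ : ∀ x, σ (σ x) = x) :
    rr σ e (σ ψ * v) (ψ * σ ψ * y) = rr σ e v y := by
  have h1 : σ ψ ≠ 0 := (map_ne_zero σ).2 hψ
  have h2 : σ v ≠ 0 := (map_ne_zero σ).2 hv
  unfold rr
  rw [map_mul, hσσ]
  congr 1
  field_simp

theorem y_ne {v y : F} (h : Pt σ e v y) (hv : v ≠ 0) : y ≠ 0 := by
  rintro rfl
  unfold Pt at h
  rw [map_zero, sub_zero] at h
  have h2 : σ v ≠ 0 := (map_ne_zero σ).2 hv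
  exact (mul_ne_zero (mul_ne_zero D.two D.e0) (mul_ne_zero hv h2)) h.symm

theorem pt_w {v y : F} (h : Pt σ e v y) (hy : y ≠ 0) : Pt σ e (e * v / y) (e ^ 2 / y) := by
  have h1 : σ y ≠ 0 := (map_ne_zero σ).2 hy
  unfold Pt at h ⊢
  simp only [map_div₀, map_mul, map_pow, D.σe]
  field_simp
  linear_combination (-e ^ 2) * h

theorem rr_w {v y : F} (h : Pt σ e v y) (hv : v ≠ 0) :
    rr σ e (e * v / y) (e ^ 2 / y) = - rr σ e v y := by
  have hy := y_ne D h hv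
  have h1 : σ y ≠ 0 := (map_ne_zero σ).2 hy
  have h2 : σ v ≠ 0 := (map_ne_zero σ).2 hv
  have he := D.e0
  unfold Pt at h
  unfold rr
  simp only [map_div₀, map_mul, D.σe]
  field_simp
  linear_combination h

omit D in
theorem rr_neg {v y : F} : rr σ e (-v) y = rr σ e v y := by
  unfold rr
  rw [map_neg, neg_mul_neg]

theorem fix_w {v y : F} (h : Pt σ e v y) (hv : v ≠ 0) (hw : w • pt v y = pt v y) :
    rr σ e v y = 0 := by
  have hy := y_ne D h hv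
  rw [D.w_act v y h hy] at hw
  have h1 := (D.pt_inj _ _ _ _ (pt_w D h hy) h hw)
  have h2 := rr_w D h hv
  rw [h1.1, h1.2] at h2
  have h3 : (2 : F) * rr σ e v y = 0 := by linear_combination h2
  exact (mul_eq_zero.1 h3).resolve_left D.two

/-- the key relation -/
theorem rr_rel {s s' : G} {a B B'' : F} (ha : a ≠ 0) (h : Co σ e pt U s a B)
    (hs : t * s * t⁻¹ = s⁻¹) (h' : Co σ e pt U s' (e * a / B) B'')
    (hs' : t * s' * t⁻¹ = s'⁻¹) : rr σ e a B + 2 * rr σ e (e * a / B) B'' = 0 := by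
  have hB := y_ne D h.2.1 ha
  have he := D.e0
  have hP := pt_w D h.2.1 hB
  obtain ⟨u', hu'⟩ := co_surj D hP
  have hinv := co_inv_aux D hu' h' hs'
  obtain ⟨u1, hu1, hu1t, hu1s⟩ := exists_root D h.1 hs
  -- `s t` is conjugate to `t`
  have hst : s * t = u1 * t * u1⁻¹ := by
    have h1 : t * u1⁻¹ = u1 * t := by
      have := congrArg (·⁻¹) hu1t
      simp only [mul_inv_rev, inv_inv, t_inv D] at this
      calc t * u1⁻¹ = (t * (u1⁻¹ * t)) * t := by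
            rw [mul_assoc, mul_assoc, D.t_sq, mul_one]
        _ = u1 * t := by rw [this]
    rw [mul_assoc, h1, ← mul_assoc, hu1s]
  set x : G := u'⁻¹ * (w * (s * t) * w) * u' with hx
  have hxc : IsConj t x := by
    rw [isConj_iff]
    refine ⟨u'⁻¹ * w * u1, ?_⟩
    rw [hx, hst]
    simp only [mul_inv_rev, inv_inv, w_inv D]
    group
  have hxinf : x • inf = pt 0 0 := by
    rw [hx]
    simp only [mul_smul]
    rw [D.U_inf _ hu'.1, D.w_inf, t_O D, h.2.2, D.w_act _ _ h.2.1 hB, ← hu'.2.2, inv_smul_smul]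
  obtain ⟨k, hk, hkx⟩ := D.w_class x hxc hxinf
  have hfix : x • (u'⁻¹ • pt 0 0) = u'⁻¹ • pt 0 0 := by
    rw [hx]
    simp only [mul_smul]
    rw [smul_inv_smul, w_O D, t_inf D, D.U_inf _ h.1, D.w_inf]
  rw [hinv.2.2, hkx] at hfix
  obtain ⟨ψ, hψ, hact⟩ := D.H_act _ (inv_mem hk)
  have hfix2 : w • (k⁻¹ • pt (-(e * a / B)) (2 * B'' - e ^ 2 / B)) =
      k⁻¹ • pt (-(e * a / B)) (2 * B'' - e ^ 2 / B) := by
    conv_rhs => rw [← hfix]
    simp only [mul_smul, inv_smul_smul]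
  rw [hact _ _ hinv.2.1] at hfix2
  have ha' : e * a / B ≠ 0 := div_ne_zero (mul_ne_zero he ha) hB
  have h5 := fix_w D (pt_H D hinv.2.1) (mul_ne_zero ((map_ne_zero σ).2 ψ.ne_zero)
    (neg_ne_zero.2 ha')) hfix2
  rw [rr_H ψ.ne_zero (neg_ne_zero.2 ha') D.σσ, rr_neg] at h5
  have h6 := rr_w D h.2.1 ha
  have h7 : rr σ e (e * a / B) (2 * B'' - e ^ 2 / B) =
      2 * rr σ e (e * a / B) B'' - rr σ e (e * a / B) (e ^ 2 / B) := by
    unfold rr
    ring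
  rw [h7, h6] at h5
  linear_combination h5

/-! ### the function `ρ` -/

omit D in
theorem exists_rho (D : Core σ e Λ inf pt U H w t) : ∃ ρ : F → F,
    (∀ a s B, Co σ e pt U s a B → t * s * t⁻¹ = s⁻¹ → rr σ e a B = ρ a) := by
  classical
  have : ∀ a, ∃ r, ∀ s B, Co σ e pt U s a B → t * s * t⁻¹ = s⁻¹ → rr σ e a B = r := by
    intro a
    obtain ⟨s, B, h1, h2⟩ := Sv_exists D (a := a)
    refine ⟨rr σ e a B, fun s' B' h3 h4 => ?_⟩
    rw [Sv_unique D h1 h2 h3 h4]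
  choose ρ hρ using this
  exact ⟨ρ, hρ⟩

theorem rho_H {ρ : F → F} (hρ : ∀ a s B, Co σ e pt U s a B → t * s * t⁻¹ = s⁻¹ →
    rr σ e a B = ρ a) {ψ : Fˣ} (hψ : ψ ∈ Λ) {a : F} (ha : a ≠ 0) : ρ (σ ψ * a) = ρ a := by
  obtain ⟨h, hh, hact⟩ := D.exists_H ψ hψ
  obtain ⟨s, B, h1, h2⟩ := Sv_exists D (a := a)
  have h3 := hρ _ _ _ (co_hconj D hh hact h1) (Sv_hconj D hh h2)
  rw [← h3, rr_H ψ.ne_zero ha D.σσ]
  exact hρ _ _ _ h1 h2

theorem rho_rel {ρ : F → F} (hρ : ∀ a s B, Co σ e pt U s a B → t * s * t⁻¹ = s⁻¹ →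
    rr σ e a B = ρ a) {a : F} (ha : a ≠ 0) : ∃ a', a' ≠ 0 ∧ ρ a + 2 * ρ a' = 0 := by
  obtain ⟨s, B, h1, h2⟩ := Sv_exists D (a := a)
  obtain ⟨s', B', h3, h4⟩ := Sv_exists D (a := e * a / B)
  have h5 := rr_rel D ha h1 h2 h3 h4
  rw [hρ _ _ _ h1 h2, hρ _ _ _ h3 h4] at h5
  exact ⟨_, div_ne_zero (mul_ne_zero D.e0 ha) (y_ne D h1.2.1 ha), h5⟩

end

end Cfsg.Agent.ONan.StructU1
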