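import Cfsg.Agent.ONan.StructU1

/-!
# Odd unitary type: the structure of `U`, part 2: the inverses
-/

set_option autoImplicit false

namespace Cfsg.Agent.ONan.StructU2

open Cfsg.Agent.ONan.StructU1

section

variable {G Ω F : Type*} [Group G] [MulAction G Ω] [Field F] {σ : F →+* F} {e : F}
  {Λ : Subgroup Fˣ} {inf : Ω} {pt : F → F → Ω} {U H : Subgroup G} {w t : G}

variable (D : Core σ e Λ inf pt U H w t)

include D

theorem rho_class {ρ : F → F} (hρ : ∀ a s B, Co σ e pt U s a B → t * s * t⁻¹ = s⁻¹ →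
    rr σ e a B = ρ a) (hΛ : ∀ χ ∈ Λ, ∃ ψ ∈ Λ, (ψ : F) = σ (χ : Fˣ)) {χ : Fˣ} (hχ : χ ∈ Λ) {a : F}
    (ha : a ≠ 0) : ρ (χ * a) = ρ a := by
  obtain ⟨ψ, hψ, he⟩ := hΛ χ hχ
  have h := rho_H D hρ hψ ha
  rwa [he, D.σσ] at h

theorem rho_zero_three_ne {ρ : F → F} (hρ : ∀ a s B, Co σ e pt U s a B → t * s * t⁻¹ = s⁻¹ →
    rr σ e a B = ρ a) (hΛ : ∀ χ ∈ Λ, ∃ ψ ∈ Λ, (ψ : F) = σ (χ : Fˣ)) (h3 : (3 : F) ≠ 0)
    [Finite (Fˣ ⧸ Λ)] (hc : Nat.card (Fˣ ⧸ Λ) ≤ 3) {a : F} (ha : a ≠ 0) : ρ a = 0 := by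
  have hcl : ∀ x y : Fˣ, (x : Fˣ ⧸ Λ) = y → ρ x = ρ y := by
    intro x y hxy
    have h1 : x⁻¹ * y ∈ Λ := QuotientGroup.eq.1 hxy
    have h2 := rho_class D hρ hΛ h1 x.ne_zero
    rw [← h2]
    congr 1
    push_cast
    field_simp
  have hnext : ∀ x : Fˣ, ∃ y : Fˣ, ρ x + 2 * ρ y = 0 := by
    intro x
    obtain ⟨a', ha', h⟩ := rho_rel D hρ x.ne_zero
    exact ⟨Units.mk0 a' ha', by simpa using h⟩
  choose f hf using hnext
  set x0 : Fˣ := Units.mk0 a ha with hx0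
  have e01 := hf x0
  have e12 := hf (f x0)
  have e23 := hf (f (f x0))
  have : Fintype (Fˣ ⧸ Λ) := Fintype.ofFinite _
  have hlt : Fintype.card (Fˣ ⧸ Λ) < Fintype.card (Fin 4) := by
    rw [← Nat.card_eq_fintype_card, Fintype.card_fin]
    omega
  obtain ⟨i, j, hij, hfij⟩ := Fintype.exists_ne_map_eq_of_card_lt
    (fun i : Fin 4 => ((![x0, f x0, f (f x0), f (f (f x0))] i : Fˣ) : Fˣ ⧸ Λ)) hlt
  have h9 : (3 : F) * (3 * ρ x0) = 0 := by
    have hh := hcl _ _ hfij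
    fin_cases i <;> fin_cases j <;> simp at hij hh <;> grind
  have h10 : ρ x0 = 0 := by
    rcases mul_eq_zero.1 h9 with h | h
    · exact absurd h h3
    · exact (mul_eq_zero.1 h).resolve_left h3
  exact h10

omit D in
omit [MulAction G Ω] [Field F] in
theorem Sv_pow {s : G} (hs : t * s * t⁻¹ = s⁻¹) (m : ℕ) :
    t * s ^ m * t⁻¹ = (s ^ m)⁻¹ := by
  rw [← conj_pow, hs, inv_pow]

theorem exists_rho_zero {ρ : F → F} (hρ : ∀ a s B, Co σ e pt U s a B → t * s * t⁻¹ = s⁻¹ →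
    rr σ e a B = ρ a) {m : ℕ} (hU : Nat.card U = 3 ^ m) : ∃ b, b ≠ 0 ∧ ρ b = 0 := by
  have hp3 : Nat.Prime 3 := by norm_num
  -- an element of order three inverted by `t`
  obtain ⟨s, B, hs, hst⟩ := Sv_exists D (a := (1 : F))
  have hs1 : s ≠ 1 := by
    rintro rfl
    have := (co_fun D hs co_one).1
    exact one_ne_zero this
  have hsU := hs.1
  have hord : orderOf s ∣ 3 ^ m := by
    rw [← hU]
    exact orderOf_dvd_of_pow_eq_one (pow_card_U D hsU)
  obtain ⟨k, -, hk⟩ := (Nat.dvd_prime_pow hp3).1 hord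
  obtain ⟨j, rfl⟩ : ∃ j, k = j + 1 := by
    rcases k with - | j
    · exfalso; rw [pow_zero, orderOf_eq_one_iff] at hk; exact hs1 hk
    · exact ⟨j, rfl⟩
  set u : G := s ^ (3 ^ j) with hu
  have hu3 : u * (u * u) = 1 := by
    have : u ^ 3 = 1 := by
      rw [hu, ← pow_mul, ← pow_succ, ← hk, pow_orderOf_eq_one]
    rwa [pow_succ', pow_two] at this
  have hu1 : u ≠ 1 := by
    intro h
    have h1 := orderOf_dvd_of_pow_eq_one h
    rw [hk] at h1
    have h2 := (Nat.pow_dvd_pow_iff_le_right (by norm_num)).1 h1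
    omega
  have huU : u ∈ U := pow_mem hsU _
  have hut : t * u * t⁻¹ = u⁻¹ := Sv_pow hst _
  have hcomm : ¬ (u * t = t * u) := by
    intro h
    rw [← h, mul_inv_cancel_right] at hut
    apply hu1
    have h1 : u * u = 1 := by
      nth_rewrite 2 [hut]
      exact mul_inv_cancel u
    rw [h1, mul_one] at hu3
    exact hu3
  have hU_free := D.U_free
  have huO : u • pt 0 0 ≠ pt 0 0 := fun h => hu1 (hU_free _ (O_ne D) u huU h)
  have hu2O : (u * u) • pt 0 0 ≠ pt 0 0 := by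
    intro h
    have h1 := hU_free _ (O_ne D) (u * u) (mul_mem huU huU) h
    rw [h1, mul_one] at hu3
    exact hu1 hu3
  have hu3O : u • u • u • pt 0 0 = pt 0 0 := by
    rw [← mul_smul, ← mul_smul, mul_assoc, hu3, one_smul]
  -- `g` maps `O` to `inf` and `u O` to `O`
  have hY : w • u • pt 0 0 ≠ inf := by
    intro h
    apply huO
    have : w • w • u • pt 0 0 = w • inf := by rw [h]
    rwa [smul_smul, D.w_sq, one_smul, D.w_inf] at this
  obtain ⟨u2, hu2, hu2Y⟩ := D.U_trans _ _ hY (O_ne D)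
  set g : G := u2 * w with hg
  have hgO : g • pt 0 0 = inf := by rw [hg, mul_smul, w_O D, D.U_inf _ hu2]
  have hguO : g • u • pt 0 0 = pt 0 0 := by rw [hg, mul_smul, hu2Y]
  have hgi : g⁻¹ • inf = pt 0 0 := by rw [← hgO, inv_smul_smul]
  have hgO' : g⁻¹ • pt 0 0 = u • pt 0 0 := by rw [inv_smul_eq_iff, hguO]
  set x : Ω := g • u • u • pt 0 0 with hx
  have hxi : x ≠ inf := by
    intro h
    have : g⁻¹ • x = g⁻¹ • inf := by rw [h]
    rw [hx, inv_smul_smul, hgi, ← mul_smul] at this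
    exact hu2O this
  obtain ⟨b, B', hbP, hbx⟩ := D.pt_surj x hxi
  have hb : b ≠ 0 := by
    intro hb0
    have htx : t • x = x := by
      rw [← hbx, D.t_act _ _ hbP, hb0, neg_zero]
    set τ : G := g⁻¹ * t * g with hτ
    have hτ1 : τ • pt 0 0 = pt 0 0 := by
      rw [hτ, mul_smul, mul_smul, hgO, t_inf D, hgi]
    have hτ2 : τ • u • pt 0 0 = u • pt 0 0 := by
      rw [hτ, mul_smul, mul_smul, hguO, t_O D, hgO']
    have hτ3 : τ • u • u • pt 0 0 = u • u • pt 0 0 := by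
      rw [hτ, mul_smul, mul_smul, ← hx, htx, hx, inv_smul_smul]
    have hττ : τ * τ = 1 := by
      rw [hτ]
      calc g⁻¹ * t * g * (g⁻¹ * t * g) = g⁻¹ * (t * t) * g := by group
        _ = 1 := by rw [D.t_sq]; group
    have hτne : τ ≠ 1 := by
      intro h
      apply D.t_ne
      calc t = g * (g⁻¹ * t * g) * g⁻¹ := by group
        _ = 1 := by rw [← hτ, h]; group
    -- uniqueness
    have key : ∀ y : G, y • pt 0 0 = pt 0 0 → y • u • pt 0 0 = u • pt 0 0 → y * y = 1 → y ≠ 1 →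
        y = τ := by
      intro y h1 h2 h3 h4
      have h5 : g * y * g⁻¹ ∈ H := by
        rw [D.mem_H]
        constructor
        · rw [mul_smul, mul_smul, hgi, h1, hgO]
        · rw [mul_smul, mul_smul, hgO', h2, hguO]
      have h6 : g * y * g⁻¹ * (g * y * g⁻¹) = 1 := by
        calc g * y * g⁻¹ * (g * y * g⁻¹) = g * (y * y) * g⁻¹ := by group
          _ = 1 := by rw [h3]; group
      rcases D.t_unique _ h5 h6 with h7 | h7
      · exfalso
        apply h4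
        calc y = g⁻¹ * (g * y * g⁻¹) * g := by group
          _ = 1 := by rw [h7]; group
      · rw [hτ, ← h7]; group
    have hinvu : u⁻¹ • pt 0 0 = u • u • pt 0 0 := by
      rw [inv_smul_eq_iff]; exact hu3O.symm
    have h1 : u * τ * u⁻¹ = τ := by
      apply key
      · rw [mul_smul, mul_smul, hinvu, hτ3, hu3O]
      · rw [mul_smul, mul_smul, inv_smul_smul, hτ1]
      · calc u * τ * u⁻¹ * (u * τ * u⁻¹) = u * (τ * τ) * u⁻¹ := by group
          _ = 1 := by rw [hττ]; group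
      · intro h
        apply hτne
        calc τ = u⁻¹ * (u * τ * u⁻¹) * u := by group
          _ = 1 := by rw [h]; group
    have h2 : u * τ = τ * u := by
      calc u * τ = (u * τ * u⁻¹) * u := by group
        _ = τ * u := by rw [h1]
    have h3 : τ • inf = inf := by
      by_contra hne
      apply hu1
      apply hU_free _ hne u huU
      rw [← mul_smul, h2, mul_smul, D.U_inf u huU]
    have h4 : τ ∈ H := (D.mem_H τ).2 ⟨h3, hτ1⟩
    rcases D.t_unique τ h4 hττ with h5 | h5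
    · exact hτne h5
    · apply hcomm
      rw [← h5]; exact h2
  -- the element `k` of order three
  set k : G := g * u * g⁻¹ with hk'
  have hk1 : k • inf = pt 0 0 := by rw [hk', mul_smul, mul_smul, hgi, hguO]
  have hk2 : k • pt 0 0 = x := by rw [hk', mul_smul, mul_smul, hgO', hx]
  have hk3 : k • x = inf := by
    rw [hk', mul_smul, mul_smul, hx, inv_smul_smul, hu3O, hgO]
  obtain ⟨u1, hu1c⟩ := co_surj D hbP
  set m' : G := w * k * u1 with hm'
  have hmH : m' ∈ H := by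
    rw [D.mem_H]
    constructor
    · rw [hm', mul_smul, mul_smul, D.U_inf _ hu1c.1, hk1, w_O D]
    · rw [hm', mul_smul, mul_smul, hu1c.2.2, hbx, hk3, D.w_inf]
  obtain ⟨s', B'', hs', hst'⟩ := Sv_exists D (a := b)
  have hinv := co_inv_aux D hu1c hs' hst'
  have hB'ne := y_ne D hbP hb
  have hmm : m' • (u1⁻¹ • pt 0 0) = pt (e * b / B') (e ^ 2 / B') := by
    rw [hm', mul_smul, mul_smul, smul_inv_smul, hk2, ← hbx, D.w_act _ _ hbP hB'ne]
  obtain ⟨ψ, -, hact⟩ := D.H_act m' hmH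
  rw [hinv.2.2, hact _ _ hinv.2.1] at hmm
  have hcoord := D.pt_inj _ _ _ _ (pt_H D hinv.2.1) (pt_w D hbP hB'ne) hmm
  have h1 := rr_w D hbP hb
  rw [← hcoord.1, ← hcoord.2, rr_H ψ.ne_zero (neg_ne_zero.2 hb) D.σσ, rr_neg] at h1
  have h7 : rr σ e b (2 * B'' - B') = 2 * rr σ e b B'' - rr σ e b B' := by
    unfold rr
    ring
  rw [h7] at h1
  have h8 : (2 : F) * rr σ e b B'' = 0 := by linear_combination h1
  have h9 := (mul_eq_zero.1 h8).resolve_left D.two
  rw [hρ _ _ _ hs' hst'] at h9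
  exact ⟨b, hb, h9⟩

theorem rho_zero_three {ρ : F → F} (hρ : ∀ a s B, Co σ e pt U s a B → t * s * t⁻¹ = s⁻¹ →
    rr σ e a B = ρ a) (hΛ : ∀ χ ∈ Λ, ∃ ψ ∈ Λ, (ψ : F) = σ (χ : Fˣ)) (htop : Λ = ⊤)
    {m : ℕ} (hU : Nat.card U = 3 ^ m) {a : F} (ha : a ≠ 0) : ρ a = 0 := by
  obtain ⟨b, hb, h9⟩ := exists_rho_zero D hρ hU
  have h10 := rho_class D hρ hΛ (χ := Units.mk0 (a / b) (div_ne_zero ha hb)) (by simp [htop]) hb
  rw [h9] at h10
  have h11 : ((Units.mk0 (a / b) (div_ne_zero ha hb) : Fˣ) : F) * b = a := by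
    rw [Units.val_mk0, div_mul_cancel₀ a hb]
  rwa [h11] at h10

/-- coordinates of inverses -/
theorem co_inv {ρ : F → F} (hρ : ∀ a s B, Co σ e pt U s a B → t * s * t⁻¹ = s⁻¹ →
    rr σ e a B = ρ a) (hρ0 : ∀ a, a ≠ 0 → ρ a = 0) {u : G} {a A : F} (h : Co σ e pt U u a A) :
    Co σ e pt U u⁻¹ (-a) (- σ A) := by
  by_cases ha : a = 0
  · subst ha
    have h1 := co_T_inv D h
    rw [neg_zero, pt_fix_iff.1 h.2.1]
    exact h1
  · obtain ⟨s, B, hs, hst⟩ := Sv_exists D (a := a)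
    have h1 := co_inv_aux D h hs hst
    have h2 := hρ _ _ _ hs hst
    rw [hρ0 a ha] at h2
    have h3 : B = e * (a * σ a) := by
      unfold rr at h2
      have h4 : a * σ a ≠ 0 := mul_ne_zero ha ((map_ne_zero σ).2 ha)
      exact (div_eq_iff h4).1 (sub_eq_zero.1 h2)
    have h4 := h.2.1
    unfold Pt at h4
    have h5 : 2 * B - A = - σ A := by
      rw [h3]
      linear_combination (-1 : F) * h4
    rwa [h5] at h1

end

end Cfsg.Agent.ONan.StructU2
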