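import Cfsg.Agent.ONan.StructU2

/-!
# Odd unitary type: the structure of `U`, part 3: the first coordinate is additive
-/

set_option autoImplicit false

namespace Cfsg.Agent.ONan.StructU3

open Cfsg.Agent.ONan.StructU1

section

variable {G Ω F : Type*} [Group G] [MulAction G Ω] [Field F] {σ : F →+* F} {e : F}
  {Λ : Subgroup Fˣ} {inf : Ω} {pt : F → F → Ω} {U H : Subgroup G} {w t : G}

variable (D : Core σ e Λ inf pt U H w t)

include D

theorem pt_u2 {a A : F} (h : Pt σ e a A) (hA : A ≠ 0) : Pt σ e (-(e * a / σ A)) (e ^ 2 / A) := by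
  have h1 : σ A ≠ 0 := (map_ne_zero σ).2 hA
  unfold Pt at h ⊢
  simp only [map_neg, map_div₀, map_mul, map_pow, D.σe, D.σσ]
  field_simp
  linear_combination (-e ^ 2) * h

theorem conj_w (hinv : ∀ u a A, Co σ e pt U u a A → Co σ e pt U u⁻¹ (-a) (- σ A))
    {u u1 u2 : G} {a A : F} (ha : a ≠ 0) (h : Co σ e pt U u a A)
    (h1 : Co σ e pt U u1 (e * a / A) (e ^ 2 / A))
    (h2 : Co σ e pt U u2 (-(e * a / σ A)) (e ^ 2 / A)) :
    ∃ k ∈ H, w * u * w = u1 * k * w * u2 ∧ ∀ v y, Pt σ e v y →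
      Pt σ e (e * σ A / A ^ 2 * v) (-(e ^ 2 / (A * σ A)) * y) ∧
      k • pt v y = pt (e * σ A / A ^ 2 * v) (-(e ^ 2 / (A * σ A)) * y) := by
  have hA := y_ne D h.2.1 ha
  have hσA : σ A ≠ 0 := (map_ne_zero σ).2 hA
  have he := D.e0
  have hc0 : e ^ 2 / A ≠ 0 := div_ne_zero (pow_ne_zero 2 he) hA
  set k : G := u1⁻¹ * (w * u * w) * u2⁻¹ * w with hk
  have hi := hinv _ _ _ h
  have hu2i := hinv _ _ _ h2
  have hkw : w * u * w = u1 * k * w * u2 := by
    rw [hk]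
    calc w * u * w = (w * u * w) * u2⁻¹ * (1 : G) * u2 := by group
      _ = u1 * (u1⁻¹ * (w * u * w) * u2⁻¹ * w) * w * u2 := by rw [← D.w_sq]; group
  have hwu : w • u⁻¹ • pt 0 0 = u2⁻¹ • pt 0 0 := by
    rw [hi.2.2, hu2i.2.2, D.w_act _ _ hi.2.1 (neg_ne_zero.2 hσA)]
    congr 1
    · rw [neg_neg]; field_simp
    · simp only [map_div₀, map_pow, D.σe]
      field_simp
  have hkinf : k • inf = inf := by
    rw [hk]
    simp only [mul_smul]
    rw [D.w_inf, ← hwu]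
    have : w • w • u⁻¹ • pt 0 0 = u⁻¹ • pt 0 0 := by rw [smul_smul, D.w_sq, one_smul]
    rw [this, smul_inv_smul, w_O D, Uinv_inf D h1.1]
  have hkO : k • pt 0 0 = pt 0 0 := by
    rw [hk]
    simp only [mul_smul]
    rw [w_O D, Uinv_inf D h2.1, D.w_inf, h.2.2, D.w_act _ _ h.2.1 hA, ← h1.2.2, inv_smul_smul]
  have hkH : k ∈ H := (D.mem_H k).2 ⟨hkinf, hkO⟩
  refine ⟨k, hkH, hkw, ?_⟩
  obtain ⟨ψ, -, hact⟩ := D.H_act k hkH
  -- evaluate at `w u2 O`
  have hu1i := hinv _ _ _ h1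
  have hev : k • (w • u2 • pt 0 0) = u1⁻¹ • pt 0 0 := by
    have h3 : k * w * u2 = u1⁻¹ * (w * u * w) := by
      rw [hkw]; group
    rw [← mul_smul, ← mul_smul, h3]
    simp only [mul_smul]
    rw [w_O D, D.U_inf _ h.1, D.w_inf]
  rw [h2.2.2, D.w_act _ _ h2.2.1 hc0, hact _ _ (pt_w D h2.2.1 hc0), hu1i.2.2] at hev
  obtain ⟨g1, g2⟩ := D.pt_inj _ _ _ _ (pt_H D (pt_w D h2.2.1 hc0)) hu1i.2.1 hev
  have e1 : σ (ψ : F) = e * σ A / A ^ 2 := by
    have hσψ : σ (ψ : F) ≠ 0 := (map_ne_zero σ).2 ψ.ne_zero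
    field_simp at g1 ⊢
    linear_combination (-1 : F) * g1
  have e2 : (ψ : F) * σ ψ = -(e ^ 2 / (A * σ A)) := by
    simp only [map_div₀, map_pow, D.σe] at g2
    field_simp at g2 ⊢
    linear_combination g2
  intro v y hP
  have hH := pt_H D (ψ := (ψ : F)) hP
  rw [e2, e1] at hH
  exact ⟨hH, by rw [hact v y hP, e2, e1]⟩

/-- the basic product -/
theorem basic (hinv : ∀ u a A, Co σ e pt U u a A → Co σ e pt U u⁻¹ (-a) (- σ A))
    {a A s : F} (ha : a ≠ 0) (hP : Pt σ e a A) (hs : σ s = s) (hs0 : s ≠ 0) :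
    ∃ u1 u3 A1 A3 X, Co σ e pt U u1 (e * a / A) A1 ∧
      Co σ e pt U u3 (-(e ^ 3 * a / (A * (e ^ 2 + s * A)))) A3 ∧
      Co σ e pt U (u1 * u3) (e * a / (A + e ^ 2 / s)) X := by
  have hA := y_ne D hP ha
  have hσA : σ A ≠ 0 := (map_ne_zero σ).2 hA
  have he := D.e0
  obtain ⟨u, h⟩ := co_surj D hP
  obtain ⟨u1, h1⟩ := co_surj D (pt_w D hP hA)
  obtain ⟨u2, h2⟩ := co_surj D (pt_u2 D hP hA)
  obtain ⟨k, hk, hkw, hact⟩ := conj_w D hinv ha h h1 h2
  have hσe2 : σ (e ^ 2) = e ^ 2 := by rw [map_pow, D.σe]; ring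
  have hs' : σ (e ^ 2 / s) = e ^ 2 / s := by rw [map_div₀, hσe2, hs]
  obtain ⟨τ, hτ⟩ := co_surj D (pt_fix_iff.2 hs)
  obtain ⟨τ', hτ'⟩ := co_surj D (pt_fix_iff.2 hs')
  -- left side
  have hL1 : w • pt 0 s = pt 0 (e ^ 2 / s) := by
    rw [D.w_act _ _ (pt_fix_iff.2 hs) hs0, mul_zero, zero_div]
  have hPa : Pt σ e a (A + e ^ 2 / s) := pt_add hP hs'
  have hPa0 := y_ne D hPa ha
  have hL2 : u • pt 0 (e ^ 2 / s) = pt a (A + e ^ 2 / s) := by
    rw [← hτ'.2.2, ← mul_smul, ← (T_of_co D hτ').2.2 u h.1, mul_smul, h.2.2,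
      (T_of_co D hτ').2.1 _ _ hP]
  have hL : (w * u * w) • pt 0 s = pt (e * a / (A + e ^ 2 / s)) (e ^ 2 / (A + e ^ 2 / s)) := by
    rw [mul_smul, mul_smul, hL1, hL2, D.w_act _ _ hPa hPa0]
  -- right side
  have hv2 : -(e * a / σ A) ≠ 0 := neg_ne_zero.2 (div_ne_zero (mul_ne_zero he ha) hσA)
  have hPb : Pt σ e (-(e * a / σ A)) (e ^ 2 / A + s) := pt_add h2.2.1 hs
  have hPb0 := y_ne D hPb hv2
  have hR1 : u2 • pt 0 s = pt (-(e * a / σ A)) (e ^ 2 / A + s) := by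
    rw [← hτ.2.2, ← mul_smul, ← (T_of_co D hτ).2.2 u2 h2.1, mul_smul, h2.2.2,
      (T_of_co D hτ).2.1 _ _ h2.2.1]
  have hden : e ^ 2 + s * A ≠ 0 := by
    intro h0
    apply hPb0
    field_simp
    linear_combination h0
  have hPc := pt_w D hPb hPb0
  have hsum : e ^ 2 / A + s = (e ^ 2 + s * A) / A := by field_simp
  obtain ⟨hPd, hkpt⟩ := hact _ _ hPc
  have hv4 : e * σ A / A ^ 2 * (e * -(e * a / σ A) / (e ^ 2 / A + s)) =
      -(e ^ 3 * a / (A * (e ^ 2 + s * A))) := by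
    rw [hsum]
    field_simp
  rw [hv4] at hPd hkpt
  obtain ⟨u3, h3⟩ := co_surj D hPd
  have hR : (u1 * k * w * u2) • pt 0 s = (u1 * u3) • pt 0 0 := by
    simp only [mul_smul]
    rw [hR1, D.w_act _ _ hPb hPb0, hkpt, h3.2.2]
  rw [← hkw, hL] at hR
  exact ⟨u1, u3, _, _, _, h1, h3, mul_mem h1.1 h3.1, pt_w D hPa hPa0, hR.symm⟩

theorem add_pair (hinv : ∀ u a A, Co σ e pt U u a A → Co σ e pt U u⁻¹ (-a) (- σ A))
    {v v' : F} (hv : v ≠ 0) (hξ : σ (v' / v) ≠ v' / v) :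
    ∃ u1 u3 A1 A3 X, Co σ e pt U u1 v A1 ∧ Co σ e pt U u3 v' A3 ∧
      Co σ e pt U (u1 * u3) (v + v') X := by
  have he := D.e0
  have h2 := D.two
  set ξ : F := v' / v with hξd
  have hv' : v' = ξ * v := by rw [hξd, div_mul_cancel₀ _ hv]
  have hξ0 : ξ ≠ 0 := by
    intro h
    apply hξ
    rw [h, map_zero]
  have hξ1 : ξ + 1 ≠ 0 := by
    intro h
    apply hξ
    have : ξ = -1 := by linear_combination h
    rw [this, map_neg, map_one]
  have hσξ0 : σ ξ ≠ 0 := (map_ne_zero σ).2 hξ0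
  have hσξ1 : σ ξ + 1 ≠ 0 := by
    have := (map_ne_zero σ).2 hξ1
    rwa [map_add, map_one] at this
  have hd : σ ξ - ξ ≠ 0 := sub_ne_zero.2 hξ
  have hσv : σ v ≠ 0 := (map_ne_zero σ).2 hv
  set s : F := 2 * e * (v * σ v) * ((ξ + 1) * (σ ξ + 1)) / (σ ξ - ξ) with hs
  have hs0 : s ≠ 0 := by
    rw [hs]
    exact div_ne_zero (mul_ne_zero (mul_ne_zero (mul_ne_zero h2 he) (mul_ne_zero hv hσv))
      (mul_ne_zero hξ1 hσξ1)) hd
  have hd' : ξ - σ ξ ≠ 0 := sub_ne_zero.2 (Ne.symm hξ)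
  have hσs : σ s = s := by
    rw [hs]
    simp only [map_div₀, map_mul, map_sub, map_add, map_one, D.σσ, D.σe, map_ofNat]
    rw [div_eq_div_iff hd' hd]
    ring
  set A : F := -(e ^ 2 * (ξ + 1) / (ξ * s)) with hA
  have hA0 : A ≠ 0 := by
    rw [hA]
    exact neg_ne_zero.2 (div_ne_zero (mul_ne_zero (pow_ne_zero 2 he) hξ1) (mul_ne_zero hξ0 hs0))
  set a : F := v * A / e with ha
  have ha0 : a ≠ 0 := by
    rw [ha]
    exact div_ne_zero (mul_ne_zero hv hA0) he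
  have hP : Pt σ e a A := by
    unfold Pt
    have hσA : σ A = -(e ^ 2 * (σ ξ + 1) / (σ ξ * s)) := by
      rw [hA]
      simp only [map_neg, map_div₀, map_mul, map_add, map_one, map_pow, D.σe, hσs]
      ring
    have hσa : σ a = - (σ v * σ A / e) := by
      rw [ha]
      simp only [map_div₀, map_mul, D.σe]
      field_simp
    rw [hσa, ha, hσA, hA]
    have hs2 : s * (σ ξ - ξ) = 2 * e * (v * σ v) * ((ξ + 1) * (σ ξ + 1)) := by
      rw [hs, div_mul_cancel₀ _ hd]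
    field_simp
    linear_combination (-1 : F) * hs2
  obtain ⟨u1, u3, A1, A3, X, h1, h3, h13⟩ := basic D hinv ha0 hP hσs hs0
  have q1 : e * a / A = v := by
    rw [ha]
    field_simp
  have hden : e ^ 2 + s * A = - (e ^ 2 / ξ) := by
    rw [hA]
    field_simp
    ring
  have q3 : -(e ^ 3 * a / (A * (e ^ 2 + s * A))) = v' := by
    rw [hden, ha, hv']
    field_simp
  have q13 : e * a / (A + e ^ 2 / s) = v + v' := by
    have h5 : A + e ^ 2 / s = -(e ^ 2 / (ξ * s)) := by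
      rw [hA]
      field_simp
      ring
    rw [h5, ha, hv', hA]
    field_simp
    ring
  rw [q1] at h1
  rw [q3] at h3
  rw [q13] at h13
  exact ⟨u1, u3, A1, A3, X, h1, h3, h13⟩

theorem co_mul_of {u1 u3 u u' : G} {a b A1 A3 A B X : F} (h1 : Co σ e pt U u1 a A1)
    (h3 : Co σ e pt U u3 b A3) (h13 : Co σ e pt U (u1 * u3) (a + b) X)
    (h : Co σ e pt U u a A) (h' : Co σ e pt U u' b B) :
    Co σ e pt U (u * u') (a + b) (X + (A - A1) + (B - A3)) := by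
  obtain ⟨τ, hτ, rfl⟩ := co_eq_T_mul D h1 h
  obtain ⟨τ', hτ', rfl⟩ := co_eq_T_mul D h3 h'
  have h4 := co_T_mul D hτ (co_T_mul D hτ' h13)
  have h5 : τ * u1 * (τ' * u3) = τ * (τ' * (u1 * u3)) := by
    have := (T_of_co D hτ').2.2 u1 h1.1
    calc τ * u1 * (τ' * u3) = τ * (u1 * τ') * u3 := by group
      _ = τ * (τ' * (u1 * u3)) := by rw [← this]; group
  rw [h5]
  convert h4 using 1
  ring

/-- first coordinates are additive -/
theorem add_all (hinv : ∀ u a A, Co σ e pt U u a A → Co σ e pt U u⁻¹ (-a) (- σ A))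
    (a b : F) : ∃ u1 u3 A1 A3 X, Co σ e pt U u1 a A1 ∧ Co σ e pt U u3 b A3 ∧
      Co σ e pt U (u1 * u3) (a + b) X := by
  have he := D.e0
  have hex : ∀ a, ∃ u A, Co σ e pt U u a A := by
    intro a
    obtain ⟨s, B, h, -⟩ := Sv_exists D (a := a)
    exact ⟨s, B, h⟩
  obtain ⟨u, A, hu⟩ := hex a
  obtain ⟨u', B, hu'⟩ := hex b
  by_cases ha : a = 0
  · subst ha
    refine ⟨u, u', A, B, B + A, hu, hu', ?_⟩
    rw [zero_add]
    exact co_T_mul D hu hu'
  by_cases hb : b = 0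
  · subst hb
    refine ⟨u, u', A, B, A + B, hu, hu', ?_⟩
    rw [add_zero, ← (T_of_co D hu').2.2 u hu.1]
    exact co_T_mul D hu' hu
  by_cases hξ : σ (b / a) = b / a
  swap
  · exact add_pair D hinv ha hξ
  -- the remaining case
  have hσe' : ∀ x : F, x ≠ 0 → σ x = x → σ (e * x) ≠ e * x := by
    intro x hx hσx h
    rw [map_mul, D.σe, hσx] at h
    have : (2 : F) * (e * x) = 0 := by linear_combination (-1 : F) * h
    rcases mul_eq_zero.1 this with h' | h'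
    · exact D.two h'
    · exact mul_ne_zero he hx h'
  have hba : b / a ≠ 0 := div_ne_zero hb ha
  have hab : σ (a / b) = a / b := by
    have : (σ (b / a))⁻¹ = (b / a)⁻¹ := by rw [hξ]
    rw [← map_inv₀, inv_div] at this
    exact this
  set v0 : F := e * a with hv0
  obtain ⟨u0, A0, hu0⟩ := hex v0
  -- `b + v0`
  have h1 : σ (v0 / b) ≠ v0 / b := by
    have : v0 / b = e * (a / b) := by rw [hv0, mul_div_assoc]
    rw [this]
    exact hσe' _ (div_ne_zero ha hb) hab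
  obtain ⟨p1, p3, P1, P3, PX, hp1, hp3, hp13⟩ := add_pair D hinv hb h1
  have hX1 := co_mul_of D hp1 hp3 hp13 hu' hu0
  -- `a + (b + v0)`
  have h2 : σ ((b + v0) / a) ≠ (b + v0) / a := by
    have : (b + v0) / a = b / a + e := by rw [hv0]; field_simp
    rw [this, map_add, hξ, D.σe]
    intro h
    have : (2 : F) * e = 0 := by linear_combination (-1 : F) * h
    exact (mul_ne_zero D.two he) this
  obtain ⟨r1, r3, R1, R3, RX, hr1, hr3, hr13⟩ := add_pair D hinv ha h2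
  have hX2 := co_mul_of D hr1 hr3 hr13 hu hX1
  -- `(a + b) + v0`
  obtain ⟨g, C, hg⟩ := hex (a + b)
  have h3 : ∃ Z, Co σ e pt U (g * u0) (a + b + v0) Z := by
    by_cases hab0 : a + b = 0
    · rw [hab0] at hg ⊢
      rw [zero_add]
      exact ⟨_, co_T_mul D hg hu0⟩
    · have h4 : σ (v0 / (a + b)) ≠ v0 / (a + b) := by
        have h5 : v0 / (a + b) = e * (a / (a + b)) := by rw [hv0, mul_div_assoc]
        rw [h5]
        apply hσe' _ (div_ne_zero ha hab0)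
        have h6 : a / (a + b) = (1 + b / a)⁻¹ := by
          have : 1 + b / a = (a + b) / a := by field_simp
          rw [this, inv_div]
        rw [h6, map_inv₀, map_add, map_one, hξ]
      obtain ⟨q1, q3, Q1, Q3, QX, hq1, hq3, hq13⟩ := add_pair D hinv hab0 h4
      exact ⟨_, co_mul_of D hq1 hq3 hq13 hg hu0⟩
  obtain ⟨Z, hZ⟩ := h3
  have h7 : a + (b + v0) = a + b + v0 := by ring
  rw [h7] at hX2
  obtain ⟨τ, hτ, hτe⟩ := co_eq_T_mul D hZ hX2
  have h8 : u * u' = τ * g := by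
    have : u * (u' * u0) = (u * u') * u0 := by group
    rw [this, ← mul_assoc] at hτe
    exact mul_right_cancel hτe
  have h9 := co_T_mul D hτ hg
  rw [← h8] at h9
  exact ⟨u, u', A, B, _, hu, hu', h9⟩

/-- the multiplication of `U` in coordinates -/
theorem exists_Phi (hinv : ∀ u a A, Co σ e pt U u a A → Co σ e pt U u⁻¹ (-a) (- σ A)) :
    ∃ Φ : F → F → F, ∀ u u' a A b B, Co σ e pt U u a A → Co σ e pt U u' b B →
      Co σ e pt U (u * u') (a + b) (A + B + Φ a b) := by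
  choose u1 u3 A1 A3 X h1 h3 h13 using fun a b => add_all D hinv a b
  refine ⟨fun a b => X a b - A1 a b - A3 a b, fun u u' a A b B hu hu' => ?_⟩
  have := co_mul_of D (h1 a b) (h3 a b) (h13 a b) hu hu'
  convert this using 1
  ring

end

end Cfsg.Agent.ONan.StructU3
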