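import Cfsg.Agent.ONan.StructU3

/-!
# Odd unitary type: the structure of `U`, part 4: the cocycle
-/

set_option autoImplicit false

namespace Cfsg.Agent.ONan.StructU4

open Cfsg.Agent.ONan.StructU1 Cfsg.Agent.ONan.StructU3

/-! ### pure algebra: a cocycle with values in the fixed field -/

section Alg

variable {F : Type*} [Field F] {σ : F →+* F} {e : F}

/-- a skew cocycle is biadditive -/
theorem additive_of_cocycle (two : (2 : F) ≠ 0) {φ : F → F → F}
    (hskew : ∀ a b, φ b a = - φ a b)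
    (hcoc : ∀ a b c, φ a b + φ (a + b) c = φ b c + φ a (b + c)) (a b c : F) :
    φ (a + b) c = φ a c + φ b c := by
  have h1 := hcoc a b c
  have h2 := hcoc a c b
  have h3 := hcoc c a b
  have s1 := hskew a c
  have s2 := hskew b c
  have s3 := hskew (a + b) c
  have e1 : a + c = c + a := add_comm _ _
  have e2 : b + c = c + b := add_comm _ _
  rw [e1] at h2
  rw [← e2] at h2
  have h4 : (2 : F) * (φ (a + b) c - φ a c - φ b c) = 0 := by
    linear_combination h1 - h2 + h3 + s3 - s1 - s2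
  have h5 := (mul_eq_zero.1 h4).resolve_left two
  linear_combination h5

theorem linear_of_quadratic {q : ℕ} (hq0 : (q : F) = 0)
    (hσq : ∀ x, σ x = x ^ q) {φ : F → F → F} (hskew : ∀ a b, φ b a = - φ a b)
    (hadd : ∀ a b c, φ (a + b) c = φ a c + φ b c)
    (hquad : ∀ r, r ≠ 0 → σ r = r → ∀ a b, φ (r * a) (r * b) = r ^ 2 * φ a b)
    {r : F} (hr : σ r = r) (a b : F) : φ a (r * b) = r * φ a b := by
  have hadd' : ∀ a b c, φ a (b + c) = φ a b + φ a c := by
    intro a b c
    rw [hskew (b + c) a, hadd, hskew b a, hskew c a]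
    ring
  have h0l : ∀ c, φ 0 c = 0 := by
    intro c
    have := hadd 0 0 c
    rw [add_zero] at this
    linear_combination (-1 : F) * this
  have h0r : ∀ c, φ c 0 = 0 := by
    intro c
    rw [hskew 0 c, h0l, neg_zero]
  by_cases hr0 : r = 0
  · subst hr0
    rw [zero_mul, zero_mul, h0r]
  have hquad' : ∀ s, σ s = s → ∀ a b, φ (s * a) (s * b) = s ^ 2 * φ a b := by
    intro s hs a b
    by_cases hs0 : s = 0
    · subst hs0
      rw [zero_mul, zero_mul, h0r]
      ring
    · exact hquad s hs0 hs a b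
  have hpol : ∀ a b, φ (r * a) b + φ a (r * b) = 2 * r * φ a b := by
    intro a b
    have h1 := hquad' (r + 1) (by rw [map_add, hr, map_one]) a b
    have h2 := hquad' r hr a b
    have e1 : (r + 1) * a = r * a + a := by ring
    have e2 : (r + 1) * b = r * b + b := by ring
    rw [e1, e2, hadd, hadd', hadd', h2] at h1
    linear_combination h1
  have hpol2 : ∀ b, φ a (r * (r * b)) - r * φ a (r * b) = r * (φ a (r * b) - r * φ a b) := by
    intro b
    have h1 := hpol a (r * b)
    rw [hquad' r hr] at h1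
    linear_combination h1
  have hind1 : ∀ n : ℕ, φ a (r * (r ^ n * b)) - r * φ a (r ^ n * b) =
      r ^ n * (φ a (r * b) - r * φ a b) := by
    intro n
    induction n with
    | zero => simp
    | succ n ih =>
      have h1 := hpol2 (r ^ n * b)
      have e1 : r ^ (n + 1) * b = r * (r ^ n * b) := by ring
      rw [e1, h1, ih]
      ring
  have hind2 : ∀ n : ℕ, φ a (r ^ n * b) * r =
      r ^ (n + 1) * φ a b + n * (r ^ n * (φ a (r * b) - r * φ a b)) := by
    intro n
    induction n with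
    | zero => simp; ring
    | succ n ih =>
      have h1 := hind1 n
      have e1 : r ^ (n + 1) * b = r * (r ^ n * b) := by ring
      have h2 : φ a (r * (r ^ n * b)) = r * φ a (r ^ n * b) +
        r ^ n * (φ a (r * b) - r * φ a b) := by linear_combination h1
      rw [e1, h2]
      push_cast
      linear_combination r * ih
  have h1 := hind2 q
  have h2 : r ^ q = r := by rw [← hσq, hr]
  rw [hq0, zero_mul, add_zero, pow_succ, h2] at h1
  have h3 : (φ a (r * b) - r * φ a b) * r = 0 := by linear_combination h1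
  have h4 := (mul_eq_zero.1 h3).resolve_right hr0
  linear_combination h4

/-- an alternating form over the fixed field -/
theorem form_eq (two : (2 : F) ≠ 0) (e0 : e ≠ 0) (hσσ : ∀ x, σ (σ x) = x) (hσe : σ e = -e)
    {φ : F → F → F} (hskew : ∀ a b, φ b a = - φ a b)
    (hadd : ∀ a b c, φ (a + b) c = φ a c + φ b c)
    (hlin : ∀ r, σ r = r → ∀ a b, φ a (r * b) = r * φ a b) (a b : F) :
    φ a b = (φ 1 e / (2 * e ^ 2)) * (e * (σ a * b - a * σ b)) := by
  have hadd' : ∀ a b c, φ a (b + c) = φ a b + φ a c := by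
    intro a b c
    rw [hskew (b + c) a, hadd, hskew b a, hskew c a]
    ring
  have hlin' : ∀ r, σ r = r → ∀ a b, φ (r * a) b = r * φ a b := by
    intro r hr a b
    rw [hskew b (r * a), hlin r hr, hskew a b]
    ring
  have halt : ∀ a, φ a a = 0 := by
    intro a
    have h := hskew a a
    have : (2 : F) * φ a a = 0 := by linear_combination h
    exact (mul_eq_zero.1 this).resolve_left two
  have hx : ∀ x : F, x = ((x + σ x) / 2) * 1 + ((x - σ x) / (2 * e)) * e := by
    intro x
    field_simp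
    ring
  have hf1 : ∀ x : F, σ ((x + σ x) / 2) = (x + σ x) / 2 := by
    intro x
    rw [map_div₀, map_add, hσσ, map_ofNat, add_comm]
  have hf2 : ∀ x : F, σ ((x - σ x) / (2 * e)) = (x - σ x) / (2 * e) := by
    intro x
    rw [map_div₀, map_sub, hσσ, map_mul, map_ofNat, hσe]
    field_simp
    ring
  conv_lhs => rw [hx a, hx b]
  rw [hadd, hadd', hadd', hlin _ (hf1 b), hlin _ (hf2 b), hlin _ (hf1 b), hlin _ (hf2 b),
    hlin' _ (hf1 a), hlin' _ (hf1 a), hlin' _ (hf2 a), hlin' _ (hf2 a), halt, halt, hskew 1 e]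
  field_simp
  ring

end Alg

section

variable {G Ω F : Type*} [Group G] [MulAction G Ω] [Field F] {σ : F →+* F} {e : F}
  {Λ : Subgroup Fˣ} {inf : Ω} {pt : F → F → Ω} {U H : Subgroup G} {w t : G}

theorem mul_formula (D : Core σ e Λ inf pt U H w t)
    (hinv : ∀ u a A, Co σ e pt U u a A → Co σ e pt U u⁻¹ (-a) (- σ A))
    {q : ℕ} (hq0 : (q : F) = 0) (hσq : ∀ x, σ x = x ^ q)
    (hfix : ∀ r : F, r ≠ 0 → σ r = r → ∃ h ∈ H, ∀ v y, Pt σ e v y →
      h • pt v y = pt (σ r * v) (r * σ r * y)) :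
    ∀ u a A, Co σ e pt U u a A → ∀ v y, Pt σ e v y →
      u • pt v y = pt (a + v) (A + y + 2 * e * σ a * v) := by
  obtain ⟨Φ, hΦ⟩ := exists_Phi D hinv
  have he := D.e0
  have two := D.two
  have hex : ∀ a, ∃ u A, Co σ e pt U u a A := by
    intro a
    obtain ⟨s, B, h, -⟩ := Sv_exists D (a := a)
    exact ⟨s, B, h⟩
  -- action
  have hact : ∀ u a A, Co σ e pt U u a A → ∀ v y, Pt σ e v y →
      Pt σ e (a + v) (A + y + Φ a v) ∧ u • pt v y = pt (a + v) (A + y + Φ a v) := by
    intro u a A h v y hvy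
    obtain ⟨u', hu'⟩ := co_surj D hvy
    have h1 := hΦ u u' a A v y h hu'
    refine ⟨h1.2.1, ?_⟩
    rw [← hu'.2.2, ← mul_smul, h1.2.2]
  -- properties of `Φ`
  have hneg : ∀ a b, Φ (-a) (-b) = Φ a b := by
    intro a b
    obtain ⟨u, A, hu⟩ := hex a
    obtain ⟨u', B, hu'⟩ := hex b
    have h1 := co_tconj D (hΦ u u' a A b B hu hu')
    have h2 := hΦ _ _ _ _ _ _ (co_tconj D hu) (co_tconj D hu')
    have h3 : t * (u * u') * t⁻¹ = t * u * t⁻¹ * (t * u' * t⁻¹) := by group
    rw [h3] at h1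
    have h4 := (co_fun D h1 h2).2
    linear_combination (-1 : F) * h4
  have hbar : ∀ a b, Φ b a = - σ (Φ a b) := by
    intro a b
    obtain ⟨u, A, hu⟩ := hex a
    obtain ⟨u', B, hu'⟩ := hex b
    have h1 := hinv _ _ _ (hΦ u u' a A b B hu hu')
    have h2 := hΦ _ _ _ _ _ _ (hinv _ _ _ hu') (hinv _ _ _ hu)
    rw [← mul_inv_rev] at h2
    have h4 := (co_fun D h1 h2).2
    rw [hneg, map_add, map_add] at h4
    linear_combination (-1 : F) * h4
  have hcoc : ∀ a b c, Φ a b + Φ (a + b) c = Φ b c + Φ a (b + c) := by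
    intro a b c
    obtain ⟨u, A, hu⟩ := hex a
    obtain ⟨u', B, hu'⟩ := hex b
    obtain ⟨u'', C, hu''⟩ := hex c
    have h1 := hΦ _ _ _ _ _ _ (hΦ u u' a A b B hu hu') hu''
    have h2 := hΦ _ _ _ _ _ _ hu (hΦ u' u'' b B c C hu' hu'')
    rw [mul_assoc] at h1
    have h4 := (co_fun D h1 h2).2
    linear_combination h4
  have htr : ∀ a b, Φ a b - σ (Φ a b) = 2 * e * (a * σ b + b * σ a) := by
    intro a b
    obtain ⟨u, A, hu⟩ := hex a
    obtain ⟨u', B, hu'⟩ := hex b
    have h1 := (hΦ u u' a A b B hu hu').2.1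
    have h2 := hu.2.1
    have h3 := hu'.2.1
    unfold Pt at h1 h2 h3
    simp only [map_add] at h1
    linear_combination h1 - h2 - h3
  have hH : ∀ r, r ≠ 0 → σ r = r → ∀ a b, Φ (r * a) (r * b) = r ^ 2 * Φ a b := by
    intro r hr hσr a b
    obtain ⟨h, hh, hact⟩ := hfix r hr hσr
    obtain ⟨u, A, hu⟩ := hex a
    obtain ⟨u', B, hu'⟩ := hex b
    have h1 := co_hconj D hh hact (hΦ u u' a A b B hu hu')
    have h2 := hΦ _ _ _ _ _ _ (co_hconj D hh hact hu) (co_hconj D hh hact hu')
    have h3 : h * (u * u') * h⁻¹ = h * u * h⁻¹ * (h * u' * h⁻¹) := by group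
    rw [h3] at h1
    have h4 := (co_fun D h1 h2).2
    rw [hσr] at h4
    linear_combination (-1 : F) * h4
  -- the form `φ`
  set φ : F → F → F := fun a b => Φ a b - e * (a * σ b + b * σ a) with hφ
  have hskew : ∀ a b, φ b a = - φ a b := by
    intro a b
    simp only [hφ]
    rw [hbar a b]
    linear_combination htr a b
  have hcoc' : ∀ a b c, φ a b + φ (a + b) c = φ b c + φ a (b + c) := by
    intro a b c
    simp only [hφ, map_add]
    linear_combination hcoc a b c
  have hadd := additive_of_cocycle two hskew hcoc'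
  have hquad : ∀ r, r ≠ 0 → σ r = r → ∀ a b, φ (r * a) (r * b) = r ^ 2 * φ a b := by
    intro r hr hσr a b
    simp only [hφ, map_mul, hσr]
    rw [hH r hr hσr]
    ring
  have hlin : ∀ r, σ r = r → ∀ a b, φ a (r * b) = r * φ a b :=
    fun r hr a b => linear_of_quadratic hq0 hσq hskew hadd hquad hr a b
  have hform := form_eq two he D.σσ D.σe hskew hadd hlin
  set κ : F := φ 1 e / (2 * e ^ 2) with hκ
  have hΦκ : ∀ a b, Φ a b = e * (a * σ b + b * σ a) + κ * (e * (σ a * b - a * σ b)) := by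
    intro a b
    rw [← hform a b]
    simp only [hφ]
    ring
  -- determination of `κ`
  have hκ1 : κ = 1 := by
    have hP1 : Pt σ e 1 e := by
      unfold Pt
      rw [D.σe, map_one]
      ring
    obtain ⟨u, hu⟩ := co_surj D hP1
    have hu1 : Co σ e pt U u (e * 1 / e) (e ^ 2 / e) := by
      have e1 : e * 1 / e = 1 := by field_simp
      have e2 : e ^ 2 / e = e := by field_simp
      rw [e1, e2]; exact hu
    have hu2 : Co σ e pt U u (-(e * 1 / σ e)) (e ^ 2 / e) := by
      have e1 : -(e * 1 / σ e) = 1 := by rw [D.σe]; field_simp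
      have e2 : e ^ 2 / e = e := by field_simp
      rw [e1, e2]; exact hu
    obtain ⟨k, hk, hkw, hkact⟩ := conj_w D hinv one_ne_zero hu hu1 hu2
    have hkact' : ∀ v y, Pt σ e v y → Pt σ e (-v) y ∧ k • pt v y = pt (-v) y := by
      intro v y h
      have := hkact v y h
      have e1 : e * σ e / e ^ 2 * v = -v := by rw [D.σe]; field_simp
      have e2 : -(e ^ 2 / (e * σ e)) * y = y := by rw [D.σe]; field_simp
      rw [e1, e2] at this
      exact this
    -- the point
    have hP : Pt σ e 1 (1 + e) := by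
      unfold Pt
      rw [map_add, D.σe, map_one]
      ring
    have hfixne : ∀ c : F, σ c = c → c ≠ 0 → (1 : F) + c * e ≠ 0 := by
      intro c hc hc0 h
      have h1 : σ (1 + c * e) = 0 := by rw [h, map_zero]
      rw [map_add, map_mul, map_one, hc, D.σe] at h1
      have h2 : (2 : F) = 0 := by linear_combination h + h1
      exact two h2
    have n1 : (1 : F) + e ≠ 0 := by
      have := hfixne 1 (map_one σ) one_ne_zero
      rwa [one_mul] at this
    have n1' : (1 : F) - e ≠ 0 := by
      have := (map_ne_zero σ).2 n1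
      rw [map_add, map_one, D.σe] at this
      rwa [sub_eq_add_neg]
    have n2 : (1 : F) + 2 * e ≠ 0 := hfixne 2 (map_ofNat σ 2) two
    have four : (4 : F) ≠ 0 := by
      have : (4 : F) = 2 * 2 := by norm_num
      rw [this]; exact mul_ne_zero two two
    have n4 : (1 : F) + 4 * e ≠ 0 := hfixne 4 (map_ofNat σ 4) four
    -- left side
    have hwP := pt_w D hP n1
    obtain ⟨L1, L2⟩ := hact u 1 e hu _ _ hwP
    have hvne : (1 : F) + e * 1 / (1 + e) ≠ 0 := by
      have : (1 : F) + e * 1 / (1 + e) = (1 + 2 * e) / (1 + e) := by field_simp; ring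
      rw [this]
      exact div_ne_zero n2 n1
    have hDne := y_ne D L1 hvne
    have hL : (w * u * w) • pt 1 (1 + e) =
        pt (e * (1 + e * 1 / (1 + e)) / (e + e ^ 2 / (1 + e) + Φ 1 (e * 1 / (1 + e))))
          (e ^ 2 / (e + e ^ 2 / (1 + e) + Φ 1 (e * 1 / (1 + e)))) := by
      rw [mul_smul, mul_smul, D.w_act _ _ hP n1, L2, D.w_act _ _ L1 hDne]
    -- right side
    obtain ⟨R1, R2⟩ := hact u 1 e hu _ _ hP
    have h11 : Φ 1 1 = 2 * e := by
      rw [hΦκ, map_one]; ring
    have hy4 : e + (1 + e) + Φ 1 1 = 1 + 4 * e := by rw [h11]; ring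
    have h2v : (1 : F) + 1 = 2 := by norm_num
    rw [hy4, h2v] at R1 R2
    have hwR := pt_w D R1 n4
    obtain ⟨K1, K2⟩ := hkact' _ _ hwR
    obtain ⟨Q1, Q2⟩ := hact u 1 e hu _ _ K1
    have hR : (u * k * w * u) • pt 1 (1 + e) = pt (1 + -(e * 2 / (1 + 4 * e)))
        (e + e ^ 2 / (1 + 4 * e) + Φ 1 (-(e * 2 / (1 + 4 * e)))) := by
      rw [mul_smul, mul_smul, mul_smul, R2, D.w_act _ _ R1 n4, K2, Q2]
    rw [hkw, hR] at hL
    have hv := (D.pt_inj _ _ _ _ Q1 (pt_w D L1 hDne) hL).1
    have hB : σ (e * 1 / (1 + e)) = -(e / (1 - e)) := by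
      rw [map_div₀, map_mul, map_add, D.σe, map_one, ← sub_eq_add_neg]
      ring
    have hDval : (1 + e) * (e + e ^ 2 / (1 + e) + Φ 1 (e * 1 / (1 + e))) =
        e + 2 * e ^ 2 + 2 * e ^ 2 * (κ - e) / (1 - e) := by
      rw [hΦκ, hB, map_one]
      field_simp
      ring
    set DD : F := e + e ^ 2 / (1 + e) + Φ 1 (e * 1 / (1 + e)) with hDD
    -- compare
    have h5 : (1 + e) * DD = e * (1 + 4 * e) := by
      have h6 : (1 : F) + -(e * 2 / (1 + 4 * e)) = (1 + 2 * e) / (1 + 4 * e) := by
        rw [eq_div_iff n4]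
        have : e * 2 / (1 + 4 * e) * (1 + 4 * e) = e * 2 := div_mul_cancel₀ _ n4
        linear_combination (-1 : F) * this
      have h7 : e * (1 + e * 1 / (1 + e)) / DD = e * (1 + 2 * e) / ((1 + e) * DD) := by
        field_simp
        ring
      rw [h6, h7] at hv
      have n5 : (1 + e) * DD ≠ 0 := mul_ne_zero n1 hDne
      rw [div_eq_div_iff n4 n5] at hv
      have h8 : (1 + 2 * e) * ((1 + e) * DD - e * (1 + 4 * e)) = 0 := by
        linear_combination hv
      have h9 := (mul_eq_zero.1 h8).resolve_left n2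
      linear_combination h9
    rw [hDval] at h5
    have h6 : 2 * e ^ 2 * (κ - 1) = 0 := by
      field_simp at h5
      have h7 : e * (e * (2 * (κ - 1))) = 0 := by linear_combination e * h5
      linear_combination h7
    have h7 := (mul_eq_zero.1 h6).resolve_left (mul_ne_zero two (pow_ne_zero 2 he))
    linear_combination h7
  intro u a A h v y hvy
  rw [(hact u a A h v y hvy).2, hΦκ, hκ1]
  congr 1
  ring

end

end Cfsg.Agent.ONan.StructU4
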