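import Cfsg.Agent.ONan.StructU2

/-!
# Odd unitary type: the structure of `U`, part 5: the invariant `ρ` vanishes (general index)
-/

set_option autoImplicit false

namespace Cfsg.Agent.ONan.StructU5

open Cfsg.Agent.ONan.StructU1 Cfsg.Agent.ONan.StructU2

section

variable {G Ω F : Type*} [Group G] [MulAction G Ω] [Field F] {σ : F →+* F} {e : F}
  {Λ : Subgroup Fˣ} {inf : Ω} {pt : F → F → Ω} {U H : Subgroup G} {w t : G}

variable (D : Core σ e Λ inf pt U H w t)

include D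

theorem rho_neg {ρ : F → F} (hρ : ∀ a s B, Co σ e pt U s a B → t * s * t⁻¹ = s⁻¹ →
    rr σ e a B = ρ a) (a : F) : ρ (-a) = ρ a := by
  obtain ⟨s, B, h1, h2⟩ := Sv_exists D (a := a)
  have h3 : t * s⁻¹ * t⁻¹ = (s⁻¹)⁻¹ := by
    have := congrArg (·⁻¹) h2
    simpa [mul_assoc] using this
  have h4 := hρ _ _ _ (co_Sv_inv D h1 h2) h3
  rw [← h4, rr_neg]
  exact hρ _ _ _ h1 h2

/-- the value of `rr` at the inverse -/
theorem rr_inv {ρ : F → F} (hρ : ∀ a s B, Co σ e pt U s a B → t * s * t⁻¹ = s⁻¹ →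
    rr σ e a B = ρ a) {u : G} {a A : F} (h : Co σ e pt U u a A) :
    ∃ A', Co σ e pt U u⁻¹ (-a) A' ∧ rr σ e a A' = - rr σ e a A + 2 * ρ a ∧
      (a ≠ 0 → A' = 2 * ((ρ a + e) * (a * σ a)) - A) := by
  obtain ⟨s, B, h1, h2⟩ := Sv_exists D (a := a)
  have h3 := hρ _ _ _ h1 h2
  refine ⟨_, co_inv_aux D h h1 h2, ?_, ?_⟩
  · rw [← h3]
    unfold rr
    ring
  · intro ha
    have h4 : a * σ a ≠ 0 := mul_ne_zero ha ((map_ne_zero σ).2 ha)
    rw [← h3]
    unfold rr
    rw [sub_add_cancel, div_mul_cancel₀ _ h4]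

/-- the general relation -/
theorem rho_rel_gen {ρ : F → F} (hρ : ∀ a s B, Co σ e pt U s a B → t * s * t⁻¹ = s⁻¹ →
    rr σ e a B = ρ a) {a A : F} (ha : a ≠ 0) (hP : Pt σ e a A) :
    ρ a + ρ (e * a / A) + ρ (e * a / (2 * ((ρ a + e) * (a * σ a)) - A)) = 0 := by
  have he := D.e0
  have hA := y_ne D hP ha
  obtain ⟨u, h⟩ := co_surj D hP
  obtain ⟨A', hi, hrr, hA'⟩ := rr_inv D hρ h
  rw [← hA' ha]
  have hna : -a ≠ 0 := neg_ne_zero.2 ha
  have hA0 := y_ne D hi.2.1 hna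
  -- `w u O` and `w u⁻¹ O`
  have hP1 := pt_w D hP hA
  have hP2 := pt_w D hi.2.1 hA0
  obtain ⟨u1, h1⟩ := co_surj D hP1
  obtain ⟨v2, h2⟩ := co_surj D hP2
  have hw1 : w • u • pt 0 0 = u1 • pt 0 0 := by
    rw [h.2.2, h1.2.2, D.w_act _ _ hP hA]
  have hw2 : w • u⁻¹ • pt 0 0 = v2 • pt 0 0 := by
    rw [hi.2.2, h2.2.2, D.w_act _ _ hi.2.1 hA0]
  set k : G := u1⁻¹ * (w * u * w) * v2 * w with hk
  have hkinf : k • inf = inf := by
    rw [hk]
    simp only [mul_smul]
    rw [D.w_inf, ← hw2]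
    have : w • w • u⁻¹ • pt 0 0 = u⁻¹ • pt 0 0 := by rw [smul_smul, D.w_sq, one_smul]
    rw [this, smul_inv_smul, w_O D, Uinv_inf D h1.1]
  have hkO : k • pt 0 0 = pt 0 0 := by
    rw [hk]
    simp only [mul_smul]
    rw [w_O D, D.U_inf _ h2.1, D.w_inf, hw1, inv_smul_smul]
  have hkH : k ∈ H := (D.mem_H k).2 ⟨hkinf, hkO⟩
  obtain ⟨ψ, -, hact⟩ := D.H_act k hkH
  obtain ⟨A2, i2, r2, -⟩ := rr_inv D hρ h2
  obtain ⟨A1, i1, r1, -⟩ := rr_inv D hρ h1
  have hv1 : e * a / A ≠ 0 := div_ne_zero (mul_ne_zero he ha) hA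
  have hv2 : e * -a / A' ≠ 0 := div_ne_zero (mul_ne_zero he hna) hA0
  have hA2 := y_ne D i2.2.1 (neg_ne_zero.2 hv2)
  have hev : k • (w • v2⁻¹ • pt 0 0) = u1⁻¹ • pt 0 0 := by
    rw [hk]
    simp only [mul_smul]
    have : w • w • v2⁻¹ • pt 0 0 = v2⁻¹ • pt 0 0 := by rw [smul_smul, D.w_sq, one_smul]
    rw [this, smul_inv_smul, w_O D, D.U_inf _ h.1, D.w_inf]
  rw [i2.2.2, D.w_act _ _ i2.2.1 hA2, hact _ _ (pt_w D i2.2.1 hA2), i1.2.2] at hev
  obtain ⟨g1, g2⟩ := D.pt_inj _ _ _ _ (pt_H D (pt_w D i2.2.1 hA2)) i1.2.1 hev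
  have hv2' : e * -(e * -a / A') / A2 ≠ 0 :=
    div_ne_zero (mul_ne_zero he (neg_ne_zero.2 hv2)) hA2
  have q1 := rr_H (σ := σ) (e := e) (y := e ^ 2 / A2) ψ.ne_zero hv2' D.σσ
  rw [g1, g2, rr_neg, rr_w D i2.2.1 (neg_ne_zero.2 hv2), rr_neg, r1, r2, rr_w D hP ha,
    rr_w D hi.2.1 hna, rr_neg, hrr] at q1
  have hneg : ρ (e * -a / A') = ρ (e * a / A') := by
    have : e * -a / A' = -(e * a / A') := by ring
    rw [this, rho_neg D hρ]
  rw [hneg] at q1
  have h3 : (2 : F) * (ρ a + ρ (e * a / A) + ρ (e * a / A')) = 0 := by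
    linear_combination q1
  exact (mul_eq_zero.1 h3).resolve_left D.two

variable [Fintype F]

omit D in
open Classical in
/-- the fixed field as a finset -/
noncomputable def KK (σ : F →+* F) : Finset F := Finset.univ.filter (fun x => σ x = x)

omit D [MulAction G Ω] [Group G] in
theorem mem_KK {x : F} : x ∈ KK σ ↔ σ x = x := by
  simp [KK]

omit D [MulAction G Ω] [Group G] in
theorem card_KK : ((KK σ).card : F) = 0 := by
  have h1 : ∑ r ∈ KK σ, r = ∑ r ∈ KK σ, (r + 1) := by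
    refine Finset.sum_nbij' (fun r => r - 1) (fun r => r + 1) ?_ ?_ ?_ ?_ ?_
    · intro r hr
      rw [mem_KK] at hr ⊢
      rw [map_sub, hr, map_one]
    · intro r hr
      rw [mem_KK] at hr ⊢
      rw [map_add, hr, map_one]
    · intro r _; ring
    · intro r _; ring
    · intro r _; ring
  rw [Finset.sum_add_distrib, Finset.sum_const, nsmul_eq_mul, mul_one] at h1
  linear_combination (-1 : F) * h1

theorem sum_f {ρ : F → F} (hρ : ∀ a s B, Co σ e pt U s a B → t * s * t⁻¹ = s⁻¹ →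
    rr σ e a B = ρ a) (hcls : ∀ r, r ≠ 0 → σ r = r → ∀ a, a ≠ 0 → ρ (r * a) = ρ a)
    (hKfix : ∀ a, a ≠ 0 → σ (ρ a) = ρ a) {a : F} (ha : a ≠ 0) :
    ∑ r ∈ KK σ, ρ (e * a / (e + r)) = 0 := by
  have he := D.e0
  have hden : ∀ r, σ r = r → e + r ≠ 0 := by
    intro r hr h
    have h1 : σ (e + r) = 0 := by rw [h, map_zero]
    rw [map_add, D.σe, hr] at h1
    have h2 : (2 : F) * e = 0 := by linear_combination h - h1
    exact (mul_ne_zero D.two he) h2
  have hσa : σ a ≠ 0 := (map_ne_zero σ).2 ha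
  have hN : a * σ a ≠ 0 := mul_ne_zero ha hσa
  have hNfix : σ ((a * σ a)⁻¹) = (a * σ a)⁻¹ := by
    rw [map_inv₀, map_mul, D.σσ, mul_comm]
  have hrel : ∀ r, σ r = r →
      ρ a + ρ (e * a / (e + r)) + ρ (e * a / (e + (2 * ρ a - r))) = 0 := by
    intro r hr
    have hP : Pt σ e a ((e + r) * (a * σ a)) := by
      unfold Pt
      simp only [map_mul, map_add, D.σe, hr, D.σσ]
      ring
    have h1 := rho_rel_gen D hρ ha hP
    have e1 : e * a / ((e + r) * (a * σ a)) = (a * σ a)⁻¹ * (e * a / (e + r)) := by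
      rw [div_mul_eq_div_div, div_eq_inv_mul _ (a * σ a)]
    have hr' : σ (2 * ρ a - r) = 2 * ρ a - r := by
      rw [map_sub, map_mul, map_ofNat, hKfix a ha, hr]
    have e2 : e * a / (2 * ((ρ a + e) * (a * σ a)) - (e + r) * (a * σ a)) =
        (a * σ a)⁻¹ * (e * a / (e + (2 * ρ a - r))) := by
      have : 2 * ((ρ a + e) * (a * σ a)) - (e + r) * (a * σ a) =
        (e + (2 * ρ a - r)) * (a * σ a) := by ring
      rw [this, div_mul_eq_div_div, div_eq_inv_mul _ (a * σ a)]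
    rw [e1, e2, hcls _ (inv_ne_zero hN) hNfix _ (div_ne_zero (mul_ne_zero he ha) (hden r hr)),
      hcls _ (inv_ne_zero hN) hNfix _ (div_ne_zero (mul_ne_zero he ha) (hden _ hr'))] at h1
    exact h1
  have h2 : ∑ r ∈ KK σ, (ρ a + ρ (e * a / (e + r)) + ρ (e * a / (e + (2 * ρ a - r)))) = 0 :=
    Finset.sum_eq_zero fun r hr => hrel r (mem_KK.1 hr)
  have h3 : ∑ r ∈ KK σ, ρ (e * a / (e + (2 * ρ a - r))) = ∑ r ∈ KK σ, ρ (e * a / (e + r)) := by
    refine Finset.sum_nbij' (fun r => 2 * ρ a - r) (fun r => 2 * ρ a - r) ?_ ?_ ?_ ?_ ?_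
    · intro r hr
      rw [mem_KK] at hr ⊢
      rw [map_sub, map_mul, map_ofNat, hKfix a ha, hr]
    · intro r hr
      rw [mem_KK] at hr ⊢
      rw [map_sub, map_mul, map_ofNat, hKfix a ha, hr]
    · intro r _; ring
    · intro r _; ring
    · intro r _; rfl
  rw [Finset.sum_add_distrib, Finset.sum_add_distrib, h3, Finset.sum_const, nsmul_eq_mul,
    card_KK, zero_mul, zero_add] at h2
  have h4 : (2 : F) * ∑ r ∈ KK σ, ρ (e * a / (e + r)) = 0 := by linear_combination h2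
  exact (mul_eq_zero.1 h4).resolve_left D.two

open Classical in
theorem total {ρ : F → F} (hρ : ∀ a s B, Co σ e pt U s a B → t * s * t⁻¹ = s⁻¹ →
    rr σ e a B = ρ a) (hcls : ∀ r, r ≠ 0 → σ r = r → ∀ a, a ≠ 0 → ρ (r * a) = ρ a)
    (hKfix : ∀ a, a ≠ 0 → σ (ρ a) = ρ a) {a : F} (ha : a ≠ 0) :
    ρ (e * a) = - ∑ x : F, if x = 0 then 0 else ρ x := by
  have he := D.e0
  have two := D.two
  have hden : ∀ r, σ r = r → e + r ≠ 0 := by
    intro r hr h
    have h1 : σ (e + r) = 0 := by rw [h, map_zero]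
    rw [map_add, D.σe, hr] at h1
    have h2 : (2 : F) * e = 0 := by linear_combination h - h1
    exact (mul_ne_zero D.two he) h2
  have hea : e * a ≠ 0 := mul_ne_zero he ha
  -- reindex by `y ↦ e a / y`
  have s1 : (∑ x : F, if x = 0 then 0 else ρ x) =
      ∑ y : F, if y = 0 then 0 else ρ (e * a / y) := by
    refine Finset.sum_nbij' (fun x => e * a / x) (fun x => e * a / x) ?_ ?_ ?_ ?_ ?_
    · intro x _; exact Finset.mem_univ _
    · intro x _; exact Finset.mem_univ _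
    · intro x _
      by_cases hx : x = 0
      · simp [hx]
      · field_simp
    · intro x _
      by_cases hx : x = 0
      · simp [hx]
      · field_simp
    · intro x _
      by_cases hx : x = 0
      · simp [hx]
      · have h1 : e * a / x ≠ 0 := div_ne_zero hea hx
        rw [if_neg hx, if_neg h1]
        congr 1
        field_simp
  -- decompose `F = K + K e`
  have s2 : (∑ y : F, if y = 0 then 0 else ρ (e * a / y)) =
      ∑ β ∈ KK σ, ∑ α ∈ KK σ, (fun y => if y = 0 then (0 : F) else ρ (e * a / y)) (α + β * e) := by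
    rw [← Finset.sum_product']
    refine Finset.sum_nbij' (fun y => ((y - σ y) / (2 * e), (y + σ y) / 2))
      (fun p => p.2 + p.1 * e) ?_ ?_ ?_ ?_ ?_
    · intro y _
      rw [Finset.mem_product, mem_KK, mem_KK]
      constructor
      · change σ ((y - σ y) / (2 * e)) = (y - σ y) / (2 * e)
        rw [map_div₀, map_sub, D.σσ, map_mul, map_ofNat, D.σe]
        field_simp
        ring
      · change σ ((y + σ y) / 2) = (y + σ y) / 2
        rw [map_div₀, map_add, D.σσ, map_ofNat, add_comm]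
    · intro p _; exact Finset.mem_univ _
    · intro y _
      change (y + σ y) / 2 + (y - σ y) / (2 * e) * e = y
      field_simp
      ring
    · rintro ⟨β, α⟩ hp
      rw [Finset.mem_product, mem_KK, mem_KK] at hp
      obtain ⟨h1, h2⟩ := hp
      have h1' : σ β = β := h1
      have h2' : σ α = α := h2
      refine Prod.ext ?_ ?_
      · change (α + β * e - σ (α + β * e)) / (2 * e) = β
        rw [map_add, map_mul, h1', h2', D.σe]
        field_simp
        ring
      · change (α + β * e + σ (α + β * e)) / 2 = α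
        rw [map_add, map_mul, h1', h2', D.σe]
        field_simp
        ring
    · intro y _
      have : (y + σ y) / 2 + (y - σ y) / (2 * e) * e = y := by
        field_simp
        ring
      simp only [this]
  have h0 : (0 : F) ∈ KK σ := mem_KK.2 (map_zero σ)
  -- the inner sums
  have s3 : ∀ β ∈ (KK σ).erase 0,
      ∑ α ∈ KK σ, (fun y => if y = 0 then (0 : F) else ρ (e * a / y)) (α + β * e) = 0 := by
    intro β hβ
    rw [Finset.mem_erase, mem_KK] at hβ
    obtain ⟨hβ0, hβ⟩ := hβ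
    refine Eq.trans ?_ (sum_f D hρ hcls hKfix ha)
    refine Finset.sum_nbij' (fun α => α / β) (fun r => β * r) ?_ ?_ ?_ ?_ ?_
    · intro α hα
      rw [mem_KK] at hα ⊢
      rw [map_div₀, hα, hβ]
    · intro r hr
      rw [mem_KK] at hr ⊢
      rw [map_mul, hr, hβ]
    · intro α _; field_simp
    · intro r _; field_simp
    · intro α hα
      have hα' := mem_KK.1 hα
      have hr : σ (α / β) = α / β := by rw [map_div₀, hα', hβ]
      have h1 : α + β * e = β * (e + α / β) := by field_simp; ring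
      have h2 := hden _ hr
      have h3 : α + β * e ≠ 0 := by rw [h1]; exact mul_ne_zero hβ0 h2
      simp only [if_neg h3]
      have h4 : e * a / (α + β * e) = β⁻¹ * (e * a / (e + α / β)) := by
        rw [h1]
        rw [mul_comm β, div_mul_eq_div_div, div_eq_inv_mul _ β]
      rw [h4]
      exact hcls _ (inv_ne_zero hβ0) (by rw [map_inv₀, hβ]) _ (div_ne_zero hea h2)
  have s4 : ∑ α ∈ KK σ, (fun y => if y = 0 then (0 : F) else ρ (e * a / y)) (α + 0 * e) =
      - ρ (e * a) := by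
    rw [← Finset.add_sum_erase _ _ h0]
    have h1 : ∀ α ∈ (KK σ).erase 0,
        (fun y => if y = 0 then (0 : F) else ρ (e * a / y)) (α + 0 * e) = ρ (e * a) := by
      intro α hα
      rw [Finset.mem_erase, mem_KK] at hα
      obtain ⟨hα0, hα⟩ := hα
      simp only [zero_mul, add_zero, if_neg hα0]
      rw [div_eq_inv_mul]
      exact hcls _ (inv_ne_zero hα0) (by rw [map_inv₀, hα]) _ hea
    rw [Finset.sum_congr rfl h1, Finset.sum_const, nsmul_eq_mul,
      Finset.card_erase_of_mem h0, Nat.cast_sub (Finset.card_pos.2 ⟨0, h0⟩), card_KK]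
    simp
  rw [s1, s2, ← Finset.add_sum_erase _ _ h0, Finset.sum_eq_zero s3, add_zero, s4, neg_neg]

theorem rho_zero {ρ : F → F} (hρ : ∀ a s B, Co σ e pt U s a B → t * s * t⁻¹ = s⁻¹ →
    rr σ e a B = ρ a) (hcls : ∀ r, r ≠ 0 → σ r = r → ∀ a, a ≠ 0 → ρ (r * a) = ρ a)
    (h3 : (3 : F) = 0 → ∃ m, Nat.card U = 3 ^ m) {a : F} (ha : a ≠ 0) : ρ a = 0 := by
  have he := D.e0
  have hKfix : ∀ a, a ≠ 0 → σ (ρ a) = ρ a := by
    intro a ha
    obtain ⟨s, B, h1, h2⟩ := Sv_exists D (a := a)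
    rw [← hρ _ _ _ h1 h2]
    have hσa : σ a ≠ 0 := (map_ne_zero σ).2 ha
    have h4 := h1.2.1
    unfold Pt at h4
    unfold rr
    rw [map_sub, map_div₀, map_mul, D.σσ, D.σe]
    field_simp
    linear_combination (-1 : F) * h4
  have hconst : ∀ x y : F, x ≠ 0 → y ≠ 0 → ρ x = ρ y := by
    intro x y hx hy
    have h1 := total D hρ hcls hKfix (a := x / e) (div_ne_zero hx he)
    have h2 := total D hρ hcls hKfix (a := y / e) (div_ne_zero hy he)
    rw [mul_div_cancel₀ _ he] at h1 h2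
    rw [h1, h2]
  by_cases h30 : (3 : F) = 0
  · obtain ⟨m, hm⟩ := h3 h30
    obtain ⟨b, hb, hb0⟩ := exists_rho_zero D hρ hm
    rw [hconst a b ha hb, hb0]
  · obtain ⟨a', ha', h⟩ := rho_rel D hρ ha
    rw [hconst a' a ha' ha] at h
    have h1 : (3 : F) * ρ a = 0 := by linear_combination h
    exact (mul_eq_zero.1 h1).resolve_left h30

end

end Cfsg.Agent.ONan.StructU5
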