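import Cfsg.Agent.ONan.StructU
import Cfsg.Agent.ONan.StructU5

/-!
# Odd unitary type: the structure of `U` for a general index

The same as `Cfsg.Agent.ONan.StructU.unitaryAct_of_coordData`, but for a subgroup `Λ` of `Fˣ` whose index
is an arbitrary divisor of `q + 1`.
-/

set_option autoImplicit false

namespace Cfsg.Agent.ONan.StructUD

open Cfsg.Agent.ONan.Coord Cfsg.Agent.ONan.StructU1 Cfsg.Agent.ONan.StructU2
  Cfsg.Agent.ONan.StructU3 Cfsg.Agent.ONan.StructU4 Cfsg.Agent.ONan.StructU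

/-- `CoordData` with the condition on the index of `Λ` relaxed to `Λ.index ∣ q + 1`. -/
structure CoordDataD {G Ω F : Type*} [Group G] [MulAction G Ω] [Field F] (q : ℕ) (e : F)
    (Λ : Subgroup Fˣ) (inf : Ω) (pt : F → F → Ω) (U H : Subgroup G) (w t : G) : Prop where
  pt_ne : ∀ v y, IsPt q e v y → pt v y ≠ inf
  pt_inj : ∀ v y v' y', IsPt q e v y → IsPt q e v' y' → pt v y = pt v' y' → v = v' ∧ y = y'
  pt_surj : ∀ P, P ≠ inf → ∃ v y, IsPt q e v y ∧ pt v y = P
  /-- `U` fixes `inf`, is normalised by the stabiliser of `inf` and regular on the other points -/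
  U_inf : ∀ u ∈ U, u • inf = inf
  U_norm : ∀ g : G, g • inf = inf → ∀ u ∈ U, g * u * g⁻¹ ∈ U
  U_trans : ∀ P Q, P ≠ inf → Q ≠ inf → ∃ u ∈ U, u • P = Q
  U_free : ∀ P, P ≠ inf → ∀ u ∈ U, u • P = P → u = 1
  U_card : Nat.card U = q ^ 3
  /-- `H` is the stabiliser of `inf` and `pt 0 0` -/
  mem_H : ∀ g : G, g ∈ H ↔ g • inf = inf ∧ g • pt 0 0 = pt 0 0
  H_act : ∀ h ∈ H, ∃ ψ ∈ Λ, ∀ v y, IsPt q e v y →
    h • pt v y = pt ((ψ : F) ^ q * v) ((ψ : F) ^ (q + 1) * y)
  exists_H : ∀ ψ ∈ Λ, ∃ h ∈ H, ∀ v y, IsPt q e v y →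
    h • pt v y = pt ((ψ : F) ^ q * v) ((ψ : F) ^ (q + 1) * y)
  /-- the index of `Λ` in `Fˣ` -/
  Λ_index : Λ.index ∣ q + 1
  /-- `t` is the unique involution of `H` -/
  t_mem : t ∈ H
  t_ne : t ≠ 1
  t_sq : t * t = 1
  t_unique : ∀ x ∈ H, x * x = 1 → x = 1 ∨ x = t
  t_act : ∀ v y, IsPt q e v y → t • pt v y = pt (-v) y
  /-- the involution `w` swaps `inf` and `pt 0 0` -/
  w_sq : w * w = 1
  w_inf : w • inf = pt 0 0
  w_act : ∀ v y, IsPt q e v y → y ≠ 0 → w • pt v y = pt (e * v / y) (e ^ 2 / y)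
  w_conj : IsConj t w
  /-- the conjugates of `t` that move `inf` to `pt 0 0` are conjugate to `w` under `H` -/
  w_class : ∀ g, IsConj t g → g • inf = pt 0 0 → ∃ h ∈ H, g = h * w * h⁻¹
  /-- the elements of `U` centralising `t` are the translations `(v, y) ↦ (v, y + s)`, `s ^ q = s` -/
  exists_T : ∀ s : F, s ^ q = s → ∃ u ∈ U, u * t = t * u ∧
    ∀ v y, IsPt q e v y → u • pt v y = pt v (y + s)
  /-- the elements of `U` centralising `t` are central in `U` -/
  T_comm : ∀ u ∈ U, u * t = t * u → ∀ u' ∈ U, u * u' = u' * u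

/-- `CoordData` is a special case. -/
theorem coordDataD_of_coordData {G Ω F : Type*} [Group G] [MulAction G Ω] [Field F] {q : ℕ} {e : F}
    {Λ : Subgroup Fˣ} {inf : Ω} {pt : F → F → Ω} {U H : Subgroup G} {w t : G}
    (D : CoordData q e Λ inf pt U H w t) : CoordDataD q e Λ inf pt U H w t :=
  { pt_ne := D.pt_ne, pt_inj := D.pt_inj, pt_surj := D.pt_surj, U_inf := D.U_inf
    U_norm := D.U_norm, U_trans := D.U_trans, U_free := D.U_free, U_card := D.U_card
    mem_H := D.mem_H, H_act := D.H_act, exists_H := D.exists_H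
    Λ_index := by rw [D.Λ_index]; exact Nat.gcd_dvd_right _ _
    t_mem := D.t_mem, t_ne := D.t_ne, t_sq := D.t_sq, t_unique := D.t_unique, t_act := D.t_act
    w_sq := D.w_sq, w_inf := D.w_inf, w_act := D.w_act, w_conj := D.w_conj
    w_class := D.w_class, exists_T := D.exists_T, T_comm := D.T_comm }

theorem unitaryAct_of_coordDataD {G Ω F : Type*} [Group G] [Finite G] [MulAction G Ω]
    [FaithfulSMul G Ω] [Field F] [Fintype F] {p n q : ℕ} (hp : p.Prime) (hp2 : p ≠ 2)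
    (hn : 1 ≤ n) (hq : q = p ^ n) (hF : Fintype.card F = q ^ 2) {e : F} (he : e ^ q = -e)
    (he0 : e ≠ 0) {Λ : Subgroup Fˣ} {inf : Ω} {pt : F → F → Ω} {U H : Subgroup G} {w t : G}
    (D : CoordDataD q e Λ inf pt U H w t) : UnitaryAct q e inf pt U w := by
  classical
  have : Fact p.Prime := ⟨hp⟩
  have hF' : Fintype.card F = p ^ (n * 2) := by rw [hF, hq, pow_mul]
  have : CharP F p := charP_of_card_eq_prime_pow hF'
  have : ExpChar F p := ExpChar.prime hp
  set σ : F →+* F := iterateFrobenius F p n with hσ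
  have hσq : ∀ x, σ x = x ^ q := by
    intro x
    rw [hσ, iterateFrobenius_def, hq]
  have hσσ : ∀ x, σ (σ x) = x := by
    intro x
    rw [hσq, hσq, ← pow_mul, ← pow_two, ← hF, FiniteField.pow_card]
  have hσe : σ e = -e := by rw [hσq, he]
  have two : (2 : F) ≠ 0 := by
    intro h
    have h2 : ((2 : ℕ) : F) = 0 := by exact_mod_cast h
    rw [CharP.cast_eq_zero_iff F p] at h2
    exact hp2 ((Nat.prime_dvd_prime_iff_eq hp Nat.prime_two).1 h2)
  have hqodd : Odd q := by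
    rw [hq]
    exact (hp.odd_of_ne_two hp2).pow
  have hq0 : (q : F) = 0 := by
    rw [hq, Nat.cast_pow, CharP.cast_eq_zero, zero_pow (by omega)]
  have hq1 : 1 < q := by
    rw [hq]
    exact Nat.one_lt_pow (by omega) hp.one_lt
  have hpt : ∀ v y : F, IsPt q e v y ↔ Pt σ e v y := by
    intro v y
    unfold IsPt Pt
    rw [hσq, hσq, pow_succ, mul_comm (v ^ q) v]
  have hψ : ∀ ψ : F, ψ ^ (q + 1) = ψ * σ ψ := by
    intro ψ
    rw [hσq, pow_succ, mul_comm]
  have C : Core σ e Λ inf pt U H w t := by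
    refine
      { σσ := hσσ, σe := hσe, e0 := he0, two := two
        odd := by rw [D.U_card]; exact hqodd.pow
        pt_ne := fun v y h => D.pt_ne v y ((hpt v y).2 h)
        pt_inj := fun v y v' y' h h' => D.pt_inj v y v' y' ((hpt v y).2 h) ((hpt v' y').2 h')
        pt_surj := ?_, U_inf := D.U_inf, U_norm := D.U_norm, U_trans := D.U_trans
        U_free := D.U_free, mem_H := D.mem_H, H_act := ?_, exists_H := ?_
        t_mem := D.t_mem, t_ne := D.t_ne, t_sq := D.t_sq, t_unique := D.t_unique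
        t_act := fun v y h => D.t_act v y ((hpt v y).2 h)
        w_sq := D.w_sq, w_inf := D.w_inf
        w_act := fun v y h => D.w_act v y ((hpt v y).2 h)
        w_class := D.w_class, exists_T := ?_, T_comm := D.T_comm }
    · intro P hP
      obtain ⟨v, y, h1, h2⟩ := D.pt_surj P hP
      exact ⟨v, y, (hpt v y).1 h1, h2⟩
    · intro h hh
      obtain ⟨ψ, h1, h2⟩ := D.H_act h hh
      refine ⟨ψ, h1, fun v y hvy => ?_⟩
      rw [← hψ, hσq]
      exact h2 v y ((hpt v y).2 hvy)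
    · intro ψ hψΛ
      obtain ⟨h, h1, h2⟩ := D.exists_H ψ hψΛ
      refine ⟨h, h1, fun v y hvy => ?_⟩
      rw [← hψ, hσq]
      exact h2 v y ((hpt v y).2 hvy)
    · intro s hs
      obtain ⟨u, h1, h2, h3⟩ := D.exists_T s (by rw [← hσq, hs])
      exact ⟨u, h1, h2, fun v y hvy => h3 v y ((hpt v y).2 hvy)⟩
  -- facts about `Λ`
  have hΛ : ∀ χ ∈ Λ, ∃ ψ ∈ Λ, (ψ : F) = σ (χ : Fˣ) := by
    intro χ hχ
    exact ⟨χ ^ q, pow_mem hχ q, by rw [hσq, Units.val_pow_eq_pow_val]⟩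
  have hfixΛ : ∀ r : Fˣ, σ (r : F) = r → r ∈ Λ := by
    intro r hr
    rw [hσq] at hr
    have h1 : r ^ (q - 1) = 1 := by
      have h2 : r ^ q = r := by
        ext
        rw [Units.val_pow_eq_pow_val, hr]
      have h3 : r ^ (q - 1) * r = 1 * r := by
        rw [← pow_succ, Nat.sub_add_cancel hq1.le, h2, one_mul]
      exact mul_right_cancel h3
    have hcard : Nat.card Fˣ = (q - 1) * (q + 1) := by
      rw [Nat.card_eq_fintype_card, Fintype.card_units, hF]
      have := Nat.sq_sub_sq q 1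
      rw [one_pow] at this
      rw [this, mul_comm]
    obtain ⟨y, hy⟩ := exists_pow_of_cyclic (by omega) hcard h1
    obtain ⟨c, hc⟩ := D.Λ_index
    rw [← hy, hc, mul_comm, pow_mul]
    exact Subgroup.pow_index_mem Λ _
  obtain ⟨ρ, hρ⟩ := exists_rho C
  have hcls : ∀ r, r ≠ 0 → σ r = r → ∀ a, a ≠ 0 → ρ (r * a) = ρ a := by
    intro r hr hσr a ha
    exact rho_class C hρ hΛ (hfixΛ (Units.mk0 r hr) hσr) ha
  have h3 : (3 : F) = 0 → ∃ m, Nat.card U = 3 ^ m := by
    intro h3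
    have hp3 : p = 3 := by
      have h2 : ((3 : ℕ) : F) = 0 := by exact_mod_cast h3
      rw [CharP.cast_eq_zero_iff F p] at h2
      exact (Nat.prime_dvd_prime_iff_eq hp Nat.prime_three).1 h2
    exact ⟨n * 3, by rw [D.U_card, hq, hp3, pow_mul]⟩
  have hρ0 : ∀ a, a ≠ 0 → ρ a = 0 := fun a ha =>
    Cfsg.Agent.ONan.StructU5.rho_zero C hρ hcls h3 ha
  have hinv : ∀ u a A, Co σ e pt U u a A → Co σ e pt U u⁻¹ (-a) (- σ A) :=
    fun u a A h => co_inv C hρ hρ0 h
  have hfix : ∀ r : F, r ≠ 0 → σ r = r → ∃ h ∈ H, ∀ v y, Pt σ e v y →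
      h • pt v y = pt (σ r * v) (r * σ r * y) := by
    intro r hr hσr
    exact C.exists_H (Units.mk0 r hr) (hfixΛ (Units.mk0 r hr) hσr)
  have hmul := mul_formula C hinv hq0 hσq hfix
  refine
    { pt_ne := D.pt_ne, pt_inj := D.pt_inj, pt_surj := D.pt_surj, U_inf := D.U_inf
      U_act := ?_, w_inf := D.w_inf, w_zero := w_O C, w_act := D.w_act }
  intro u hu
  obtain ⟨a, A, h⟩ := co_ex C hu
  refine ⟨a, A, (hpt a A).2 h.2.1, fun v y hvy => ?_⟩
  rw [hmul u a A h v y ((hpt v y).1 hvy), hσq]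

end Cfsg.Agent.ONan.StructUD
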